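import Mathlib.GroupTheory.Sylow
import Mathlib.GroupTheory.Transfer
import Mathlib.GroupTheory.SpecificGroups.Cyclic
import Mathlib.NumberTheory.Basic
import Cfsg.Prelude.Def_Transfer

set_option autoImplicit false

namespace Cfsg.Agent.Helper49

open Subgroup

variable {G : Type*} [Group G]

theorem conj_pow_iter (g u : G) (k : ℕ) (h : g * u * g⁻¹ = u ^ k) :
    ∀ t : ℕ, g ^ t * u * (g ^ t)⁻¹ = u ^ (k ^ t) := by
  intro t
  induction t with
  | zero => simp
  | succ t ih =>
    have : g ^ (t + 1) * u * (g ^ (t + 1))⁻¹ = g * (g ^ t * u * (g ^ t)⁻¹) * g⁻¹ := by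
      rw [pow_succ']; group
    rw [this, ih, ← conj_pow, h, ← pow_mul, pow_succ, mul_comm]

theorem mem_of_pow_mem_of_coprime (H : Subgroup G) (g : G) (a b : ℕ) (hab : Nat.Coprime a b)
    (ha : g ^ a ∈ H) (hb : g ^ b ∈ H) : g ∈ H := by
  have h1 : (Nat.gcd a b : ℤ) = a * Nat.gcdA a b + b * Nat.gcdB a b := Nat.gcd_eq_gcd_ab a b
  rw [hab] at h1
  have h2 : g = (g ^ a) ^ (Nat.gcdA a b) * (g ^ b) ^ (Nat.gcdB a b) := by
    rw [← zpow_natCast, ← zpow_natCast, ← zpow_mul, ← zpow_mul, ← zpow_add, ← h1]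
    simp
  rw [h2]
  exact H.mul_mem (H.zpow_mem ha _) (H.zpow_mem hb _)

/-- If `P` is a cyclic Sylow `p`-subgroup and some nontrivial element of `P` is fixed by
conjugation by every element of the normalizer of `P`, then `N(P) ≤ C(P)`. -/
theorem normalizer_le_centralizer_of_cyclic_sylow [Finite G] {p : ℕ} [Fact p.Prime] (P : Sylow p G)
    (hcyc : IsCyclic ↥(P : Subgroup G)) (z : G) (hzP : z ∈ (P : Subgroup G)) (hz1 : z ≠ 1)
    (hfix : ∀ g ∈ Subgroup.normalizer ((P : Subgroup G) : Set G), g * z * g⁻¹ = z) :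
    Subgroup.normalizer ((P : Subgroup G) : Set G) ≤
      Subgroup.centralizer ((P : Subgroup G) : Set G) := by
  have hp : p.Prime := Fact.out
  obtain ⟨u', hu'⟩ := hcyc.exists_generator
  set u : G := (u' : G) with hu
  have huP : u ∈ (P : Subgroup G) := u'.2
  have hpowZ : ∀ y ∈ (P : Subgroup G), ∃ j : ℤ, y = u ^ j := by
    intro y hy
    obtain ⟨j, hj⟩ := Subgroup.mem_zpowers_iff.mp (hu' ⟨y, hy⟩)
    refine ⟨j, ?_⟩
    have := congrArg Subtype.val hj
    simpa using this.symm
  have hufin : IsOfFinOrder u := isOfFinOrder_of_finite u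
  have hpow : ∀ y ∈ (P : Subgroup G), ∃ j : ℕ, y = u ^ j := by
    intro y hy
    obtain ⟨j, hj⟩ := hpowZ y hy
    have : y ∈ Subgroup.zpowers u := ⟨j, hj.symm⟩
    rw [← mem_powers_iff_mem_zpowers] at this
    obtain ⟨n, hn⟩ := this
    exact ⟨n, hn.symm⟩
  obtain ⟨m, hm⟩ := P.2.exists_card_eq
  have hord : orderOf u = p ^ m := by
    rw [← hm, ← orderOf_eq_card_of_forall_mem_zpowers hu', hu, Subgroup.orderOf_coe]
  -- m ≥ 1
  have hm1 : m ≠ 0 := by
    intro h0
    rw [h0, pow_zero] at hord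
    have hu1 : u = 1 := orderOf_eq_one_iff.mp hord
    obtain ⟨j, hj⟩ := hpow z hzP
    rw [hu1, one_pow] at hj
    exact hz1 hj
  obtain ⟨m', rfl⟩ := Nat.exists_eq_succ_of_ne_zero hm1
  -- centralizing u is enough
  have hcent : ∀ g : G, g * u * g⁻¹ = u → g ∈ Subgroup.centralizer ((P : Subgroup G) : Set G) := by
    intro g hg
    rw [Subgroup.mem_centralizer_iff]
    intro y hy
    obtain ⟨j, rfl⟩ := hpow y hy
    have hgu : g * u = u * g := by
      calc g * u = (g * u * g⁻¹) * g := by group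
        _ = u * g := by rw [hg]
    exact ((Commute.pow_right (show Commute g u from hgu) j).eq).symm
  -- key: for g in the normalizer, g ^ (p ^ m') centralizes P
  have hkey : ∀ g ∈ Subgroup.normalizer ((P : Subgroup G) : Set G),
      g ^ (p ^ m') ∈ Subgroup.centralizer ((P : Subgroup G) : Set G) := by
    intro g hg
    have hguP : g * u * g⁻¹ ∈ (P : Subgroup G) := (Subgroup.mem_normalizer_iff.mp hg u).mp huP
    obtain ⟨k, hk⟩ := hpow _ hguP
    obtain ⟨j, hj⟩ := hpow z hzP
    have hzk : z ^ k = z ^ 1 := by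
      have h1 : g * z * g⁻¹ = z ^ k := by
        rw [hj, ← conj_pow, hk, ← pow_mul, ← pow_mul, mul_comm]
      rw [pow_one, ← h1, hfix g hg]
    rw [pow_eq_pow_iff_modEq] at hzk
    -- p ∣ orderOf z
    have hpz : p ∣ orderOf z := by
      have hdvd : orderOf z ∣ p ^ (m' + 1) := by
        rw [← hord, hj]; exact orderOf_pow_dvd j
      obtain ⟨a, -, ha⟩ := (Nat.dvd_prime_pow hp).mp hdvd
      rcases a with _ | a
      · rw [pow_zero] at ha
        exact absurd (orderOf_eq_one_iff.mp ha) hz1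
      · rw [ha, pow_succ]; exact dvd_mul_left _ _
    have hk1 : k ≡ 1 [MOD p] := hzk.of_dvd hpz
    have hk1' : (p : ℤ) ∣ (k : ℤ) - 1 := by
      have := (Int.natCast_modEq_iff.mpr hk1).symm
      exact_mod_cast (Int.modEq_iff_dvd.mp this)
    have hdiv := dvd_sub_pow_of_dvd_sub hk1' m'
    rw [one_pow] at hdiv
    have hmod : k ^ p ^ m' ≡ 1 [MOD p ^ (m' + 1)] := by
      apply Int.natCast_modEq_iff.mp
      apply Int.ModEq.symm
      apply Int.modEq_iff_dvd.mpr
      exact_mod_cast hdiv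
    have hiter := conj_pow_iter g u k hk (p ^ m')
    apply hcent
    rw [hiter]
    have : u ^ (k ^ p ^ m') = u ^ 1 := by
      rw [pow_eq_pow_iff_modEq, hord]; exact hmod
    rw [this, pow_one]
  -- now the coprimality argument
  intro g hg
  set N : Subgroup G := Subgroup.normalizer ((P : Subgroup G) : Set G) with hN
  set C : Subgroup G := Subgroup.centralizer ((P : Subgroup G) : Set G) with hC
  have hPC : (P : Subgroup G) ≤ C := by
    intro y hy
    rw [hC, Subgroup.mem_centralizer_iff]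
    intro w hw
    obtain ⟨j, rfl⟩ := hpow y hy
    obtain ⟨i, rfl⟩ := hpow w hw
    exact ((Commute.refl u).pow_pow i j).eq
  have hCN : C ≤ N := Subgroup.centralizer_le_normalizer _
  have hnormal : (C.subgroupOf N).Normal := by
    constructor
    intro c hc n
    rw [Subgroup.mem_subgroupOf] at hc ⊢
    rw [hC, Subgroup.mem_centralizer_iff] at hc ⊢
    intro y hy
    have hy' : (n : G)⁻¹ * y * (n : G) ∈ (P : Subgroup G) := by
      have := (Subgroup.mem_normalizer_iff.mp (N.inv_mem n.2) y).mp hy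
      simpa using this
    have := hc _ hy'
    simp only [Subgroup.coe_mul, Subgroup.coe_inv]
    calc y * (↑n * ↑c * (↑n)⁻¹) = ↑n * (((↑n)⁻¹ * y * ↑n) * ↑c) * (↑n)⁻¹ := by group
      _ = ↑n * (↑c * ((↑n)⁻¹ * y * ↑n)) * (↑n)⁻¹ := by rw [this]
      _ = ↑n * ↑c * (↑n)⁻¹ * y := by group
  have hidx : ¬ p ∣ (C.subgroupOf N).index := by
    intro hdvd
    have h1 : C.relIndex N ∣ (P : Subgroup G).relIndex N := Subgroup.relIndex_dvd_of_le_left N hPC
    have h2 : (P : Subgroup G).relIndex N * N.index = (P : Subgroup G).index :=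
      Subgroup.relIndex_mul_index Subgroup.le_normalizer
    have h3 : p ∣ (P : Subgroup G).index := by
      rw [← h2]
      exact Dvd.dvd.mul_right (hdvd.trans h1) _
    exact P.not_dvd_index h3
  let g' : N := ⟨g, hg⟩
  have ha : g' ^ (p ^ m') ∈ C.subgroupOf N := by
    rw [Subgroup.mem_subgroupOf]
    simpa using hkey g hg
  have hb : g' ^ (C.subgroupOf N).index ∈ C.subgroupOf N := Subgroup.pow_index_mem _ g'
  have hcop : Nat.Coprime (p ^ m') (C.subgroupOf N).index :=
    Nat.Coprime.pow_left _ ((Nat.Prime.coprime_iff_not_dvd hp).mpr hidx)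
  have := mem_of_pow_mem_of_coprime (C.subgroupOf N) g' _ _ hcop ha hb
  rw [Subgroup.mem_subgroupOf] at this
  exact this

/-- A finite group with a cyclic Sylow `p`-subgroup `P` such that `N(P)` fixes a nontrivial element of
`P` has a normal `p`-complement. -/
theorem hasNormalPComplement_of_cyclic_sylow [Finite G] {p : ℕ} [Fact p.Prime] (P : Sylow p G)
    (hcyc : IsCyclic ↥(P : Subgroup G)) (z : G) (hzP : z ∈ (P : Subgroup G)) (hz1 : z ≠ 1)
    (hfix : ∀ g ∈ Subgroup.normalizer ((P : Subgroup G) : Set G), g * z * g⁻¹ = z) :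
    Cfsg.HasNormalPComplement p G := by
  have hNC := normalizer_le_centralizer_of_cyclic_sylow P hcyc z hzP hz1 hfix
  exact ⟨P, (MonoidHom.transferSylow P hNC).ker, inferInstance,
    MonoidHom.ker_transferSylow_isComplement' P hNC⟩

end Cfsg.Agent.Helper49
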