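import Mathlib.GroupTheory.Sylow
import Mathlib.GroupTheory.Index
import Mathlib.Data.Set.Finite.Lemmas
import Mathlib.GroupTheory.Subgroup.Centralizer
import Cfsg.Prelude.Def_Solvable

set_option autoImplicit false

namespace Cfsg.Agent.Helper49

open Subgroup

variable {G : Type*} [Group G]

theorem card_sup_dvd_mul [Finite G] (A B : Subgroup G) [B.Normal] :
    Nat.card ↥(A ⊔ B) ∣ Nat.card A * Nat.card B := by
  have h1 : Nat.card B * B.relIndex (A ⊔ B) = Nat.card ↥(A ⊔ B) := by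
    rw [← Subgroup.relIndex_bot_left, ← Subgroup.relIndex_bot_left (H := A ⊔ B)]
    exact Subgroup.relIndex_mul_relIndex ⊥ B (A ⊔ B) bot_le le_sup_right
  rw [Subgroup.relIndex_sup_right] at h1
  rw [← h1, mul_comm]
  exact mul_dvd_mul_right (Subgroup.relIndex_dvd_card B A) _

/-- For a finite group, a family of subgroups containing `⊥` and closed under binary joins
contains its supremum. -/
theorem sSup_mem_of_sup_closed [Finite G] (S : Set (Subgroup G)) (hbot : ⊥ ∈ S)
    (hsup : ∀ A ∈ S, ∀ B ∈ S, A ⊔ B ∈ S) : sSup S ∈ S := by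
  obtain ⟨M, hMS, hM⟩ := Set.exists_max_image S (fun A : Subgroup G => Nat.card A)
    (Set.toFinite S) ⟨⊥, hbot⟩
  have hle : ∀ N ∈ S, N ≤ M := by
    intro N hN
    have h1 : N ⊔ M ∈ S := hsup N hN M hMS
    have h2 : Nat.card ↥(N ⊔ M) ≤ Nat.card M := hM _ h1
    have h3 : M = N ⊔ M := Subgroup.eq_of_le_of_card_ge le_sup_right h2
    rw [h3]
    exact le_sup_left
  have : sSup S = M := le_antisymm (sSup_le hle) (le_sSup hMS)
  rw [this]
  exact hMS

theorem pPrimeCore_mem [Finite G] (p : ℕ) :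
    (Cfsg.pPrimeCore p G).Normal ∧ (Nat.card (Cfsg.pPrimeCore p G)).Coprime p := by
  apply sSup_mem_of_sup_closed {N : Subgroup G | N.Normal ∧ (Nat.card N).Coprime p}
  · refine ⟨inferInstance, ?_⟩
    simp
  · rintro A ⟨hA, hA'⟩ B ⟨hB, hB'⟩
    refine ⟨inferInstance, ?_⟩
    exact Nat.Coprime.coprime_dvd_left (card_sup_dvd_mul A B) (Nat.Coprime.mul_left hA' hB')

theorem pPrimeCore_card_coprime [Finite G] (p : ℕ) :
    (Nat.card (Cfsg.pPrimeCore p G)).Coprime p := (pPrimeCore_mem p).2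

theorem pPrimeCore_normal' (p : ℕ) : (Cfsg.pPrimeCore p G).Normal :=
  Subgroup.sSup_normal _ (fun _ h => h.1)

theorem le_pPrimeCore (p : ℕ) (N : Subgroup G) (hN : N.Normal) (h : (Nat.card N).Coprime p) :
    N ≤ Cfsg.pPrimeCore p G :=
  le_sSup ⟨hN, h⟩

theorem pCore_mem [Finite G] (p : ℕ) [Fact p.Prime] :
    (Cfsg.pCore p G).Normal ∧ IsPGroup p (Cfsg.pCore p G) := by
  apply sSup_mem_of_sup_closed {N : Subgroup G | N.Normal ∧ IsPGroup p N}
  · exact ⟨inferInstance, IsPGroup.of_bot⟩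
  · rintro A ⟨hA, hA'⟩ B ⟨hB, hB'⟩
    exact ⟨inferInstance, hA'.to_sup_of_normal_right hB'⟩

theorem pCore_isPGroup [Finite G] (p : ℕ) [Fact p.Prime] : IsPGroup p (Cfsg.pCore p G) :=
  (pCore_mem p).2

theorem pCore_normal' (p : ℕ) : (Cfsg.pCore p G).Normal :=
  Subgroup.sSup_normal _ (fun _ h => h.1)

theorem le_pCore (p : ℕ) (N : Subgroup G) (hN : N.Normal) (h : IsPGroup p N) :
    N ≤ Cfsg.pCore p G :=
  le_sSup ⟨hN, h⟩

theorem pPrimeCore_map_mulEquiv_le {L L' : Type*} [Group L] [Group L'] (p : ℕ) (ψ : L ≃* L') :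
    (Cfsg.pPrimeCore p L).map ψ.toMonoidHom ≤ Cfsg.pPrimeCore p L' := by
  unfold Cfsg.pPrimeCore
  rw [Subgroup.map_le_iff_le_comap]
  apply sSup_le
  rintro N ⟨hN, hN'⟩
  rw [← Subgroup.map_le_iff_le_comap]
  apply le_sSup
  refine ⟨?_, ?_⟩
  · exact Subgroup.Normal.map hN ψ.toMonoidHom ψ.surjective
  · have : Nat.card (N.map ψ.toMonoidHom) = Nat.card N :=
      Nat.card_congr (N.equivMapOfInjective ψ.toMonoidHom ψ.injective).toEquiv.symm
    rw [this]; exact hN'

/-- Transport of the `p'`-core along an isomorphism. -/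
theorem pPrimeCore_map_mulEquiv {K K' : Type*} [Group K] [Group K'] (p : ℕ) (φ : K ≃* K') :
    (Cfsg.pPrimeCore p K).map φ.toMonoidHom = Cfsg.pPrimeCore p K' := by
  apply le_antisymm (pPrimeCore_map_mulEquiv_le p φ)
  have h2 := pPrimeCore_map_mulEquiv_le p φ.symm
  rw [Subgroup.map_le_iff_le_comap] at h2
  intro y hy
  have := h2 hy
  rw [Subgroup.mem_comap] at this
  exact ⟨φ.symm y, this, by simp⟩

theorem pCore_map_mulEquiv_le {L L' : Type*} [Group L] [Group L'] (p : ℕ) (ψ : L ≃* L') :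
    (Cfsg.pCore p L).map ψ.toMonoidHom ≤ Cfsg.pCore p L' := by
  unfold Cfsg.pCore
  rw [Subgroup.map_le_iff_le_comap]
  apply sSup_le
  rintro N ⟨hN, hN'⟩
  rw [← Subgroup.map_le_iff_le_comap]
  apply le_sSup
  exact ⟨Subgroup.Normal.map hN ψ.toMonoidHom ψ.surjective, hN'.map _⟩

theorem pCore_map_mulEquiv {K K' : Type*} [Group K] [Group K'] (p : ℕ) (φ : K ≃* K') :
    (Cfsg.pCore p K).map φ.toMonoidHom = Cfsg.pCore p K' := by
  apply le_antisymm (pCore_map_mulEquiv_le p φ)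
  have h2 := pCore_map_mulEquiv_le p φ.symm
  rw [Subgroup.map_le_iff_le_comap] at h2
  intro y hy
  have := h2 hy
  rw [Subgroup.mem_comap] at this
  exact ⟨φ.symm y, this, by simp⟩

/-- If `g` normalizes `K`, conjugation by `g` preserves the image of `O_{p'}(K)`. -/
theorem conj_mem_map_pPrimeCore (p : ℕ) (K : Subgroup G) (g : G)
    (hg : g ∈ Subgroup.normalizer (K : Set G)) (y : G)
    (hy : y ∈ (Cfsg.pPrimeCore p K).map K.subtype) :
    g * y * g⁻¹ ∈ (Cfsg.pPrimeCore p K).map K.subtype := by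
  obtain ⟨k, hk, rfl⟩ := hy
  let φ : K ≃* K := Subgroup.normalizerMonoidHom K ⟨g, hg⟩
  have h1 := pPrimeCore_map_mulEquiv p φ
  have h2 : φ k ∈ Cfsg.pPrimeCore p K := by
    rw [← h1]; exact ⟨k, hk, rfl⟩
  exact ⟨φ k, h2, rfl⟩

theorem conj_mem_map_pCore (p : ℕ) (K : Subgroup G) (g : G)
    (hg : g ∈ Subgroup.normalizer (K : Set G)) (y : G)
    (hy : y ∈ (Cfsg.pCore p K).map K.subtype) :
    g * y * g⁻¹ ∈ (Cfsg.pCore p K).map K.subtype := by
  obtain ⟨k, hk, rfl⟩ := hy
  let φ : K ≃* K := Subgroup.normalizerMonoidHom K ⟨g, hg⟩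
  have h1 := pCore_map_mulEquiv p φ
  have h2 : φ k ∈ Cfsg.pCore p K := by
    rw [← h1]; exact ⟨k, hk, rfl⟩
  exact ⟨φ k, h2, rfl⟩

/-- The `p'`-core of a normal subgroup lies in the `p'`-core of the group. -/
theorem map_pPrimeCore_le [Finite G] (p : ℕ) (K : Subgroup G) [hK : K.Normal] :
    (Cfsg.pPrimeCore p K).map K.subtype ≤ Cfsg.pPrimeCore p G := by
  apply le_pPrimeCore
  · constructor
    intro y hy g
    apply conj_mem_map_pPrimeCore p K g _ y hy
    rw [Subgroup.normalizer_eq_top]; trivial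
  · have : Nat.card ((Cfsg.pPrimeCore p K).map K.subtype) = Nat.card (Cfsg.pPrimeCore p K) :=
      Nat.card_congr ((Cfsg.pPrimeCore p K).equivMapOfInjective K.subtype
        K.subtype_injective).toEquiv.symm
    rw [this]
    exact pPrimeCore_card_coprime p

/-- `O_{p'}(G / O_{p'}(G)) = 1`. -/
theorem pPrimeCore_quotient_eq_bot [Finite G] (p : ℕ) :
    haveI := pPrimeCore_normal' (G := G) p
    Cfsg.pPrimeCore p (G ⧸ Cfsg.pPrimeCore p G) = ⊥ := by
  have := pPrimeCore_normal' (G := G) p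
  set D := Cfsg.pPrimeCore p G with hD
  set Dbar := Cfsg.pPrimeCore p (G ⧸ D) with hDbar
  have hDbarN : Dbar.Normal := pPrimeCore_normal' p
  let E : Subgroup G := Dbar.comap (QuotientGroup.mk' D)
  have hEn : E.Normal := hDbarN.comap _
  have hDE : D ≤ E := by
    intro d hd
    show (QuotientGroup.mk' D) d ∈ Dbar
    have h1 : (QuotientGroup.mk' D) d = 1 := (QuotientGroup.eq_one_iff d).mpr hd
    rw [h1]
    exact Dbar.one_mem
  have hcard : Nat.card E = Nat.card D * Nat.card Dbar := by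
    have h1 : Nat.card D * D.relIndex E = Nat.card E := by
      rw [← Subgroup.relIndex_bot_left, ← Subgroup.relIndex_bot_left (H := E)]
      exact Subgroup.relIndex_mul_relIndex ⊥ D E bot_le hDE
    have h2 : D.relIndex E = Nat.card Dbar := by
      have hker : D = (⊥ : Subgroup (G ⧸ D)).comap (QuotientGroup.mk' D) :=
        (QuotientGroup.ker_mk' D).symm
      conv_lhs => rw [hker]
      rw [Subgroup.relIndex_comap, Subgroup.relIndex_bot_left]
      have : E.map (QuotientGroup.mk' D) = Dbar :=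
        Subgroup.map_comap_eq_self_of_surjective (QuotientGroup.mk'_surjective D) Dbar
      rw [this]
    rw [← h1, h2]
  have hEcop : (Nat.card E).Coprime p := by
    rw [hcard]
    exact Nat.Coprime.mul_left (pPrimeCore_card_coprime p) (pPrimeCore_card_coprime p)
  have hED : E ≤ D := le_pPrimeCore p E hEn hEcop
  rw [eq_bot_iff]
  intro y hy
  obtain ⟨g, rfl⟩ := QuotientGroup.mk_surjective y
  have hgE : g ∈ E := hy
  have hgD : g ∈ D := hED hgE
  rw [Subgroup.mem_bot]
  exact (QuotientGroup.eq_one_iff g).mpr hgD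

/-- `|A ⊔ B|` divides `|A| * |B|` when `A` normalizes `B`. -/
theorem card_sup_dvd_mul' [Finite G] (A B : Subgroup G) (hAB : A ≤ Subgroup.normalizer (B : Set G)) :
    Nat.card ↥(A ⊔ B) ∣ Nat.card A * Nat.card B := by
  have : (B.subgroupOf (A ⊔ B)).Normal := Subgroup.normal_subgroupOf_sup_of_le_normalizer hAB
  have h := card_sup_dvd_mul (A.subgroupOf (A ⊔ B)) (B.subgroupOf (A ⊔ B))
  rw [← Subgroup.subgroupOf_sup le_sup_left le_sup_right, Subgroup.subgroupOf_self,
    Subgroup.card_top] at h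
  rwa [Nat.card_congr (Subgroup.subgroupOfEquivOfLe (le_sup_left : A ≤ A ⊔ B)).toEquiv,
    Nat.card_congr (Subgroup.subgroupOfEquivOfLe (le_sup_right : B ≤ A ⊔ B)).toEquiv] at h

theorem card_map_subtype (K : Subgroup G) (L : Subgroup K) :
    Nat.card (L.map K.subtype) = Nat.card L :=
  Nat.card_congr (L.equivMapOfInjective K.subtype K.subtype_injective).toEquiv.symm

end Cfsg.Agent.Helper49
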