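import Mathlib.GroupTheory.Sylow
import Mathlib.GroupTheory.IndexNormal
import Mathlib.GroupTheory.SpecificGroups.Cyclic
import Mathlib.NumberTheory.Multiplicity
import Mathlib.FieldTheory.Finite.Basic
import Cfsg.Agent.Lib.Helper49.CyclicSylow
import Cfsg.Agent.Lib.Helper49.PPrimeCore

set_option autoImplicit false

namespace Cfsg.Agent.Helper49

open Subgroup Finset

/-- `(b u)^k = b^k u^(1 + s + ... + s^(k-1))` when `b⁻¹ u b = u^s`. -/
theorem mul_pow_of_conj {H : Type*} [Group H] (b u : H) (s : ℕ) (h : b⁻¹ * u * b = u ^ s) :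
    ∀ k : ℕ, (b * u) ^ k = b ^ k * u ^ (∑ j ∈ range k, s ^ j) := by
  intro k
  induction k with
  | zero => simp
  | succ k ih =>
    have hconj : ∀ m : ℕ, b⁻¹ * u ^ m * b = u ^ (s * m) := by
      intro m
      have : b⁻¹ * u ^ m * b = (b⁻¹ * u * b) ^ m := by
        have := conj_pow (a := b⁻¹) (b := u) (i := m)
        simpa using this.symm
      rw [this, h, ← pow_mul]
    have hsum : ∑ j ∈ range (k + 1), s ^ j = s * (∑ j ∈ range k, s ^ j) + 1 := by
      rw [Finset.sum_range_succ', Finset.mul_sum]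
      simp [pow_succ, mul_comm]
    rw [pow_succ, ih, hsum, pow_succ]
    have h3 : u ^ (s * ∑ j ∈ range k, s ^ j + 1) = (b⁻¹ * u ^ (∑ j ∈ range k, s ^ j) * b) * u := by
      rw [pow_succ, hconj]
    rw [h3]
    group

/-- number-theoretic core: for `p` odd and `s ≡ 1 (mod p)`, the geometric sum `1 + s + ... + s^(p-1)`
equals `p * σ` with `σ ≡ 1 (mod p)`. -/
theorem geom_sum_eq_p_mul (p : ℕ) (hp : p.Prime) (hodd : p ≠ 2) (s : ℕ)
    (hs : (s : ZMod p) = 1) :
    ∃ c : ℤ, ((∑ j ∈ range p, s ^ j : ℕ) : ℤ) = p * (1 + p * c) := by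
  have hodd' : Odd p := hp.odd_of_ne_two hodd
  have h1 : (p : ℤ) ∣ (s : ℤ) - 1 := by
    have : ((s : ℤ) : ZMod p) = ((1 : ℤ) : ZMod p) := by simpa using hs
    exact (ZMod.intCast_eq_intCast_iff_dvd_sub _ _ _).mp this.symm
  obtain ⟨w, hw⟩ := h1
  have hs' : (s : ℤ) = 1 + p * w := by linarith
  have h2 := odd_sq_dvd_geom_sum₂_sub (R := ℤ) (1 : ℤ) w hodd'
  simp only [one_pow, mul_one] at h2
  obtain ⟨c, hc⟩ := h2
  refine ⟨c, ?_⟩
  have : ((∑ j ∈ range p, s ^ j : ℕ) : ℤ) = ∑ j ∈ range p, (1 + (p : ℤ) * w) ^ j := by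
    push_cast
    rw [hs']
  rw [this]
  linarith [hc]

/-- A finite `p`-group (`p` odd) with a unique subgroup of order `p` and a normal cyclic subgroup of
index `p` is cyclic. -/
theorem isCyclic_of_cyclic_normal_index_p {H : Type*} [Group H] [Finite H] {p : ℕ} [Fact p.Prime]
    (hodd : p ≠ 2) (hH : IsPGroup p H)
    (hU : ∀ y z : H, orderOf y = p → orderOf z = p → z ∈ Subgroup.zpowers y)
    (K : Subgroup H) [hKn : K.Normal] (hKc : IsCyclic K) (hKi : K.index = p) (hK1 : K ≠ ⊥) :
    IsCyclic H := by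
  have hp : p.Prime := Fact.out
  obtain ⟨g, hg⟩ := hKc.exists_generator
  set a : H := (g : H) with ha
  have haK : a ∈ K := g.2
  have hpowZ : ∀ y ∈ K, ∃ j : ℤ, y = a ^ j := by
    intro y hy
    obtain ⟨j, hj⟩ := Subgroup.mem_zpowers_iff.mp (hg ⟨y, hy⟩)
    refine ⟨j, ?_⟩
    have := congrArg Subtype.val hj
    simpa using this.symm
  have hafin : IsOfFinOrder a := isOfFinOrder_of_finite a
  have hpow : ∀ y ∈ K, ∃ j : ℕ, y = a ^ j := by
    intro y hy
    obtain ⟨j, hj⟩ := hpowZ y hy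
    have : y ∈ Subgroup.zpowers a := ⟨j, hj.symm⟩
    rw [← mem_powers_iff_mem_zpowers] at this
    obtain ⟨n, hn⟩ := this
    exact ⟨n, hn.symm⟩
  obtain ⟨n, hn⟩ := (hH.to_subgroup K).exists_card_eq
  have horda : orderOf a = p ^ n := by
    rw [← hn, ← orderOf_eq_card_of_forall_mem_zpowers hg, ha, Subgroup.orderOf_coe]
  have hn1 : n ≠ 0 := by
    intro h0
    rw [h0, pow_zero] at hn
    exact hK1 (Subgroup.card_eq_one.mp hn)
  have hKtop : K ≠ ⊤ := by
    intro h
    rw [h, Subgroup.index_top] at hKi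
    exact hp.one_lt.ne' hKi.symm
  obtain ⟨b, hb⟩ : ∃ b, b ∉ K := by
    by_contra h
    push Not at h
    exact hKtop (eq_top_iff.mpr fun y _ => h y)
  have hb1 : b ≠ 1 := fun h => hb (h ▸ K.one_mem)
  have h1 : b⁻¹ * a * b ∈ K := by
    have := hKn.conj_mem a haK b⁻¹
    simpa using this
  obtain ⟨s, hs⟩ := hpow _ h1
  have h2 : b ^ p ∈ K := hKi ▸ K.pow_index_mem b
  obtain ⟨t, ht⟩ := hpow _ h2
  have h3 : a ^ (s ^ p) = a ^ 1 := by
    have := conj_pow_iter b⁻¹ a s (by rw [inv_inv]; exact hs) p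
    rw [← this, pow_one, inv_pow, ht]
    have hc : Commute (a ^ t) a := (Commute.refl a).pow_left t
    calc (a ^ t)⁻¹ * a * (a ^ t)⁻¹⁻¹ = (a ^ t)⁻¹ * (a * a ^ t) := by group
      _ = (a ^ t)⁻¹ * (a ^ t * a) := by rw [hc.eq]
      _ = a := by group
  have hsmod : (s : ZMod p) = 1 := by
    have h4 : s ^ p ≡ 1 [MOD p ^ n] := horda ▸ pow_eq_pow_iff_modEq.mp h3
    have h5 : s ^ p ≡ 1 [MOD p] := h4.of_dvd (dvd_pow_self p hn1)
    have h6 : ((s ^ p : ℕ) : ZMod p) = ((1 : ℕ) : ZMod p) := (ZMod.natCast_eq_natCast_iff _ _ _).mpr h5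
    push_cast at h6
    rwa [ZMod.pow_card] at h6
  obtain ⟨c, hc⟩ := geom_sum_eq_p_mul p hp hodd s hsmod
  set Sg : ℕ := ∑ j ∈ range p, s ^ j with hSg
  have hcardH : Nat.card H = p ^ n * p := by
    rw [← hn, ← hKi, Subgroup.card_mul_index]
  by_cases hpt : p ∣ t
  · exfalso
    obtain ⟨t', rfl⟩ := hpt
    -- Bezout
    have hcop : IsCoprime (1 + (p : ℤ) * c) ((p : ℤ) ^ n) := by
      apply IsCoprime.pow_right
      exact ⟨1, -c, by ring⟩
    obtain ⟨α, β, hαβ⟩ := hcop
    set i : ℤ := -(t' : ℤ) * α with hi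
    have hdiv : ((p : ℤ) ^ n) ∣ ((p * t' : ℕ) : ℤ) + i * (Sg : ℤ) := by
      refine ⟨(p : ℤ) * t' * β, ?_⟩
      rw [hc, hi]
      push_cast
      have h1' : 1 - α * (1 + (p : ℤ) * c) = β * (p : ℤ) ^ n := by linarith
      calc (p : ℤ) * t' + -(t' : ℤ) * α * (↑p * (1 + ↑p * c))
          = (p : ℤ) * t' * (1 - α * (1 + ↑p * c)) := by ring
        _ = (p : ℤ) * t' * (β * ↑p ^ n) := by rw [h1']
        _ = ↑p ^ n * (↑p * ↑t' * β) := by ring
    set u : H := a ^ i with hu
    have huK : u ∈ K := K.zpow_mem haK i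
    have hconj : b⁻¹ * u * b = u ^ s := by
      have : b⁻¹ * a ^ i * b = (b⁻¹ * a * b) ^ i := by
        have := conj_zpow (a := b⁻¹) (b := a) (i := i)
        simpa using this.symm
      rw [hu, this, hs, ← zpow_natCast, ← zpow_natCast, ← zpow_mul, ← zpow_mul, mul_comm]
    have hcp : (b * u) ^ p = 1 := by
      rw [mul_pow_of_conj b u s hconj p, ht, hu, ← hSg, ← zpow_natCast, ← zpow_natCast (a ^ i),
        ← zpow_mul, ← zpow_add]
      apply (orderOf_dvd_iff_zpow_eq_one).mp
      rw [horda]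
      exact_mod_cast hdiv
    have hcK : b * u ∉ K := by
      intro h
      apply hb
      have : b = (b * u) * u⁻¹ := by group
      rw [this]
      exact K.mul_mem h (K.inv_mem huK)
    have hc1 : b * u ≠ 1 := fun h => hcK (h ▸ K.one_mem)
    have hordc : orderOf (b * u) = p := orderOf_eq_prime hcp hc1
    set a' : H := a ^ (p ^ (n - 1)) with ha'
    have horda' : orderOf a' = p := by
      rw [ha', orderOf_pow_of_dvd (pow_ne_zero _ hp.ne_zero)
        (by rw [horda]; exact pow_dvd_pow p (Nat.sub_le n 1)), horda]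
      obtain ⟨m, rfl⟩ := Nat.exists_eq_succ_of_ne_zero hn1
      rw [Nat.succ_sub_one, pow_succ, Nat.mul_div_cancel_left _ (pow_pos hp.pos m)]
    have := hU a' (b * u) horda' hordc
    apply hcK
    have hle : Subgroup.zpowers a' ≤ K := by
      rw [Subgroup.zpowers_le]; exact K.pow_mem haK _
    exact hle this
  · -- b has order p^(n+1)
    have hcop : Nat.Coprime (orderOf a) t := by
      rw [horda]
      exact Nat.Coprime.pow_left _ ((Nat.Prime.coprime_iff_not_dvd hp).mpr hpt)
    have hord_bp : orderOf (b ^ p) = p ^ n := by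
      rw [ht, hcop.orderOf_pow, horda]
    have hpb : p ∣ orderOf b := by
      obtain ⟨e, he⟩ := IsPGroup.iff_orderOf.mp hH b
      rcases e with _ | e
      · rw [pow_zero] at he
        exact absurd (orderOf_eq_one_iff.mp he) hb1
      · rw [he, pow_succ]; exact dvd_mul_left _ _
    have hordb : orderOf b = Nat.card H := by
      have := orderOf_pow_of_dvd hp.ne_zero hpb
      rw [hord_bp] at this
      rw [hcardH, this, Nat.div_mul_cancel hpb]
    exact isCyclic_of_orderOf_eq_card b hordb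

/-- In a finite group in which, for an odd prime `p`, any two elements of order `p` generate the same
subgroup, every `p`-subgroup is cyclic. -/
theorem isCyclic_of_unique_order_p {G : Type*} [Group G] [Finite G] {p : ℕ} [Fact p.Prime]
    (hodd : p ≠ 2)
    (hU : ∀ y z : G, orderOf y = p → orderOf z = p → z ∈ Subgroup.zpowers y) :
    ∀ H : Subgroup G, IsPGroup p H → IsCyclic H := by
  have hp : p.Prime := Fact.out
  suffices h : ∀ m : ℕ, ∀ H : Subgroup G, Nat.card H = m → IsPGroup p H → IsCyclic H from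
    fun H hH => h _ H rfl hH
  intro m
  induction m using Nat.strong_induction_on with
  | _ m ih =>
    intro H hm hH
    obtain ⟨e, he⟩ := hH.exists_card_eq
    rcases e with _ | e'
    · rw [pow_zero] at he
      have : Subsingleton H := (Nat.card_eq_one_iff_unique.mp he).1
      infer_instance
    obtain ⟨K, hK⟩ := Sylow.exists_subgroup_card_pow_prime (G := H) p (n := e')
      (by rw [he]; exact pow_dvd_pow p (Nat.le_succ e'))
    have hKi : K.index = p := by
      have h1 := Subgroup.card_mul_index K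
      rw [hK, he, pow_succ] at h1
      exact Nat.eq_of_mul_eq_mul_left (pow_pos hp.pos e') h1
    have hKn : K.Normal := by
      apply Subgroup.normal_of_index_eq_minFac_card
      rw [hKi, he, Nat.pow_minFac (Nat.succ_ne_zero e'), hp.minFac_eq]
    have hKc : IsCyclic K := by
      have hlt : p ^ e' < m := by
        rw [← hm, he]; exact Nat.pow_lt_pow_right hp.one_lt (Nat.lt_succ_self e')
      have h1 := ih (p ^ e') hlt (K.map H.subtype) (by rw [card_map_subtype, hK])
        ((hH.to_subgroup K).map _)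
      exact (K.equivMapOfInjective H.subtype H.subtype_injective).isCyclic.mpr h1
    have hU' : ∀ y z : H, orderOf y = p → orderOf z = p → z ∈ Subgroup.zpowers y := by
      intro y z hy hz
      have := hU (y : G) (z : G) (by rw [Subgroup.orderOf_coe]; exact hy)
        (by rw [Subgroup.orderOf_coe]; exact hz)
      obtain ⟨k, hk⟩ := Subgroup.mem_zpowers_iff.mp this
      exact Subgroup.mem_zpowers_iff.mpr ⟨k, Subtype.ext (by simpa using hk)⟩
    by_cases hK1 : K = ⊥
    · rw [hK1, Subgroup.card_bot] at hK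
      have he' : e' = 0 := by
        by_contra h
        exact (Nat.one_lt_pow h hp.one_lt).ne' hK.symm
      rw [he', zero_add, pow_one] at he
      exact isCyclic_of_prime_card he
    · exact isCyclic_of_cyclic_normal_index_p hodd hH hU' K hKc hKi hK1

end Cfsg.Agent.Helper49
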