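import Mathlib
import Cfsg.Prelude.Def_LieRecognition
import Cfsg.Agent.Lib.Helper87.LinPoly
import Cfsg.Agent.Lib.Helper1.Hig.Defs
import Cfsg.Agent.S1137

/-!
Piece (S1) `sub_center` of helper1's server HIG (S1138 / S5214): a `ξ`-invariant non-commutative
subgroup `C ≥ Z(P)` of a Suzuki 2-group in normal form is a Suzuki 2-group, so `Z(C) ≤ Z(P)`.
-/

set_option autoImplicit false

namespace Cfsg.Agent.Helper49.Hig

open Cfsg.Agent.Helper1.Hig Cfsg.Agent.Helper87
open scoped commutatorElement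

/-- restriction of an automorphism to an invariant subgroup of a finite group -/
noncomputable def h49_restr {P : Type*} [Group P] [Finite P] (C : Subgroup P) (φ : MulAut P)
    (hφ : ∀ x ∈ C, φ x ∈ C) : MulAut ↥C :=
  MulEquiv.ofBijective
    ((φ.toMonoidHom.comp C.subtype).codRestrict C (fun x => hφ x x.2))
    (Finite.injective_iff_bijective.mp (by
      intro a b hab
      have h := congrArg Subtype.val hab
      exact Subtype.ext (φ.injective h)))

theorem h49_restr_apply {P : Type*} [Group P] [Finite P] (C : Subgroup P) (φ : MulAut P)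
    (hφ : ∀ x ∈ C, φ x ∈ C) (c : ↥C) : ((h49_restr C φ hφ c : ↥C) : P) = φ c := rfl

theorem h49_restr_pow {P : Type*} [Group P] [Finite P] (C : Subgroup P) (φ : MulAut P)
    (hφ : ∀ x ∈ C, φ x ∈ C) (i : ℕ) (c : ↥C) :
    (((h49_restr C φ hφ) ^ i) c : P) = (φ ^ i) c := by
  induction i generalizing c with
  | zero => simp
  | succ i ih =>
    rw [pow_succ, pow_succ, MulAut.mul_apply, MulAut.mul_apply, ih, h49_restr_apply]

/-- two natural powers of `ξ` agreeing at a non-trivial point are equal -/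
theorem h49_pow_eq {P : Type*} [Group P] (S : SuzNF P) (x : P) (hx : x ≠ 1) (a b : ℕ)
    (hab : a ≤ b) (h : (S.ξ ^ a) x = (S.ξ ^ b) x) : S.ξ ^ a = S.ξ ^ b := by
  obtain ⟨d, rfl⟩ := Nat.exists_eq_add_of_le hab
  have hd : (S.ξ ^ d) x = x := by
    rw [pow_add, MulAut.mul_apply] at h
    exact ((S.ξ ^ a).injective h).symm
  have hN : 0 < 2 ^ S.n - 1 := by
    have : 2 ^ 2 ≤ 2 ^ S.n := Nat.pow_le_pow_right (by norm_num) S.hn
    omega
  have hr : d % (2 ^ S.n - 1) < 2 ^ S.n - 1 := Nat.mod_lt _ hN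
  have hpm : S.ξ ^ (d % (2 ^ S.n - 1)) = S.ξ ^ d := by
    have := pow_mod_orderOf S.ξ d
    rw [S.order_ξ] at this
    exact this
  by_cases h0 : d % (2 ^ S.n - 1) = 0
  · rw [h0, pow_zero] at hpm
    rw [pow_add, ← hpm, mul_one]
  · exfalso
    apply hx
    apply S.fpf _ (Nat.pos_of_ne_zero h0) hr x
    rw [hpm]; exact hd

theorem sub_center {P : Type*} [Group P] (S : SuzNF P) (C : Subgroup P)
    (hZ : Subgroup.center P ≤ C) (hξ : ∀ x ∈ C, S.ξ x ∈ C)
    (hna : ∃ a ∈ C, ∃ b ∈ C, a * b ≠ b * a) :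
    ∀ x ∈ C, (∀ y ∈ C, x * y = y * x) → x ∈ Subgroup.center P := by
  classical
  have hfin : Finite P := S.fin
  have hN3 : 3 ≤ 2 ^ S.n - 1 := by
    have : 2 ^ 2 ≤ 2 ^ S.n := Nat.pow_le_pow_right (by norm_num) S.hn
    omega
  set ξC : MulAut ↥C := h49_restr C S.ξ hξ with hξC
  have hpowC : ∀ (i : ℕ) (c : ↥C), ((ξC ^ i) c : P) = (S.ξ ^ i) c := h49_restr_pow C S.ξ hξ
  have hpow_eq : ∀ a b : ℕ, S.ξ ^ a = S.ξ ^ b → ξC ^ a = ξC ^ b := by
    intro a b h
    ext c
    rw [hpowC, hpowC, h]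
  have hfo : IsOfFinOrder ξC := by
    rw [isOfFinOrder_iff_pow_eq_one]
    refine ⟨2 ^ S.n - 1, by omega, ?_⟩
    have := hpow_eq (2 ^ S.n - 1) 0 (by rw [pow_zero, ← S.order_ξ, pow_orderOf_eq_one])
    rw [this, pow_zero]
  -- the Suzuki hypothesis for C
  have hSuz : Cfsg.IsSuzukiTwoGroup ↥C := by
    refine ⟨inferInstance, S.two.to_subgroup C, ?_, ?_, Subgroup.zpowers ξC, inferInstance, ?_⟩
    · obtain ⟨a, ha, b, hb, hab⟩ := hna
      exact ⟨⟨a, ha⟩, ⟨b, hb⟩, fun h => hab (congrArg Subtype.val h)⟩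
    · -- two involutions
      have hcard : 1 < Nat.card (Subgroup.center P) := by
        rw [S.card_center]
        exact Nat.one_lt_two_pow (by have := S.hn; omega)
      have hnt : Nontrivial (Subgroup.center P) := Finite.one_lt_card_iff_nontrivial.mp hcard
      obtain ⟨z, hz⟩ := exists_ne (1 : Subgroup.center P)
      have hz1 : (z : P) ≠ 1 := fun h => hz (Subtype.ext h)
      have hzz : (z : P) * z = 1 := (S.sq_one_iff z).mpr z.2
      have hξz : S.ξ z * S.ξ z = 1 := by rw [← map_mul, hzz, map_one]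
      have hξzZ : S.ξ (z : P) ∈ Subgroup.center P := (S.sq_one_iff _).mp hξz
      refine ⟨⟨z, hZ z.2⟩, ⟨S.ξ z, hZ hξzZ⟩, ?_, ?_, ?_, ?_, ?_⟩
      · intro h
        have h' : (z : P) = S.ξ z := congrArg Subtype.val h
        apply hz1
        apply S.fpf 1 (by norm_num) (by omega) z
        rw [pow_one]; exact h'.symm
      · intro h; exact hz1 (congrArg Subtype.val h)
      · exact Subtype.ext hzz
      · intro h
        have h' : S.ξ (z : P) = 1 := congrArg Subtype.val h
        exact hz1 (S.ξ.injective (h'.trans (map_one _).symm))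
      · exact Subtype.ext hξz
    · intro x y hx1 hx2 hy1 hy2
      have hx1' : (x : P) ≠ 1 := fun h => hx1 (Subtype.ext h)
      have hy1' : (y : P) ≠ 1 := fun h => hy1 (Subtype.ext h)
      have hx2' : (x : P) * x = 1 := congrArg Subtype.val hx2
      have hy2' : (y : P) * y = 1 := congrArg Subtype.val hy2
      obtain ⟨i, hi⟩ := S.trans x y ((S.sq_one_iff _).mp hx2') ((S.sq_one_iff _).mp hy2') hx1' hy1'
      refine ⟨⟨ξC ^ i, Subgroup.pow_mem _ (Subgroup.mem_zpowers ξC) i⟩, ?_, ?_⟩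
      · apply Subtype.ext
        show ((ξC ^ i) x : P) = y
        rw [hpowC]; exact hi
      · rintro ⟨k', hk'⟩ hk'x
        have hk'p : k' ∈ Submonoid.powers ξC := hfo.mem_powers_iff_mem_zpowers.mpr hk'
        obtain ⟨j, hj⟩ := hk'p
        have hj' : ξC ^ j = k' := hj
        apply Subtype.ext
        show k' = ξC ^ i
        rw [← hj']
        have hval : (S.ξ ^ j) (x : P) = (S.ξ ^ i) x := by
          rw [← hpowC, ← hpowC, hj']
          have : k' x = y := hk'x
          rw [this, hpowC, hi]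
        rcases Nat.le_total j i with hji | hij
        · exact hpow_eq j i (h49_pow_eq S x hx1' j i hji hval)
        · exact (hpow_eq i j (h49_pow_eq S x hx1' i j hij hval.symm)).symm
  have hexpC := (Cfsg.Agent.S1137.result hSuz).2
  intro x hx hcomm
  have hxc : (⟨x, hx⟩ : ↥C) ∈ Subgroup.center ↥C := by
    rw [Subgroup.mem_center_iff]
    intro g
    apply Subtype.ext
    exact (hcomm g g.2).symm
  have := hexpC _ hxc
  exact (S.sq_one_iff x).mp (congrArg Subtype.val this)

end Cfsg.Agent.Helper49.Hig
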