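import Mathlib
import Cfsg.Prelude.Def_LieRecognition
import Cfsg.Agent.Lib.Helper87.LinPoly
import Cfsg.Agent.Lib.Helper1.Hig.Defs
import Cfsg.Agent.S1137

/-!
Piece (S0) `exists_sz` of helper1's server HIG (S1138 / S5214): normal form of a Suzuki 2-group.
-/

set_option autoImplicit false

namespace Cfsg.Agent.Helper49.Hig

open Cfsg.Agent.Helper1.Hig Cfsg.Agent.Helper87
open scoped commutatorElement

/-- a non-trivial element of a 2-group has a power which is an involution -/
theorem h49_exists_invol_pow {P : Type*} [Group P] (h2 : IsPGroup 2 P) (x : P) (hx : x ≠ 1) :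
    ∃ j : ℕ, x ^ (2 ^ j) ≠ 1 ∧ x ^ (2 ^ j) * x ^ (2 ^ j) = 1 := by
  classical
  have hex : ∃ k : ℕ, x ^ 2 ^ k = 1 := h2 x
  have hk := Nat.find_spec hex
  have hmin := fun m (hm : m < Nat.find hex) => Nat.find_min hex hm
  have hk0 : Nat.find hex ≠ 0 := by
    intro h0
    rw [h0] at hk
    simp at hk
    exact hx hk
  obtain ⟨j, hj⟩ : ∃ j, Nat.find hex = j + 1 := ⟨Nat.find hex - 1, by omega⟩
  refine ⟨j, hmin j (by omega), ?_⟩
  rw [← pow_add, ← two_mul, ← pow_succ', ← hj]
  exact hk

theorem exists_sz {P : Type*} [Group P] (hP : Cfsg.IsSuzukiTwoGroup P) : Nonempty (SuzNF P) := by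
  classical
  have hres := Cfsg.Agent.S1137.result hP
  obtain ⟨hfin, h2, hna, ⟨x₀, y₀, hxy, hx1, hx2, hy1, hy2⟩, K, hKcyc, hreg⟩ := hP
  obtain ⟨hinv, hexp⟩ := hres
  have hsq : ∀ x : P, x * x = 1 ↔ x ∈ Subgroup.center P := by
    intro x
    by_cases hx : x = 1
    · subst hx; simp
    · constructor
      · intro h; exact ((hinv x).mp ⟨hx, h⟩).1
      · intro h; exact hexp x h
  -- card of center
  obtain ⟨n, hn⟩ := (h2.to_subgroup (Subgroup.center P)).exists_card_eq
  have hx₀Z : x₀ ∈ Subgroup.center P := (hsq x₀).mp hx2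
  have hy₀Z : y₀ ∈ Subgroup.center P := (hsq y₀).mp hy2
  have hn2 : 2 ≤ n := by
    by_contra hlt
    have hle : Nat.card (Subgroup.center P) ≤ 2 := by
      rw [hn]
      have : n ≤ 1 := by omega
      calc 2 ^ n ≤ 2 ^ 1 := Nat.pow_le_pow_right (by norm_num) this
        _ = 2 := by norm_num
    letI : Fintype (Subgroup.center P) := Fintype.ofFinite _
    rw [Nat.card_eq_fintype_card] at hle
    have h3 : ({(1 : Subgroup.center P), ⟨x₀, hx₀Z⟩, ⟨y₀, hy₀Z⟩} : Finset (Subgroup.center P)).card = 3 := by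
      apply Finset.card_eq_three.mpr
      refine ⟨1, ⟨x₀, hx₀Z⟩, ⟨y₀, hy₀Z⟩, ?_, ?_, ?_, rfl⟩
      · intro h; exact hx1 (congrArg Subtype.val h).symm
      · intro h; exact hy1 (congrArg Subtype.val h).symm
      · intro h; exact hxy (congrArg Subtype.val h)
    have := Finset.card_le_univ ({(1 : Subgroup.center P), ⟨x₀, hx₀Z⟩, ⟨y₀, hy₀Z⟩} : Finset (Subgroup.center P))
    omega
  -- the generator
  obtain ⟨g, hg⟩ := hKcyc.exists_generator
  -- K is finite and |K| + 1 = |Z|
  have hKinj : Function.Injective (fun k : K => (k : MulAut P) x₀) := by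
    intro k k' h
    have hkk : (k' : MulAut P) x₀ ≠ 1 := by
      intro h1; apply hx1
      have := (k' : MulAut P).injective (h1.trans (map_one _).symm)
      exact this
    have hkk2 : (k' : MulAut P) x₀ * (k' : MulAut P) x₀ = 1 := by
      rw [← map_mul, hx2, map_one]
    obtain ⟨k0, -, huniq⟩ := hreg x₀ ((k' : MulAut P) x₀) hx1 hx2 hkk hkk2
    exact (huniq k h).trans (huniq k' rfl).symm
  have : Finite K := Finite.of_injective _ hKinj
  have hinvK : ∀ (k : K) (x : P), x ≠ 1 → x * x = 1 →
      (k : MulAut P) x ≠ 1 ∧ (k : MulAut P) x * (k : MulAut P) x = 1 := by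
    intro k x hx hxx
    refine ⟨fun h1 => hx ((k : MulAut P).injective (h1.trans (map_one _).symm)), ?_⟩
    rw [← map_mul, hxx, map_one]
  have hcardK : Nat.card K + 1 = 2 ^ n := by
    rw [← hn, ← Finite.card_option]
    apply Nat.card_eq_of_bijective
      (fun o : Option K => match o with
        | none => (1 : Subgroup.center P)
        | some k => ⟨(k : MulAut P) x₀, (hsq _).mp (hinvK k x₀ hx1 hx2).2⟩)
    constructor
    · intro a b hab
      cases a with
      | none =>
        cases b with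
        | none => rfl
        | some k =>
          exfalso
          have := congrArg Subtype.val hab
          exact (hinvK k x₀ hx1 hx2).1 this.symm
      | some k =>
        cases b with
        | none =>
          exfalso
          have := congrArg Subtype.val hab
          exact (hinvK k x₀ hx1 hx2).1 this
        | some k' =>
          have := congrArg Subtype.val hab
          rw [hKinj this]
    · intro z
      by_cases hz : z = 1
      · exact ⟨none, hz.symm⟩
      · have hz1 : (z : P) ≠ 1 := fun h => hz (Subtype.ext h)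
        have hz2 : (z : P) * (z : P) = 1 := hexp _ z.2
        obtain ⟨k, hk, -⟩ := hreg x₀ z hx1 hx2 hz1 hz2
        exact ⟨some k, Subtype.ext hk⟩
  have hordg : orderOf g = 2 ^ n - 1 := by
    rw [orderOf_eq_card_of_forall_mem_zpowers hg]; omega
  have hpow : ∀ i : ℕ, ((g : MulAut P)) ^ i = ((g ^ i : K) : MulAut P) := by
    intro i; rw [SubmonoidClass.coe_pow]
  refine ⟨{ n := n, ξ := (g : MulAut P), hn := hn2, fin := hfin, two := h2, card_center := hn,
            sq_one_iff := hsq, order_ξ := ?_, fpf := ?_, trans := ?_ }⟩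
  · rw [Subgroup.orderOf_coe]; exact hordg
  · intro i hi hi' x hfix
    by_contra hx
    obtain ⟨j, hj1, hj2⟩ := h49_exists_invol_pow h2 x hx
    have hfix' : ((g ^ i : K) : MulAut P) (x ^ 2 ^ j) = x ^ 2 ^ j := by
      rw [← hpow, map_pow, hfix]
    obtain ⟨k0, -, huniq⟩ := hreg _ _ hj1 hj2 hj1 hj2
    have e1 : g ^ i = k0 := huniq _ hfix'
    have e2 : (1 : K) = k0 := huniq 1 (by simp)
    have e3 : g ^ i = 1 := e1.trans e2.symm
    have := Nat.le_of_dvd hi (orderOf_dvd_of_pow_eq_one e3)
    omega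
  · intro z z' hz hz' hz1 hz'1
    obtain ⟨k, hk, -⟩ := hreg z z' hz1 (hexp z hz) hz'1 (hexp z' hz')
    have hkp : k ∈ Submonoid.powers g := (mem_powers_iff_mem_zpowers).mpr (hg k)
    obtain ⟨i, hi⟩ := hkp
    refine ⟨i, ?_⟩
    have hi' : g ^ i = k := hi
    rw [hpow, hi']; exact hk

end Cfsg.Agent.Helper49.Hig
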