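import Mathlib.GroupTheory.Sylow
import Mathlib.GroupTheory.Nilpotent
import Mathlib.GroupTheory.Transfer
import Cfsg.Prelude.Def_IsolatedElements

set_option autoImplicit false

namespace Cfsg.Agent.Helper49

open Subgroup

variable {G : Type*} [Group G]

/-- An isolated element commutes with every element of a finite `p`-subgroup containing it. -/
theorem isolated_commute_of_mem_pgroup [Finite G] {p : ℕ} [Fact p.Prime] {x : G}
    (hiso : Cfsg.IsIsolated x) (R : Subgroup G) (hR : IsPGroup p R) (hx : x ∈ R) :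
    ∀ y ∈ R, Commute x y := by
  have : Group.IsNilpotent R := hR.isNilpotent
  have hnc : NormalizerCondition R := Group.normalizerCondition_of_isNilpotent
  let x' : R := ⟨x, hx⟩
  let C : Subgroup R := Subgroup.centralizer {x'}
  have hxC : x' ∈ C := by
    rw [Subgroup.mem_centralizer_iff]
    intro h hh
    rw [Set.mem_singleton_iff] at hh
    rw [hh]
  have hCtop : C = ⊤ := by
    by_contra hne
    have hlt : C < ⊤ := lt_top_iff_ne_top.mpr hne
    have hlt2 := hnc C hlt
    obtain ⟨n, hn, hnC⟩ := SetLike.exists_of_lt hlt2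
    apply hnC
    have h1 : n * x' * n⁻¹ ∈ C := (Subgroup.mem_normalizer_iff.mp hn x').mp hxC
    rw [Subgroup.mem_centralizer_iff] at h1
    have h2 : x' * (n * x' * n⁻¹) = (n * x' * n⁻¹) * x' := h1 x' rfl
    have h3 : Commute x ((n : G) * x * (n : G)⁻¹) := by
      have := congrArg (Subtype.val) h2
      show x * ((n : G) * x * (n : G)⁻¹) = ((n : G) * x * (n : G)⁻¹) * x
      simpa [x'] using this
    have h4 := hiso (n : G) h3
    rw [Subgroup.mem_centralizer_iff]
    intro h hh
    rw [Set.mem_singleton_iff] at hh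
    subst hh
    apply Subtype.ext
    have : (n : G) * x = x * (n : G) := by
      calc (n : G) * x = ((n : G) * x * (n : G)⁻¹) * (n : G) := by group
        _ = x * (n : G) := by rw [h4]
    simpa [x'] using this.symm
  intro y hy
  have hyC : (⟨y, hy⟩ : R) ∈ C := by rw [hCtop]; trivial
  rw [Subgroup.mem_centralizer_iff] at hyC
  have := hyC x' rfl
  have h := congrArg Subtype.val this
  exact h

/-- If an isolated element and one of its conjugates lie in a common finite `p`-subgroup,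
they are equal. -/
theorem isolated_conj_eq_of_mem_pgroup [Finite G] {p : ℕ} [Fact p.Prime] {x : G}
    (hiso : Cfsg.IsIsolated x) (R : Subgroup G) (hR : IsPGroup p R) (hx : x ∈ R) (g : G)
    (hg : g * x * g⁻¹ ∈ R) : g * x * g⁻¹ = x :=
  hiso g (isolated_commute_of_mem_pgroup hiso R hR hx _ hg)

theorem isPGroup_zpowers_of_orderOf {p : ℕ} {x : G} (hxp : ∃ k : ℕ, orderOf x = p ^ k) :
    IsPGroup p (Subgroup.zpowers x) := by
  obtain ⟨k, hk⟩ := hxp
  rintro ⟨y, hy⟩
  obtain ⟨n, rfl⟩ := Subgroup.mem_zpowers_iff.mp hy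
  refine ⟨k, ?_⟩
  apply Subtype.ext
  simp only [Subgroup.coe_pow, Subgroup.coe_one]
  rw [← zpow_natCast, ← zpow_mul, mul_comm, zpow_mul, zpow_natCast, ← hk, pow_orderOf_eq_one,
    one_zpow]

/-- Fusion of an isolated `p`-element is controlled in every subgroup containing it. -/
theorem isolated_fusion [Finite G] {p : ℕ} [Fact p.Prime] {x : G}
    (hiso : Cfsg.IsIsolated x) (hxp : ∃ k : ℕ, orderOf x = p ^ k)
    (C : Subgroup G) (hxC : x ∈ C) (g : G) (hg : g * x * g⁻¹ ∈ C) :
    ∃ c ∈ C, (c * g) * x * (c * g)⁻¹ = x := by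
  let a : C := ⟨x, hxC⟩
  let b : C := ⟨g * x * g⁻¹, hg⟩
  have ha : IsPGroup p (Subgroup.zpowers a) := by
    apply isPGroup_zpowers_of_orderOf
    obtain ⟨k, hk⟩ := hxp
    exact ⟨k, by rw [← hk]; exact (Subgroup.orderOf_mk x hxC)⟩
  have hb : IsPGroup p (Subgroup.zpowers b) := by
    apply isPGroup_zpowers_of_orderOf
    obtain ⟨k, hk⟩ := hxp
    refine ⟨k, ?_⟩
    rw [← hk, Subgroup.orderOf_mk]
    have : g * x * g⁻¹ = MulAut.conj g x := by simp [MulAut.conj_apply]
    rw [this, MulEquiv.orderOf_eq]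
  obtain ⟨Pa, hPa⟩ := ha.exists_le_sylow
  obtain ⟨Pb, hPb⟩ := hb.exists_le_sylow
  obtain ⟨c, hc⟩ := MulAction.exists_smul_eq C Pb Pa
  refine ⟨c, c.2, ?_⟩
  have hbPb : b ∈ (Pb : Subgroup C) := hPb (Subgroup.mem_zpowers b)
  have haPa : a ∈ (Pa : Subgroup C) := hPa (Subgroup.mem_zpowers a)
  have hcb : c * b * c⁻¹ ∈ (Pa : Subgroup C) := by
    rw [← hc, Sylow.coe_subgroup_smul]
    have := Subgroup.smul_mem_pointwise_smul b (MulAut.conj c) (Pb : Subgroup C) hbPb
    simpa [MulAut.smul_def, MulAut.conj_apply] using this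
  let R : Subgroup G := (Pa : Subgroup C).map C.subtype
  have hR : IsPGroup p R := Pa.2.map C.subtype
  have hxR : x ∈ R := ⟨a, haPa, rfl⟩
  have hgR : (c * g) * x * (c * g)⁻¹ ∈ R := by
    refine ⟨c * b * c⁻¹, hcb, ?_⟩
    simp [b, mul_assoc]
  exact isolated_conj_eq_of_mem_pgroup hiso R hR hxR _ hgR

end Cfsg.Agent.Helper49
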