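import Mathlib.GroupTheory.Sylow
import Mathlib.GroupTheory.Subgroup.Centralizer
import Cfsg.Agent.Lib.Helper49.Isolated

set_option autoImplicit false

namespace Cfsg.Agent.Helper49

open Subgroup MulAction

variable {G : Type*} [Group G]

/-- In a finite group, `x Y x⁻¹ ≤ Y` implies `x` normalizes `Y`. -/
theorem mem_normalizer_of_conj_le [Finite G] (Y : Subgroup G) (x : G)
    (h : ∀ y ∈ Y, x * y * x⁻¹ ∈ Y) : x ∈ Subgroup.normalizer (Y : Set G) := by
  have hpow : ∀ n : ℕ, ∀ y ∈ Y, x ^ n * y * (x ^ n)⁻¹ ∈ Y := by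
    intro n
    induction n with
    | zero => intro y hy; simpa using hy
    | succ n ih =>
      intro y hy
      have : x ^ (n + 1) * y * (x ^ (n + 1))⁻¹ = x * (x ^ n * y * (x ^ n)⁻¹) * x⁻¹ := by
        rw [pow_succ']; group
      rw [this]
      exact h _ (ih y hy)
  rw [Subgroup.mem_normalizer_iff]
  intro y
  refine ⟨h y, fun hy => ?_⟩
  have hx : x ^ (orderOf x - 1) = x⁻¹ := by
    have hpos : 0 < orderOf x := orderOf_pos x
    have : x ^ (orderOf x - 1) * x = 1 := by
      rw [← pow_succ, Nat.sub_add_cancel hpos, pow_orderOf_eq_one]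
    exact eq_inv_of_mul_eq_one_left this
  have := hpow (orderOf x - 1) _ hy
  rw [hx] at this
  simpa [mul_assoc] using this

/-- If `x` is a `p`-element normalizing a subgroup `Y` of order prime to `p`, then `x` normalizes
some Sylow `q`-subgroup of `Y`. -/
theorem exists_sylow_normalized [Finite G] {p : ℕ} [Fact p.Prime] (q : ℕ) [Fact q.Prime]
    (Y : Subgroup G) (hY : ¬ p ∣ Nat.card Y) (x : G)
    (hxY : x ∈ Subgroup.normalizer (Y : Set G)) (hx : ∃ k : ℕ, orderOf x = p ^ k) :
    ∃ S : Sylow q Y,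
      x ∈ Subgroup.normalizer (((S : Subgroup Y).map Y.subtype : Subgroup G) : Set G) := by
  let x' : Subgroup.normalizer (Y : Set G) := ⟨x, hxY⟩
  have hP : IsPGroup p (Subgroup.zpowers x') := by
    apply isPGroup_zpowers_of_orderOf
    obtain ⟨k, hk⟩ := hx
    exact ⟨k, by rw [← hk]; exact Subgroup.orderOf_mk x hxY⟩
  have hcard : ¬ p ∣ Nat.card (Sylow q Y) := by
    intro h
    obtain ⟨S₀⟩ : Nonempty (Sylow q Y) := inferInstance
    exact hY (h.trans ((Sylow.card_dvd_index S₀).trans (Subgroup.index_dvd_card _)))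
  obtain ⟨S, hS⟩ := hP.nonempty_fixed_point_of_prime_not_dvd_card (Sylow q Y) hcard
  have hfix : x' • S = S := hS ⟨x', Subgroup.mem_zpowers x'⟩
  refine ⟨S, ?_⟩
  apply mem_normalizer_of_conj_le
  rintro y ⟨s, hs, rfl⟩
  have h1 : x' • s ∈ ((x' • S : Sylow q Y) : Subgroup Y) := by
    rw [Sylow.pointwise_smul_def]
    exact Subgroup.smul_mem_pointwise_smul s x' _ hs
  rw [hfix] at h1
  exact ⟨x' • s, h1, rfl⟩

end Cfsg.Agent.Helper49
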