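import Cfsg.Agent.Lib.Helper49.Isolated
import Cfsg.Agent.Lib.Helper49.PPrimeCore
import Cfsg.Agent.Lib.Helper49.InvSylow

set_option autoImplicit false

namespace Cfsg.Agent.Helper49

open Subgroup

variable {G : Type*} [Group G]

/-- In a minimal counterexample to the `Z*_p`-statement, `O_{p'}(G) = 1`. -/
theorem pPrimeCore_eq_bot_of_min [Finite G] {p : ℕ} (x : G) (hnz : ¬ Cfsg.InZStar p x)
    (hquot : ∀ (N : Subgroup G) [N.Normal], N ≠ ⊥ → Cfsg.InZStar p (QuotientGroup.mk x : G ⧸ N)) :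
    Cfsg.pPrimeCore p G = ⊥ := by
  by_contra hne
  have := pPrimeCore_normal' (G := G) p
  have h := hquot (Cfsg.pPrimeCore p G) hne
  apply hnz
  intro g
  have hg := h (QuotientGroup.mk g)
  rw [pPrimeCore_quotient_eq_bot, Subgroup.mem_bot] at hg
  have : ((g * x * g⁻¹ * x⁻¹ : G) : G ⧸ Cfsg.pPrimeCore p G) = 1 := by
    simpa using hg
  exact (QuotientGroup.eq_one_iff _).mp this

/-- In a finite `q`-group `S`, a proper subgroup `Q` is properly contained in its normalizer in
`S`. -/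
theorem exists_mem_normalizer_not_mem [Finite G] {q : ℕ} [Fact q.Prime] (S Q : Subgroup G)
    (hS : IsPGroup q S) (hQS : Q < S) :
    ∃ n ∈ S, n ∈ Subgroup.normalizer (Q : Set G) ∧ n ∉ Q := by
  have : Group.IsNilpotent S := hS.isNilpotent
  have hnc : NormalizerCondition S := Group.normalizerCondition_of_isNilpotent
  have hlt : Q.subgroupOf S < ⊤ := by
    rw [lt_top_iff_ne_top]
    intro h
    rw [Subgroup.subgroupOf_eq_top] at h
    exact absurd (le_antisymm hQS.le h) hQS.ne
  obtain ⟨n, hn, hnQ⟩ := SetLike.exists_of_lt (hnc _ hlt)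
  refine ⟨n, n.2, ?_, fun h => hnQ (Subgroup.mem_subgroupOf.mpr h)⟩
  apply mem_normalizer_of_conj_le
  intro y hy
  have hyS : y ∈ S := hQS.le hy
  have := (Subgroup.mem_normalizer_iff.mp hn ⟨y, hyS⟩).mp (Subgroup.mem_subgroupOf.mpr hy)
  rw [Subgroup.mem_subgroupOf] at this
  simpa using this

end Cfsg.Agent.Helper49
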