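import Mathlib
import Cfsg.Agent.Lib.Helper24.Coprime

set_option autoImplicit false

namespace Cfsg.Agent.Helper49

variable {G : Type*} [Group G]

/-- If `Q` normalizes `V` and `P` then it normalizes `⁅V, P⁆`. -/
theorem le_normalizer_commutator (V P Q : Subgroup G)
    (hV : Q ≤ Subgroup.normalizer (V : Set G)) (hP : Q ≤ Subgroup.normalizer (P : Set G)) :
    Q ≤ Subgroup.normalizer ((⁅V, P⁆ : Subgroup G) : Set G) := by
  intro q hq
  have hqV := hV hq
  have hqP := hP hq
  -- conjugation by q maps ⁅V,P⁆ into itself, and the same for q⁻¹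
  have key : ∀ r : G, r ∈ Subgroup.normalizer (V : Set G) → r ∈ Subgroup.normalizer (P : Set G) →
      ∀ x ∈ ⁅V, P⁆, r * x * r⁻¹ ∈ ⁅V, P⁆ := by
    intro r hrV hrP x hx
    have : (⁅V, P⁆).map (MulAut.conj r).toMonoidHom ≤ ⁅V, P⁆ := by
      rw [Subgroup.map_commutator]
      apply Subgroup.commutator_mono
      · rintro _ ⟨v, hv, rfl⟩
        exact (Subgroup.mem_normalizer_iff.mp hrV v).mp hv
      · rintro _ ⟨v, hv, rfl⟩
        exact (Subgroup.mem_normalizer_iff.mp hrP v).mp hv
    exact this ⟨x, hx, rfl⟩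
  rw [Subgroup.mem_normalizer_iff]
  intro x
  constructor
  · exact key q hqV hqP x
  · intro hx
    have := key q⁻¹ (Subgroup.inv_mem _ hqV) (Subgroup.inv_mem _ hqP) _ hx
    simpa [mul_assoc] using this

/-- The chain `U, ⁅U,P⁆, ⁅⁅U,P⁆,P⁆, ...`. -/
def commChain (U P : Subgroup G) : ℕ → Subgroup G
  | 0 => U
  | n + 1 => ⁅commChain U P n, P⁆

/-- Thompson's `P × Q` lemma. -/
theorem thompson_PxQ [Finite G] (p : ℕ) [Fact p.Prime]
    (P Q U : Subgroup G) (hP : IsPGroup p P) (hQ : (Nat.card Q).Coprime p) (hU : IsPGroup p U)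
    (hPQ : P ≤ Subgroup.centralizer (Q : Set G))
    (hPU : P ≤ Subgroup.normalizer (U : Set G)) (hQU : Q ≤ Subgroup.normalizer (U : Set G))
    (hC : U ⊓ Subgroup.centralizer (P : Set G) ≤ Subgroup.centralizer (Q : Set G)) :
    Q ≤ Subgroup.centralizer (U : Set G) := by
  classical
  -- the chain
  set D : ℕ → Subgroup G := commChain U P with hDdef
  have hD0 : D 0 = U := rfl
  have hDs : ∀ n, D (n + 1) = ⁅D n, P⁆ := fun n => rfl
  have hW : IsPGroup p (U ⊔ P : Subgroup G) := IsPGroup.to_sup_of_normal_left' hU hP hPU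
  have : Group.IsNilpotent (U ⊔ P : Subgroup G) := hW.isNilpotent
  obtain ⟨n, hn⟩ := (Subgroup.isNilpotent_iff_lowerCentralSeries (U ⊔ P)).mp inferInstance
  have hDle : ∀ i, D i ≤ (U ⊔ P).lowerCentralSeries i := by
    intro i
    induction i with
    | zero => rw [hD0]; exact le_sup_left
    | succ i ih =>
      rw [hDs, Subgroup.lowerCentralSeries_succ]
      exact Subgroup.commutator_mono ih le_sup_right
  have hDn : D n = ⊥ := by
    have := hDle n
    rw [hn] at this
    exact le_bot_iff.mp this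
  have hQP : Q ≤ Subgroup.normalizer (P : Set G) := by
    intro q hq
    rw [Subgroup.mem_normalizer_iff]
    intro x
    have hcomm : ∀ y ∈ P, q * y * q⁻¹ = y := by
      intro y hy
      have := (Subgroup.mem_centralizer_iff.mp (hPQ hy)) q hq
      rw [this]; group
    constructor
    · intro hx; rw [hcomm x hx]; exact hx
    · intro hx
      have h2 := hcomm _ hx
      have : q * x * q⁻¹ = x := by
        have h3 : q⁻¹ * (q * (q * x * q⁻¹) * q⁻¹) * q = q⁻¹ * (q * x * q⁻¹) * q := by rw [h2]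
        have h4 : q⁻¹ * (q * (q * x * q⁻¹) * q⁻¹) * q = q * x * q⁻¹ := by group
        have h5 : q⁻¹ * (q * x * q⁻¹) * q = x := by group
        rw [h4, h5] at h3; exact h3
      rw [← this]; exact hx
  have hDQ : ∀ i, Q ≤ Subgroup.normalizer (D i : Set G) := by
    intro i
    induction i with
    | zero => exact hQU
    | succ i ih => rw [hDs]; exact le_normalizer_commutator _ _ _ ih hQP
  have hDU : ∀ i, D i ≤ U := by
    intro i
    induction i with
    | zero => exact le_rfl
    | succ i ih =>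
      rw [hDs]
      exact (Subgroup.commutator_mono ih le_rfl).trans
        (Cfsg.Agent.Helper24.commutator_le_of_le_normalizer U P hPU)
  -- downward induction
  have main : ∀ k, k ≤ n → ⁅D (n - k), Q⁆ = ⊥ := by
    intro k
    induction k with
    | zero => intro _; rw [Nat.sub_zero, hDn]; exact Subgroup.commutator_bot_left Q
    | succ k ih =>
      intro hk
      have hk' : k ≤ n := Nat.le_of_succ_le hk
      have hidx : n - k = (n - (k + 1)) + 1 := by omega
      have h1 := ih hk'
      rw [hidx, hDs] at h1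
      set V := D (n - (k + 1)) with hV
      -- h1 : ⁅⁅V,P⁆,Q⁆ = ⊥
      have h2 : ⁅⁅P, Q⁆, V⁆ = ⊥ := by
        have : ⁅P, Q⁆ = ⊥ := by
          rw [Subgroup.commutator_eq_bot_iff_le_centralizer]; exact hPQ
        rw [this]; exact Subgroup.commutator_bot_left V
      have h3 : ⁅⁅Q, V⁆, P⁆ = ⊥ :=
        Subgroup.commutator_commutator_eq_bot_of_rotate h1 h2
      -- ⁅V,Q⁆ ≤ U ⊓ C(P) ≤ C(Q)
      have h4 : ⁅V, Q⁆ ≤ Subgroup.centralizer (P : Set G) := by
        rw [Subgroup.commutator_comm V Q, ← Subgroup.commutator_eq_bot_iff_le_centralizer]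
        exact h3
      have h5 : ⁅V, Q⁆ ≤ U :=
        (Cfsg.Agent.Helper24.commutator_le_of_le_normalizer V Q (hDQ _)).trans (hDU _)
      have h6 : ⁅V, Q⁆ ≤ Subgroup.centralizer (Q : Set G) := (le_inf h5 h4).trans hC
      have h7 : ⁅⁅V, Q⁆, Q⁆ = ⊥ := by
        rw [Subgroup.commutator_eq_bot_iff_le_centralizer]; exact h6
      have hcop : (Nat.card Q).Coprime (Nat.card V) := by
        have hVp : IsPGroup p V := hU.to_le (hDU _)
        obtain ⟨m, hm⟩ := IsPGroup.iff_card.mp hVp
        rw [hm]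
        exact Nat.Coprime.pow_right m hQ
      exact Cfsg.Agent.Helper24.commutator_eq_bot_of_coprime V Q (hDQ _) hcop h7
  have h0 := main n le_rfl
  rw [Nat.sub_self, hD0, Subgroup.commutator_comm,
    Subgroup.commutator_eq_bot_iff_le_centralizer] at h0
  exact h0

end Cfsg.Agent.Helper49
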