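import Mathlib
import Cfsg.Agent.Lib.Helper40.FixedSubfield
import Cfsg.Agent.Lib.Helper44.EllBlock

/-!
OMF (F1) for helper5's server (board #3230): a field automorphism of prime order fixing the
coefficients of an anisotropic binary form has odd order.
-/

set_option autoImplicit false

namespace Cfsg.Agent.Helper49.OMF

open Cfsg.Agent.Helper40.FixK

theorem odd_of_fixed_aniso {F : Type*} [Field F] [Fintype F] (a b : F)
    (hab : ∀ z₁ z₂ : F, z₁ ^ 2 + a * z₁ * z₂ + b * z₂ ^ 2 = 0 → z₁ = 0 ∧ z₂ = 0)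
    (σ : F ≃+* F) (ha : σ a = a) (hb : σ b = b) {r : ℕ} (hr : r.Prime) (hσ : orderOf σ = r) :
    Odd r := by
  rcases hr.eq_two_or_odd' with h2 | hodd
  · exfalso
    subst h2
    classical
    have hfr : Module.finrank (fixK σ) F = 2 := by rw [finrank_fixK, hσ]
    have : Fintype (fixK σ) := Fintype.ofFinite _
    have hab0 : ∀ z₁ z₂ : fixK σ,
        z₁ ^ 2 + (⟨a, ha⟩ : fixK σ) * z₁ * z₂ + (⟨b, hb⟩ : fixK σ) * z₂ ^ 2 = 0 →
          z₁ = 0 ∧ z₂ = 0 := by
      intro z₁ z₂ h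
      have h' := congrArg (fun x : fixK σ => (x : F)) h
      obtain ⟨h1, h2⟩ := hab z₁ z₂ (by simpa using h')
      exact ⟨Subtype.ext h1, Subtype.ext h2⟩
    obtain ⟨θ, hθ⟩ := Cfsg.Agent.Helper44.exists_root_quadratic (K := F) (F := fixK σ) hfr
      ⟨a, ha⟩ ⟨b, hb⟩ hab0
    have e1 : algebraMap (fixK σ) F ⟨a, ha⟩ = a := rfl
    have e2 : algebraMap (fixK σ) F ⟨b, hb⟩ = b := rfl
    rw [e1, e2] at hθ
    have h3 := hab θ 1 (by rw [mul_one, one_pow, mul_one]; exact hθ)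
    exact one_ne_zero h3.2
  · exact hodd

end Cfsg.Agent.Helper49.OMF
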