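import Mathlib
import Cfsg.Agent.Lib.Helper14.SPIDefs
import Cfsg.Agent.Lib.Helper48.SPIIND
import Cfsg.Agent.Lib.Helper62.SPISPLIT
import Cfsg.Agent.Lib.Helper66.SPIFIX
import Cfsg.Agent.Lib.Helper62.SPIJOIN
import Cfsg.Agent.Lib.Helper62.SPICOARSE

set_option autoImplicit false

/-!
SPI (LE) for helper14's server (S5961): the direction `⇐`, abstractly.
-/

namespace Cfsg.Agent.Helper49.SPI

open Module Polynomial Cfsg.Agent.Helper14.SPI
open Cfsg.Agent.Helper48.SPI (exists_block_decomp_on)
open Cfsg.Agent.Helper62.SPI (exists_split)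
open Cfsg.Agent.Helper66.SPI (fix_decomp)
open Cfsg.Agent.Helper62.SPI (join_fam coarsen)

theorem h49_cOf_pos_even (q r : ℕ) [Fact r.Prime] (hrq : ¬ r ∣ q) :
    0 < cOf q r ∧ Even (cOf q r) := by
  have hr := (Fact.out : r.Prime)
  have hne : ((q : ℕ) : ZMod r) ≠ 0 := by
    intro h
    exact hrq ((ZMod.natCast_eq_zero_iff q r).1 h)
  have hpow : ((q : ℕ) : ZMod r) ^ (r - 1) = 1 := ZMod.pow_card_sub_one_eq_one hne
  have hdvd := orderOf_dvd_of_pow_eq_one hpow
  have hpos : 0 < orderOf ((q : ℕ) : ZMod r) := by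
    rcases Nat.eq_zero_or_pos (orderOf ((q : ℕ) : ZMod r)) with h | h
    · rw [h] at hdvd
      have h0 := Nat.eq_zero_of_zero_dvd hdvd
      have := hr.two_le
      omega
    · exact h
  unfold cOf
  split_ifs with h
  · exact ⟨hpos, h⟩
  · exact ⟨by omega, even_two_mul _⟩

theorem exists_decomp_of_arith {F V : Type*} [Field F] [Fintype F] [AddCommGroup V] [Module F V]
    [FiniteDimensional F V] (B : LinearMap.BilinForm F V) (hB : B.IsAlt)
    (hnd : NondegOn B ⊤) (x : V →ₗ[F] V) (hx : IsIsom B x) (r : ℕ) [Fact r.Prime] (hr2 : r ≠ 2)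
    (hr0 : (r : F) ≠ 0) (hrq : ¬ r ∣ Fintype.card F) (hxr : x ^ r = 1)
    (a t : ℕ) (hat : finrank F V = a * t) (hae : Even a)
    (hca : cOf (Fintype.card F) r ≤ a)
    (hk : finrank F V % cOf (Fintype.card F) r = t * (a % cOf (Fintype.card F) r)) :
    ∃ D : Fin t → Submodule F V, IsOrthFam B ⊤ D ∧ (∀ j, finrank F (D j) = a) ∧
      ∀ j, (D j).map x ≤ D j := by
  classical
  obtain ⟨hc0, hce⟩ := h49_cOf_pos_even (Fintype.card F) r hrq
  generalize hcdef : cOf (Fintype.card F) r = c at hc0 hce hca hk
  -- Step 1: fixed / moved decomposition of the whole space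
  obtain ⟨h1, h2, h3, h4, h5, h6, h7⟩ := fix_decomp B hB x hx r hr0 hxr ⊤ le_top hnd
  generalize hV0 : (⊤ : Submodule F V) ⊓ LinearMap.ker (x - 1) = V0 at h1 h2 h3 h4
  generalize hV1 : (⊤ : Submodule F V).map (x - 1) = V1 at h1 h2 h3 h5 h6 h7
  -- Step 2: blocks on the moved part
  obtain ⟨m, W, hWfam, hWinv, hWdim⟩ :=
    exists_block_decomp_on B hB x hx r hr2 hr0 hrq hxr V1 h6 h5 h7
  rw [hcdef] at hWdim
  -- dimensions
  have hdim01 : finrank F V0 + finrank F V1 = finrank F V := by
    have := Submodule.finrank_sup_add_finrank_inf_eq V0 V1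
    rw [h2, h1] at this
    simpa using this.symm
  have hdim1 : finrank F V1 = m * c := by
    obtain ⟨hfam1, hd1⟩ := coarsen B hB V1 W hWfam (fun _ : Fin m => (0 : Fin 1))
    have hs := hfam1.sup
    rw [iSup_unique] at hs
    rw [← hs, hd1 default]
    have : Finset.univ.filter (fun k : Fin m => (0 : Fin 1) = default) = Finset.univ :=
      Finset.filter_true_of_mem (fun _ _ => Subsingleton.elim _ _)
    rw [this]
    simp [hWdim]
  -- arithmetic
  set κ := a / c with hκdef
  have hκ : 1 ≤ κ := Nat.div_pos hca hc0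
  have hadiv : c * κ + a % c = a := Nat.div_add_mod a c
  have hρ : t * (a % c) < c := by rw [← hk]; exact Nat.mod_lt _ hc0
  have hm : m ≤ κ * t := by
    by_contra hcon
    have h' : κ * t + 1 ≤ m := by omega
    have e1 : (κ * t + 1) * c = c * κ * t + c := by ring
    have e2 : (κ * t + 1) * c ≤ m * c := Nat.mul_le_mul_right c h'
    have e3 : a * t = c * κ * t + a % c * t := by
      calc a * t = (c * κ + a % c) * t := by rw [hadiv]
        _ = c * κ * t + a % c * t := by ring
    have e4 : a % c * t = t * (a % c) := Nat.mul_comm _ _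
    omega
  let g : Fin m → Fin t := fun k =>
    ⟨k.1 / κ, (Nat.div_lt_iff_lt_mul hκ).2 (lt_of_lt_of_le k.2 (by rw [Nat.mul_comm]; exact hm))⟩
  set s : Fin t → ℕ := fun j => (Finset.univ.filter (fun k : Fin m => g k = j)).card with hsdef
  have hs_le : ∀ j, s j ≤ κ := by
    intro j
    have : s j ≤ (Finset.range κ).card := by
      apply Finset.card_le_card_of_injOn (fun k : Fin m => k.1 % κ)
      · intro k _
        simp only [Finset.coe_range, Set.mem_Iio]
        exact Nat.mod_lt _ hκ
      · intro k hk1 k' hk2 hkk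
        simp only [Finset.coe_filter, Finset.mem_univ, true_and, Set.mem_ofPred_eq] at hk1 hk2
        have q1 : k.1 / κ = k'.1 / κ := by
          have := congrArg Fin.val (hk1.trans hk2.symm)
          simpa [g] using this
        have d1 := Nat.div_add_mod k.1 κ
        have d2 := Nat.div_add_mod k'.1 κ
        simp only at hkk
        apply Fin.ext
        rw [← d1, ← d2, q1, hkk]
    simpa using this
  have hs_sum : ∑ j, s j = m := by
    have := Finset.card_eq_sum_card_fiberwise (f := g) (s := (Finset.univ : Finset (Fin m)))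
      (t := (Finset.univ : Finset (Fin t))) (fun _ _ => Finset.mem_univ _)
    simpa using this.symm
  have hsc : ∀ j, s j * c ≤ a := by
    intro j
    calc s j * c ≤ κ * c := Nat.mul_le_mul_right c (hs_le j)
      _ = c * κ := Nat.mul_comm _ _
      _ ≤ a := by omega
  set e : Fin t → ℕ := fun j => a - s j * c with hedef
  have he_even : ∀ j, Even (e j) := by
    intro j
    have : Even (s j * c) := hce.mul_left _
    exact (Nat.even_sub (hsc j)).2 ⟨fun _ => this, fun _ => hae⟩
  have he_sum : ∑ j, e j = finrank F V0 := by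
    have h8 : ∑ j : Fin t, (e j + s j * c) = ∑ _j : Fin t, a :=
      Finset.sum_congr rfl (fun j _ => Nat.sub_add_cancel (hsc j))
    rw [Finset.sum_add_distrib, ← Finset.sum_mul, hs_sum, Finset.sum_const, Finset.card_univ,
      Fintype.card_fin, smul_eq_mul] at h8
    have h9 : t * a = a * t := Nat.mul_comm _ _
    omega
  -- Step 5: split the fixed part
  obtain ⟨E, hE, hEdim⟩ := exists_split B hB V0 h4 e he_even he_sum
  -- Step 6: join
  have hjoin : IsOrthFam B ⊤ (Sum.elim E W) := join_fam B hB V0 V1 ⊤ h1 h2 h3 E W hE hWfam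
  -- Step 7: coarsen
  obtain ⟨hD, hDdim⟩ := coarsen B hB ⊤ (Sum.elim E W) hjoin (Sum.elim id g)
  refine ⟨_, hD, ?_, ?_⟩
  · intro j
    have key : ∑ k ∈ Finset.univ.filter (fun k : Fin t ⊕ Fin m => Sum.elim id g k = j),
          finrank F ↥(Sum.elim E W k)
        = (∑ k : Fin t, if k = j then finrank F ↥(E k) else 0) +
          ∑ k : Fin m, if g k = j then finrank F ↥(W k) else 0 := by
      rw [Finset.sum_filter, Fintype.sum_sum_type]
      rfl
    have hB' : (∑ a₂ : Fin m, if g a₂ = j then finrank F ↥(W a₂) else 0) = s j * c := by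
      rw [← Finset.sum_filter, Finset.sum_congr rfl (fun k _ => hWdim k), Finset.sum_const,
        smul_eq_mul]
    have hA' : (∑ k : Fin t, if k = j then finrank F ↥(E k) else 0) = e j := by
      rw [Finset.sum_ite_eq']
      simp [hEdim j]
    rw [hDdim j]
    refine Eq.trans ?_ (Nat.sub_add_cancel (hsc j))
    refine Eq.trans ?_ (congrArg₂ (· + ·) hA' hB')
    convert key using 2
  · intro j
    rw [Submodule.map_iSup]
    apply iSup_le
    intro k
    rw [Submodule.map_iSup]
    apply iSup_le
    intro hkj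
    have hpiece : (Sum.elim E W k).map x ≤ Sum.elim E W k := by
      rcases k with k | k
      · simp only [Sum.elim_inl]
        have hle : E k ≤ V0 := by rw [← hE.sup]; exact le_iSup E k
        rintro _ ⟨v, hv, rfl⟩
        have hv0 : v ∈ V0 := hle hv
        rw [← hV0] at hv0
        have hker : (x - 1) v = 0 := LinearMap.mem_ker.1 hv0.2
        have hxv : x v = v := by
          have : x v - v = 0 := by simpa using hker
          exact sub_eq_zero.1 this
        rw [hxv]; exact hv
      · simp only [Sum.elim_inr]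
        exact hWinv k
    exact hpiece.trans (le_iSup₂_of_le k hkj le_rfl)

end Cfsg.Agent.Helper49.SPI
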