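import Mathlib
import Cfsg.Agent.Lib.Helper99.FrobFR
import Cfsg.Agent.Lib.Helper52.Coprime
import Cfsg.Agent.Lib.Helper22.Factorization

/-!
(AS1) of helper96's B-G 13.8 server (board #3082): the SECTION form of
`Helper99.FrobFR.frob_centralizes` and the consequence `le_of_centralizer_le`.
-/

set_option autoImplicit false

namespace Cfsg.Agent.Helper49.BGAsym

open Subgroup

section Sec

variable {G : Type*} [Group G]

/-- `g` normalizes `A ⊓ B` if it normalizes both. -/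
theorem mem_normalizer_inf' {A B : Subgroup G} {g : G} (hA : g ∈ normalizer (A : Set G))
    (hB : g ∈ normalizer (B : Set G)) : g ∈ normalizer ((A ⊓ B : Subgroup G) : Set G) := by
  rw [mem_normalizer_iff] at hA hB ⊢
  intro h
  rw [mem_inf, mem_inf, ← hA h, ← hB h]

variable (X0 : Subgroup G)

/-- the section `N_G(X0)/X0` -/
abbrev Sec : Type _ :=
  ↥(normalizer (X0 : Set G)) ⧸ X0.subgroupOf (normalizer (X0 : Set G))

/-- the projection `N_G(X0) → N_G(X0)/X0` -/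
noncomputable def secMk : ↥(normalizer (X0 : Set G)) →* Sec X0 :=
  QuotientGroup.mk' (X0.subgroupOf (normalizer (X0 : Set G)))

theorem secMk_eq_one_iff (a : ↥(normalizer (X0 : Set G))) :
    secMk X0 a = 1 ↔ (a : G) ∈ X0 := by
  unfold secMk
  rw [QuotientGroup.mk'_apply, QuotientGroup.eq_one_iff, mem_subgroupOf]

/-- the image of a subgroup of `G` in the section -/
noncomputable def bar (A : Subgroup G) : Subgroup (Sec X0) :=
  (A.subgroupOf (normalizer (X0 : Set G))).map (secMk X0)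

theorem mem_bar_of_mem {A : Subgroup G} {a : G} (ha : a ∈ A)
    (haN : a ∈ normalizer (X0 : Set G)) : secMk X0 ⟨a, haN⟩ ∈ bar X0 A :=
  mem_map_of_mem _ (mem_subgroupOf.2 ha)

theorem exists_of_mem_bar {A : Subgroup G} {y : Sec X0} (hy : y ∈ bar X0 A) :
    ∃ (a : G) (haN : a ∈ normalizer (X0 : Set G)), a ∈ A ∧ secMk X0 ⟨a, haN⟩ = y := by
  obtain ⟨a', ha', rfl⟩ := mem_map.1 hy
  exact ⟨a'.1, a'.2, mem_subgroupOf.1 ha', rfl⟩

theorem isPGroup_bar {p : ℕ} {A : Subgroup G} (hA : IsPGroup p A) : IsPGroup p (bar X0 A) := by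
  unfold bar
  exact (hA.comap_subtype).map _

theorem bar_le_normalizer {A B : Subgroup G} (hAB : A ≤ normalizer (B : Set G))
    (hBN : B ≤ normalizer (X0 : Set G)) :
    bar X0 A ≤ normalizer ((bar X0 B : Subgroup (Sec X0)) : Set (Sec X0)) := by
  have h1 : A.subgroupOf (normalizer (X0 : Set G)) ≤
      normalizer ((B.subgroupOf (normalizer (X0 : Set G)) : Subgroup _) : Set _) := by
    rw [← subgroupOf_normalizer_eq hBN]
    intro a ha
    exact mem_subgroupOf.2 (hAB (mem_subgroupOf.1 ha))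
  exact (map_mono h1).trans (le_normalizer_map _)

theorem secMk_mem_normalizer_bar {A : Subgroup G} {x : G} (hxA : x ∈ normalizer (A : Set G))
    (hxN : x ∈ normalizer (X0 : Set G)) (hAN : A ≤ normalizer (X0 : Set G)) :
    secMk X0 ⟨x, hxN⟩ ∈ normalizer ((bar X0 A : Subgroup (Sec X0)) : Set (Sec X0)) := by
  have h1 : (⟨x, hxN⟩ : ↥(normalizer (X0 : Set G))) ∈
      normalizer ((A.subgroupOf (normalizer (X0 : Set G)) : Subgroup _) : Set _) := by
    rw [← subgroupOf_normalizer_eq hAN]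
    exact mem_subgroupOf.2 hxA
  exact le_normalizer_map _ (mem_map_of_mem _ h1)

end Sec

variable {G : Type*} [Group G] [Finite G]

/-- SECTION form of `Helper99.FrobFR.frob_centralizes`. -/
theorem frob_section_comm {p q r : ℕ} (hp : p.Prime) (hq : q.Prime) (hr : r.Prime)
    (hp2 : p ≠ 2) (hq2 : q ≠ 2) (hpq : p ≠ q) (hpr : p ≠ r) (hqr : q ≠ r)
    (X X0 K : Subgroup G) (x : G) (hX : IsPGroup p X) (hK : IsPGroup q K)
    (hX0X : X0 ≤ X) (hXX0 : X ≤ normalizer (X0 : Set G))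
    (hKX : K ≤ normalizer (X : Set G)) (hKX0 : K ≤ normalizer (X0 : Set G))
    (hxX : x ∈ normalizer (X : Set G)) (hxX0 : x ∈ normalizer (X0 : Set G))
    (hxK : x ∈ normalizer (K : Set G)) (hxr : x ^ r = 1)
    (hKgen : K ≤ Subgroup.closure {g | ∃ u ∈ K, g = x * u * x⁻¹ * u⁻¹})
    (hfix : X ⊓ centralizer ({x} : Set G) ≤ X0) :
    ⁅X, K⁆ ≤ X0 := by
  have hpF : Fact p.Prime := ⟨hp⟩
  -- the data in the section
  have hxbar_r : (secMk X0 ⟨x, hxX0⟩) ^ r = 1 := by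
    rw [← map_pow]
    have h1 : (⟨x, hxX0⟩ : ↥(normalizer (X0 : Set G))) ^ r = 1 :=
      Subtype.ext (by simpa using hxr)
    rw [h1, map_one]
  have hKgen' : bar X0 K ≤ Subgroup.closure
      {g | ∃ u ∈ bar X0 K,
        g = secMk X0 ⟨x, hxX0⟩ * u * (secMk X0 ⟨x, hxX0⟩)⁻¹ * u⁻¹} := by
    intro kb hkb
    obtain ⟨k, hkN, hk, rfl⟩ := exists_of_mem_bar X0 hkb
    obtain ⟨T, hT⟩ : ∃ T : Subgroup ↥(normalizer (X0 : Set G)), T = (Subgroup.closure
        {g | ∃ u ∈ bar X0 K,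
          g = secMk X0 ⟨x, hxX0⟩ * u * (secMk X0 ⟨x, hxX0⟩)⁻¹ * u⁻¹}).comap (secMk X0) :=
      ⟨_, rfl⟩
    have hS : {g | ∃ u ∈ K, g = x * u * x⁻¹ * u⁻¹} ⊆
        ((T.map (normalizer (X0 : Set G)).subtype : Subgroup G) : Set G) := by
      rintro g ⟨u, hu, rfl⟩
      have huN := hKX0 hu
      rw [SetLike.mem_coe]
      refine mem_map.2 ⟨⟨x, hxX0⟩ * ⟨u, huN⟩ * (⟨x, hxX0⟩)⁻¹ * (⟨u, huN⟩)⁻¹, ?_, by simp⟩
      rw [hT, mem_comap]
      apply Subgroup.subset_closure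
      refine ⟨secMk X0 ⟨u, huN⟩, mem_bar_of_mem X0 hu huN, ?_⟩
      simp only [map_mul, map_inv]
    have hk' := (Subgroup.closure_le _).2 hS (hKgen hk)
    obtain ⟨t, ht, htk⟩ := mem_map.1 hk'
    have ht' : t = ⟨k, hkN⟩ := Subtype.ext htk
    rw [ht', hT, mem_comap] at ht
    exact ht
  have hΩ : ∀ y ∈ bar X0 X, secMk X0 ⟨x, hxX0⟩ * y = y * secMk X0 ⟨x, hxX0⟩ → y ^ p = 1 →
      y ∈ centralizer ((bar X0 K : Subgroup (Sec X0)) : Set (Sec X0)) := by
    intro yb hyb hcomm _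
    obtain ⟨y, hyN, hy, rfl⟩ := exists_of_mem_bar X0 hyb
    suffices hy0 : y ∈ X0 by
      have h1 : secMk X0 ⟨y, hyN⟩ = 1 := (secMk_eq_one_iff X0 _).2 hy0
      rw [h1]
      exact Subgroup.one_mem _
    have hc : ∀ a ∈ Subgroup.zpowers x, y * a * y⁻¹ * a⁻¹ ∈ X0 := by
      intro a ha
      obtain ⟨n, rfl⟩ := Subgroup.mem_zpowers_iff.1 ha
      have hcm : Commute (secMk X0 ⟨y, hyN⟩) (secMk X0 ⟨x, hxX0⟩) := hcomm.symm
      have hcm' := hcm.zpow_right n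
      have hxnN : x ^ n ∈ normalizer (X0 : Set G) := Subgroup.zpow_mem _ hxX0 n
      have e0 : (⟨x ^ n, hxnN⟩ : ↥(normalizer (X0 : Set G))) = ⟨x, hxX0⟩ ^ n :=
        Subtype.ext (by simp)
      have e2 : secMk X0 (⟨y, hyN⟩ * ⟨x ^ n, hxnN⟩ * (⟨y, hyN⟩)⁻¹ * (⟨x ^ n, hxnN⟩)⁻¹) = 1 := by
        rw [e0]
        simp only [map_mul, map_inv, map_zpow]
        rw [hcm'.eq, mul_inv_cancel_right, mul_inv_cancel]
      exact (secMk_eq_one_iff X0 _).1 e2
    have hX0p : IsPGroup p X0 := hX.to_le hX0X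
    have hcop : (Nat.card (Subgroup.zpowers x)).Coprime (Nat.card X) := by
      obtain ⟨a, ha⟩ := IsPGroup.iff_card.mp hX
      rw [ha, Nat.card_zpowers]
      have hdvd : orderOf x ∣ r := orderOf_dvd_of_pow_eq_one hxr
      exact Nat.Coprime.coprime_dvd_left hdvd
        (Nat.Coprime.pow_right _ ((Nat.coprime_primes hr hp).2 hpr.symm))
    have hsolv : Group.IsSolvable X0 ∨ Group.IsSolvable (Subgroup.zpowers x) := by
      left
      have := hX0p.isNilpotent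
      infer_instance
    obtain ⟨n, hn, c, hc', rfl⟩ :=
      Cfsg.Agent.Helper52.exists_mul_centralizer_of_comm_mem X X0 (Subgroup.zpowers x) hX0X
        (by rw [Subgroup.zpowers_le]; exact hxX) (by rw [Subgroup.zpowers_le]; exact hxX0)
        hcop hsolv y hy hc
    have hcx : c ∈ centralizer ({x} : Set G) := by
      rw [mem_centralizer_iff]
      intro h hh
      rw [Set.mem_singleton_iff] at hh
      subst hh
      exact (mem_centralizer_iff.1 hc'.2) h (Subgroup.mem_zpowers h)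
    exact Subgroup.mul_mem _ hn (hfix ⟨hc'.1, hcx⟩)
  have hmain := Cfsg.Agent.Helper99.FrobFR.frob_centralizes hp hq hr hp2 hq2 hpq hpr hqr
    (bar X0 X) (bar X0 K) (secMk X0 ⟨x, hxX0⟩) (isPGroup_bar X0 hX) (isPGroup_bar X0 hK)
    (bar_le_normalizer X0 hKX hXX0) (secMk_mem_normalizer_bar X0 hxX hxX0 hXX0)
    (secMk_mem_normalizer_bar X0 hxK hxX0 hKX0) hxbar_r hKgen' hΩ
  rw [Subgroup.commutator_le]
  intro y hy k hk
  have hyN := hXX0 hy
  have hkN := hKX0 hk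
  have h1 := hmain (mem_bar_of_mem X0 hy hyN)
  have h2 := (mem_centralizer_iff.1 h1) _ (mem_bar_of_mem X0 hk hkN)
  -- h2 : k̄ * ȳ = ȳ * k̄
  have e2 : secMk X0 (⟨y, hyN⟩ * ⟨k, hkN⟩ * (⟨y, hyN⟩)⁻¹ * (⟨k, hkN⟩)⁻¹) = 1 := by
    simp only [map_mul, map_inv]
    rw [← h2, mul_inv_cancel_right, mul_inv_cancel]
  exact (secMk_eq_one_iff X0 _).1 e2

/-- step (6) of board #2857. -/
theorem le_of_centralizer_le {p q r : ℕ} (hp : p.Prime) (hq : q.Prime) (hr : r.Prime)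
    (hp2 : p ≠ 2) (hq2 : q ≠ 2) (hpq : p ≠ q) (hpr : p ≠ r) (hqr : q ≠ r)
    (S K M : Subgroup G) (x : G) (hS : IsPGroup p S) (hK : IsPGroup q K)
    (hKS : K ≤ normalizer (S : Set G)) (hxS : x ∈ normalizer (S : Set G))
    (hxK : x ∈ normalizer (K : Set G)) (hxr : x ^ r = 1)
    (hKgen : K ≤ Subgroup.closure {g | ∃ u ∈ K, g = x * u * x⁻¹ * u⁻¹})
    (hKM : K ≤ M) (hxM : x ∈ M)
    (hCK : S ⊓ centralizer (K : Set G) ≤ M) (hCx : S ⊓ centralizer ({x} : Set G) ≤ M) :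
    S ≤ M := by
  have hpF : Fact p.Prime := ⟨hp⟩
  have hqF : Fact q.Prime := ⟨hq⟩
  by_contra hSM
  have hne : S ⊓ M ≠ S := fun e => hSM (e ▸ inf_le_right)
  obtain ⟨g, hgS, hgN, hgS0⟩ :=
    Cfsg.Agent.Helper22.exists_mem_normalizer_not_mem hS (inf_le_left : S ⊓ M ≤ S) hne
  -- everything normalizes `S ⊓ M` and `N_S(S ⊓ M)`
  have hnorm0 : ∀ k, k ∈ normalizer (S : Set G) → k ∈ M →
      k ∈ normalizer ((S ⊓ M : Subgroup G) : Set G) :=
    fun k hk hkM => mem_normalizer_inf' hk (le_normalizer hkM)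
  have hnorm1 : ∀ k, k ∈ normalizer (S : Set G) → k ∈ M →
      k ∈ normalizer ((S ⊓ normalizer ((S ⊓ M : Subgroup G) : Set G) : Subgroup G) : Set G) :=
    fun k hk hkM => mem_normalizer_inf' hk (le_normalizer (hnorm0 k hk hkM))
  have hcomm := frob_section_comm hp hq hr hp2 hq2 hpq hpr hqr
    (S ⊓ normalizer ((S ⊓ M : Subgroup G) : Set G)) (S ⊓ M) K x (hS.to_le inf_le_left) hK
    (le_inf inf_le_left le_normalizer) inf_le_right
    (fun k hk => hnorm1 k (hKS hk) (hKM hk)) (fun k hk => hnorm0 k (hKS hk) (hKM hk))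
    (hnorm1 x hxS hxM) (hnorm0 x hxS hxM) hxK hxr hKgen
    (fun c hc => ⟨hc.1.1, hCx ⟨hc.1.1, hc.2⟩⟩)
  have hcop : (Nat.card K).Coprime
      (Nat.card (S ⊓ normalizer ((S ⊓ M : Subgroup G) : Set G) : Subgroup G)) := by
    obtain ⟨a, ha⟩ := IsPGroup.iff_card.mp (hS.to_le (inf_le_left :
      S ⊓ normalizer ((S ⊓ M : Subgroup G) : Set G) ≤ S))
    obtain ⟨b, hb⟩ := IsPGroup.iff_card.mp hK
    rw [ha, hb]
    exact Nat.Coprime.pow _ _ ((Nat.coprime_primes hq hp).2 hpq.symm)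
  have hsolvK : Group.IsSolvable K := by
    have := hK.isNilpotent
    infer_instance
  have hdec := Cfsg.Agent.Helper52.eq_commutator_sup_centralizer
    (S ⊓ normalizer ((S ⊓ M : Subgroup G) : Set G)) K
    (fun k hk => hnorm1 k (hKS hk) (hKM hk)) hcop (Or.inl hsolvK)
  have hle : S ⊓ normalizer ((S ⊓ M : Subgroup G) : Set G) ≤ M := by
    rw [hdec]
    apply sup_le
    · exact hcomm.trans inf_le_right
    · intro c hc
      exact hCK ⟨hc.1.1, hc.2⟩
  exact hgS0 ⟨hgS, hle ⟨hgS, hgN⟩⟩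

end Cfsg.Agent.Helper49.BGAsym
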