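import Mathlib

/-!
Definitions for helper49's SUB-SERVER "N5-A3a" = piece `alpha_three_pure` of helper32's server N5 (S1904).

LINEARISATION.  `M` = the abelian 2-group `B` written additively, `E = AddMonoid.End M` (a ring), `D M i = 2^i M`,
`J M i` = endomorphisms with image in `2^i M` (a two-sided ideal, `J i * J j ⊆ J (i+j)`, `2 J i ⊆ J (i+1)`).
`Filt J σ τ k` = the abstract filtered-ring axioms (`σ` = the automorphism of order 3, `1 + σ + σ² = 0`, `τ = σ⁻¹ = σ²`,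
`k` = least with `2^k M = 0`).  `Act J σ τ φ α` = a group `X` with an automorphism `φ` of order 3, `[X, φ] = X`,
acting on `M` via `α : X →* E` (conjugation), `α (φ x) = σ (α x) σ⁻¹`, trivially on `M / 2M`.
-/

set_option autoImplicit false

namespace Cfsg.Agent.Helper49.N5

/-- `2^i M` -/
def D (M : Type*) [AddCommGroup M] (i : ℕ) : Set M := {m | ∃ m' : M, m = 2 ^ i • m'}

/-- endomorphisms of `M` with image in `2^i M` -/
def J (M : Type*) [AddCommGroup M] (i : ℕ) : Set (AddMonoid.End M) := {δ | ∀ m : M, δ m ∈ D M i}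

/-- an additive automorphism as an element of the ring `End M` -/
def toEnd {M : Type*} [AddCommGroup M] (s : M ≃+ M) : AddMonoid.End M := s.toAddMonoidHom

/-- abstract filtered ring `(E, J i)` with an element `σ` of order 3, `1 + σ + σ² = 0`. -/
structure Filt {E : Type*} [Ring E] (J : ℕ → Set E) (σ τ : E) (k : ℕ) : Prop where
  σ3 : σ * σ * σ = 1
  τ_eq : τ = σ * σ
  N : 1 + σ + σ * σ = 0
  zero : ∀ i, (0 : E) ∈ J i
  add : ∀ i a b, a ∈ J i → b ∈ J i → a + b ∈ J i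
  neg : ∀ i a, a ∈ J i → -a ∈ J i
  mulL : ∀ i (e a : E), a ∈ J i → e * a ∈ J i
  mulR : ∀ i (a e : E), a ∈ J i → a * e ∈ J i
  mul : ∀ i j a b, a ∈ J i → b ∈ J j → a * b ∈ J (i + j)
  two : ∀ i a, a ∈ J i → 2 * a ∈ J (i + 1)
  mono : ∀ i a, a ∈ J (i + 1) → a ∈ J i
  div : ∀ j a, j + 1 ≤ k → 2 * a ∈ J (j + 1) → a ∈ J j
  last : ∀ a, a ∈ J k → a = 0

/-- a group `X` with an automorphism `φ` of order 3, `[X, φ] = X`, acting through `α : X →* E`. -/
structure Act {E : Type*} [Ring E] (J : ℕ → Set E) (σ τ : E) {X : Type*} [Group X] (φ : MulAut X)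
    (α : X →* E) : Prop where
  equiv : ∀ x, α (φ x) = σ * α x * τ
  φ3 : ∀ x, φ (φ (φ x)) = x
  gen : Subgroup.closure {g : X | ∃ x : X, g = x⁻¹ * φ x} = ⊤
  lv1 : ∀ x, α x - 1 ∈ J 1

/-- `Q j`: `φ` acts nontrivially on the `j`-th layer of `X`. -/
def Q {E : Type*} [Ring E] (J : ℕ → Set E) (σ τ : E) {X : Type*} [Group X] (α : X →* E) (j : ℕ) : Prop :=
  ∃ x : X, α x - 1 ∈ J j ∧ σ * (α x - 1) * τ - (α x - 1) ∉ J (j + 1)

end Cfsg.Agent.Helper49.N5
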