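import Mathlib
import Cfsg.Agent.Lib.Helper12.BG157E2Eb

/-!
BG157-E2 (E) `normalizer_of_eigen` (helper49), sub-piece of (E2) of helper2's server BG157 (S1383).
-/

set_option autoImplicit false

namespace Cfsg.Agent.Helper49.BG157

open Subgroup Cfsg.Agent.Helper12.BG157

variable {G : Type*} [Group G] [Finite G]

/-- (Ea) the eigenvalue `a` of `k` on `L/Z` satisfies `a^2 ≢ 1 (mod p)`. -/
theorem sq_not_modEq_one {p : ℕ} [Fact p.Prime] (P K Z L : Subgroup G)
    (hcop : (Nat.card K).Coprime p) (hZ : Nat.card Z = p) (hZK : K ≤ centralizer (Z : Set G))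
    (hfix : ∀ k ∈ K, k ≠ 1 → P ⊓ centralizer ({k} : Set G) = Z)
    (k : G) (hkK : k ∈ K) (hk1 : k ≠ 1) (hkodd : Odd (orderOf k))
    (hZL : Z ≤ L) (hLP : L ≤ P) (hL : Nat.card L = p ^ 2) (hZLc : L ≤ centralizer (Z : Set G))
    (y : G) (hyL : y ∈ L) (hyZ : y ∉ Z) (a : ℕ) (hya : (y ^ a)⁻¹ * (k * y * k⁻¹) ∈ Z) :
    ¬ (a ^ 2 ≡ 1 [MOD p]) := by
  have hpp : p.Prime := Fact.out
  intro hmod
  have hzL : ∀ z ∈ Z, ∀ x ∈ L, z * x = x * z := fun z hz x hx => mem_centralizer_iff.mp (hZLc hx) z hz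
  have hzK : ∀ z ∈ Z, ∀ g ∈ K, z * g = g * z := fun z hz g hg => mem_centralizer_iff.mp (hZK hg) z hz
  have hzKconj : ∀ z ∈ Z, ∀ g ∈ K, g * z * g⁻¹ = z := by
    intro z hz g hg
    rw [← hzK z hz g hg, mul_inv_cancel_right]
  -- y^p ∈ Z
  have hyp : y ^ p ∈ Z := by
    have hn : (Z.subgroupOf L).Normal := by
      refine ⟨fun z hz g => ?_⟩
      rw [mem_subgroupOf] at hz ⊢
      have h1 : (g : G) * (z : G) * (g : G)⁻¹ = (z : G) := by
        rw [← hzL z.1 hz g.1 g.2, mul_inv_cancel_right]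
      simp only [Subgroup.coe_mul, Subgroup.coe_inv]
      rw [h1]; exact hz
    have hq : Nat.card (L ⧸ Z.subgroupOf L) = p := by
      have h1 := Subgroup.card_eq_card_quotient_mul_card_subgroup (Z.subgroupOf L)
      rw [hL, Nat.card_congr (Subgroup.subgroupOfEquivOfLe hZL).toEquiv, hZ, sq] at h1
      exact (Nat.eq_of_mul_eq_mul_right hpp.pos h1).symm
    have h1 : (((⟨y, hyL⟩ : L)) : L ⧸ Z.subgroupOf L) ^ p = 1 := by
      rw [← hq]; exact pow_card_eq_one'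
    rw [← QuotientGroup.mk_pow, QuotientGroup.eq_one_iff, mem_subgroupOf] at h1
    simpa using h1
  obtain ⟨z0, hz0⟩ : ∃ z0, z0 = (y ^ a)⁻¹ * (k * y * k⁻¹) := ⟨_, rfl⟩
  have hz0Z : z0 ∈ Z := hz0 ▸ hya
  have hky : k * y * k⁻¹ = y ^ a * z0 := by rw [hz0]; group
  have hyz0 : Commute y z0 := (hzL z0 hz0Z y hyL).symm
  have hk2K : k ^ 2 ∈ K := K.pow_mem hkK 2
  have hk2y : k ^ 2 * y * (k ^ 2)⁻¹ = y ^ (a * a) * (z0 ^ a * z0) := by
    calc k ^ 2 * y * (k ^ 2)⁻¹ = k * (k * y * k⁻¹) * k⁻¹ := by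
          rw [pow_two, mul_inv_rev]; simp only [mul_assoc]
      _ = k * (y ^ a * z0) * k⁻¹ := by rw [hky]
      _ = (k * y * k⁻¹) ^ a * (k * z0 * k⁻¹) := by rw [conj_pow]; group
      _ = (y ^ a * z0) ^ a * z0 := by rw [hky, hzKconj z0 hz0Z k hkK]
      _ = y ^ (a * a) * (z0 ^ a * z0) := by
        rw [(hyz0.pow_left a).mul_pow, ← pow_mul, mul_assoc]
  have h1p : 1 % p = 1 := Nat.mod_eq_of_lt hpp.one_lt
  obtain ⟨t, ht⟩ : ∃ t, a * a = 1 + p * t := by
    have h2 : (a * a) % p = 1 := by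
      have h3 := hmod
      rw [sq] at h3
      unfold Nat.ModEq at h3
      rw [h3, h1p]
    refine ⟨(a * a) / p, ?_⟩
    have h4 := Nat.div_add_mod (a * a) p
    rw [h2] at h4
    rw [add_comm]; exact h4.symm
  obtain ⟨z', hz'⟩ : ∃ z', z' = (y ^ p) ^ t * (z0 ^ a * z0) := ⟨_, rfl⟩
  have hz'Z : z' ∈ Z := by
    rw [hz']; exact Z.mul_mem (Z.pow_mem hyp t) (Z.mul_mem (Z.pow_mem hz0Z a) hz0Z)
  have hk2y' : k ^ 2 * y * (k ^ 2)⁻¹ = y * z' := by
    rw [hk2y, ht, pow_add, pow_one, pow_mul, hz', mul_assoc]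
  have hconj : y⁻¹ * k ^ 2 * y = z' * k ^ 2 := by
    have h1 : k ^ 2 * y = y * z' * k ^ 2 := by
      calc k ^ 2 * y = (k ^ 2 * y * (k ^ 2)⁻¹) * k ^ 2 := by group
        _ = y * z' * k ^ 2 := by rw [hk2y']
    calc y⁻¹ * k ^ 2 * y = y⁻¹ * (k ^ 2 * y) := by group
      _ = y⁻¹ * (y * z' * k ^ 2) := by rw [h1]
      _ = z' * k ^ 2 := by group
  have hz'p : z' ^ p = 1 := by
    have h1 := pow_card_eq_one' (G := Z) (x := ⟨z', hz'Z⟩)
    rw [hZ] at h1
    simpa using congrArg Subtype.val h1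
  have hcomm' : Commute z' (k ^ 2) := hzK z' hz'Z (k ^ 2) hk2K
  have hp1 : y⁻¹ * (k ^ 2) ^ p * y = (k ^ 2) ^ p := by
    have h1 : (y⁻¹ * k ^ 2 * y) ^ p = (z' * k ^ 2) ^ p := by rw [hconj]
    rw [hcomm'.mul_pow, hz'p, one_mul] at h1
    have h2 : (y⁻¹ * k ^ 2 * y) ^ p = y⁻¹ * (k ^ 2) ^ p * y := by
      have h3 := conj_pow (a := y⁻¹) (b := k ^ 2) (i := p)
      rwa [inv_inv] at h3
    rw [← h2, h1]
  obtain ⟨h, hh⟩ : ∃ h, h = (k ^ 2) ^ p := ⟨_, rfl⟩
  have hhK : h ∈ K := by rw [hh]; exact K.pow_mem hk2K p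
  have hhy : h * y = y * h := by
    rw [← hh] at hp1
    calc h * y = y * (y⁻¹ * h * y) := by group
      _ = y * h := by rw [hp1]
  have hh1 : h ≠ 1 := by
    intro h1
    rw [hh, ← pow_mul] at h1
    have hdvd : orderOf k ∣ 2 * p := orderOf_dvd_of_pow_eq_one h1
    have hc2 : (orderOf k).Coprime 2 := Nat.coprime_two_right.mpr hkodd
    have hcp : (orderOf k).Coprime p :=
      Nat.Coprime.coprime_dvd_left (Subgroup.orderOf_dvd_natCard K hkK) hcop
    have h3 : orderOf k = 1 := Nat.Coprime.eq_one_of_dvd (Nat.Coprime.mul_right hc2 hcp) hdvd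
    exact hk1 (orderOf_eq_one_iff.mp h3)
  apply hyZ
  rw [← hfix h hhK hh1, Subgroup.mem_inf]
  refine ⟨hLP hyL, ?_⟩
  rw [mem_centralizer_iff]
  intro x hx
  rw [Set.mem_singleton_iff] at hx
  subst hx
  exact hhy

/-- A subgroup between two subgroups of orders `p^n`, `p^(n+1)` is one of them. -/
theorem h49_mid_eq {p : ℕ} [Fact p.Prime] (A B C : Subgroup G) (n : ℕ)
    (hA : Nat.card A = p ^ n) (hC : Nat.card C = p ^ (n + 1)) (hAB : A ≤ B) (hBC : B ≤ C) :
    B = A ∨ B = C := by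
  have hpp : p.Prime := Fact.out
  have hdvd : Nat.card B ∣ p ^ (n + 1) := hC ▸ Subgroup.card_dvd_of_le hBC
  obtain ⟨i, hi, hBi⟩ := (Nat.dvd_prime_pow hpp).mp hdvd
  have hdvd2 : p ^ n ∣ p ^ i := by
    rw [← hA, ← hBi]; exact Subgroup.card_dvd_of_le hAB
  have hni : n ≤ i := (Nat.pow_dvd_pow_iff_le_right hpp.one_lt).mp hdvd2
  rcases Nat.lt_or_ge n i with h | h
  · right
    have hin : i = n + 1 := by omega
    exact Subgroup.eq_of_le_of_card_ge hBC (by rw [hC, hBi, hin])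
  · left
    have hin : i = n := by omega
    exact (Subgroup.eq_of_le_of_card_ge hAB (by rw [hA, hBi, hin])).symm

/-- In a nonabelian group `P` of order `p^3` with a central subgroup `Z` of order `p`, central elements lie in `Z`. -/
theorem h49_mem_of_central {p : ℕ} [Fact p.Prime] (P Z : Subgroup G)
    (hPc : Nat.card P = p ^ 3) (hPna : ¬ IsMulCommutative P)
    (hZ : Nat.card Z = p) (hZP : Z ≤ P) (hZc : P ≤ centralizer (Z : Set G))
    (y : G) (hyP : y ∈ P) (hy : ∀ x ∈ P, x * y = y * x) : y ∈ Z := by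
  have hpp : p.Prime := Fact.out
  by_contra hyZ
  have hZA : Z.subgroupOf P ≤ Subgroup.center P := by
    intro z hz
    rw [Subgroup.mem_center_iff]
    intro x
    exact Subtype.ext ((mem_centralizer_iff.mp (hZc x.2)) z.1 (mem_subgroupOf.mp hz)).symm
  have hyA : (⟨y, hyP⟩ : P) ∈ Subgroup.center P := by
    rw [Subgroup.mem_center_iff]
    intro x
    exact Subtype.ext (hy x.1 x.2)
  have hcZP : Nat.card (Z.subgroupOf P) = p := by
    rw [Nat.card_congr (Subgroup.subgroupOfEquivOfLe hZP).toEquiv, hZ]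
  have hAdvd : Nat.card (Subgroup.center P) ∣ p ^ 3 := hPc ▸ Subgroup.card_subgroup_dvd_card _
  obtain ⟨i, hi3, hAi⟩ := (Nat.dvd_prime_pow hpp).mp hAdvd
  have hi2 : 2 ≤ i := by
    by_contra hlt
    have hle : Nat.card (Subgroup.center P) ≤ Nat.card (Z.subgroupOf P) := by
      rw [hcZP, hAi]
      calc p ^ i ≤ p ^ 1 := Nat.pow_le_pow_right hpp.pos (by omega)
        _ = p := pow_one p
    have heq := Subgroup.eq_of_le_of_card_ge hZA hle
    exact hyZ (mem_subgroupOf.mp (heq ▸ hyA))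
  have hidx : (Subgroup.center P).index * p ^ i = p ^ 3 := by
    rw [← hAi, ← hPc]; exact Subgroup.index_mul_card _
  have hidx' : (Subgroup.center P).index = p ^ (3 - i) := by
    have h3 : p ^ 3 = p ^ (3 - i) * p ^ i := by
      rw [← pow_add]; congr 1; omega
    rw [h3] at hidx
    exact Nat.eq_of_mul_eq_mul_right (pow_pos hpp.pos i) hidx
  have hdvd : Nat.card (P ⧸ Subgroup.center P) ∣ p := by
    change (Subgroup.center P).index ∣ p
    rw [hidx']
    calc p ^ (3 - i) ∣ p ^ 1 := pow_dvd_pow p (by omega)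
      _ = p := pow_one p
  have hcyc : IsCyclic (P ⧸ Subgroup.center P) := isCyclic_of_card_dvd_prime hdvd
  exact hPna ⟨⟨fun a b => commutative_of_cyclic_center_quotient
    (QuotientGroup.mk' (Subgroup.center P)) (by rw [QuotientGroup.ker_mk']) a b⟩⟩

theorem normalizer_of_eigen {p : ℕ} [Fact p.Prime] (hp : p ≠ 2) (P K Z L : Subgroup G)
    (hPc : Nat.card P = p ^ 3) (hPna : ¬ IsMulCommutative P)
    (hKP : K ≤ normalizer (P : Set G)) (hKcomm : ∀ a ∈ K, ∀ b ∈ K, a * b = b * a)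
    (hcop : (Nat.card K).Coprime p)
    (hZ : Nat.card Z = p) (hZP : Z ≤ P) (hZc : P ≤ centralizer (Z : Set G)) (hZK : K ≤ centralizer (Z : Set G))
    (hfix : ∀ k ∈ K, k ≠ 1 → P ⊓ centralizer ({k} : Set G) = Z)
    (k : G) (hkK : k ∈ K) (hk1 : k ≠ 1) (hkodd : Odd (orderOf k))
    (hZL : Z ≤ L) (hLP : L ≤ P) (hL : Nat.card L = p ^ 2) (hkL : k ∈ normalizer (L : Set G)) :
    K ≤ normalizer (L : Set G) := by
  have hpp : p.Prime := Fact.out
  have hzP : ∀ z ∈ Z, ∀ x ∈ P, z * x = x * z := fun z hz x hx => mem_centralizer_iff.mp (hZc hx) z hz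
  have hzK : ∀ z ∈ Z, ∀ g ∈ K, z * g = g * z := fun z hz g hg => mem_centralizer_iff.mp (hZK hg) z hz
  have hzKconj : ∀ z ∈ Z, ∀ g ∈ K, g * z * g⁻¹ = z := by
    intro z hz g hg
    rw [← hzK z hz g hg, mul_inv_cancel_right]
  have hcom := commutatorElement_mem_of_cube P Z hPc hZ hZP hZc
  -- y ∈ L \ Z
  obtain ⟨y, hyL, hyZ⟩ : ∃ y ∈ L, y ∉ Z := by
    by_contra hno
    push Not at hno
    have hle : L ≤ Z := hno
    have h1 := Subgroup.card_le_of_le hle
    rw [hL, hZ, sq] at h1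
    nlinarith [hpp.one_lt]
  have hyP : y ∈ P := hLP hyL
  -- the eigenvalue a
  obtain ⟨a, hya⟩ : ∃ a : ℕ, (y ^ a)⁻¹ * (k * y * k⁻¹) ∈ Z := by
    have hn : (Z.subgroupOf L).Normal := by
      refine ⟨fun z hz g => ?_⟩
      rw [mem_subgroupOf] at hz ⊢
      have h1 : (g : G) * (z : G) * (g : G)⁻¹ = (z : G) := by
        rw [← hzP z.1 hz g.1 (hLP g.2), mul_inv_cancel_right]
      simp only [Subgroup.coe_mul, Subgroup.coe_inv]
      rw [h1]; exact hz
    have hq : Nat.card (L ⧸ Z.subgroupOf L) = p := by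
      have h1 := Subgroup.card_eq_card_quotient_mul_card_subgroup (Z.subgroupOf L)
      rw [hL, Nat.card_congr (Subgroup.subgroupOfEquivOfLe hZL).toEquiv, hZ, sq] at h1
      exact (Nat.eq_of_mul_eq_mul_right hpp.pos h1).symm
    have hne : (((⟨y, hyL⟩ : L)) : L ⧸ Z.subgroupOf L) ≠ 1 := by
      intro h
      rw [QuotientGroup.eq_one_iff] at h
      exact hyZ (mem_subgroupOf.mp h)
    have hkyL : k * y * k⁻¹ ∈ L := (mem_normalizer_iff.mp hkL y).mp hyL
    obtain ⟨a, ha⟩ := (Submonoid.mem_powers_iff _ _).mp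
      (mem_powers_of_prime_card hq hne (g' := (((⟨k * y * k⁻¹, hkyL⟩ : L)) : L ⧸ Z.subgroupOf L)))
    refine ⟨a, ?_⟩
    rw [← QuotientGroup.mk_pow] at ha
    have h2 := QuotientGroup.eq.mp ha
    rw [mem_subgroupOf] at h2
    simpa using h2
  have hna := sq_not_modEq_one P K Z L hcop hZ hZK hfix k hkK hk1 hkodd hZL hLP hL (hLP.trans hZc)
    y hyL hyZ a hya
  obtain ⟨z0, hz0⟩ : ∃ z0, z0 = (y ^ a)⁻¹ * (k * y * k⁻¹) := ⟨_, rfl⟩
  have hz0Z : z0 ∈ Z := hz0 ▸ hya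
  have hky : k * y * k⁻¹ = y ^ a * z0 := by rw [hz0]; group
  -- L is commutative
  have hLcomm : ∀ u ∈ L, ∀ v ∈ L, u * v = v * u := by
    intro u hu v hv
    exact congrArg Subtype.val (IsPGroup.commutative_of_card_eq_prime_sq hL ⟨u, hu⟩ ⟨v, hv⟩)
  -- C_P(y) = L
  have hLC : L ≤ P ⊓ centralizer ({y} : Set G) := by
    intro v hv
    rw [Subgroup.mem_inf]
    refine ⟨hLP hv, ?_⟩
    rw [mem_centralizer_iff]
    intro h hh
    rw [Set.mem_singleton_iff] at hh
    subst hh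
    exact hLcomm _ hyL _ hv
  have hCL : P ⊓ centralizer ({y} : Set G) = L := by
    rcases h49_mid_eq L (P ⊓ centralizer ({y} : Set G)) P 2 hL hPc hLC inf_le_left with h | h
    · exact h
    · exfalso
      apply hyZ
      apply h49_mem_of_central P Z hPc hPna hZ hZP hZc y hyP
      intro x hx
      have hx' : x ∈ P ⊓ centralizer ({y} : Set G) := by rw [h]; exact hx
      exact (mem_centralizer_iff.mp (Subgroup.mem_inf.mp hx').2 y rfl).symm
  -- main step
  have key : ∀ g ∈ K, ∀ v ∈ L, g * v * g⁻¹ ∈ L := by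
    intro g hg
    have hgP := hKP hg
    obtain ⟨w, hw⟩ : ∃ w, w = g * y * g⁻¹ := ⟨_, rfl⟩
    have hwP : w ∈ P := by
      rw [hw]; exact (mem_normalizer_iff.mp hgP y).mp hyP
    have hkw : k * w * k⁻¹ = w ^ a * z0 := by
      have hkg : k * g = g * k := hKcomm k hkK g hg
      calc k * w * k⁻¹ = (k * g) * y * (k * g)⁻¹ := by rw [hw]; group
        _ = g * (k * y * k⁻¹) * g⁻¹ := by rw [hkg]; group
        _ = g * (y ^ a * z0) * g⁻¹ := by rw [hky]
        _ = (g * y * g⁻¹) ^ a * (g * z0 * g⁻¹) := by rw [conj_pow]; group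
        _ = w ^ a * z0 := by rw [hzKconj z0 hz0Z g hg, ← hw]
    obtain ⟨c, hc⟩ : ∃ c, c = w * y * w⁻¹ * y⁻¹ := ⟨_, rfl⟩
    have hcZ : c ∈ Z := by rw [hc]; exact hcom w hwP y hyP
    have hkc : k * c * k⁻¹ = c := hzKconj c hcZ k hkK
    have hkc2 : k * c * k⁻¹ = c ^ (a * a) := by
      have h := commutatorElement_pow_mul_pow_mul P Z hZP hZc hcom w y hwP hyP z0 z0 hz0Z hz0Z a a
      rw [← hkw, ← hky, ← hc] at h
      rw [← h, hc]; group
    have hc1 : c = 1 := by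
      by_contra hne
      have hcp : c ^ p = 1 := by
        have h1 := pow_card_eq_one' (G := Z) (x := ⟨c, hcZ⟩)
        rw [hZ] at h1
        simpa using congrArg Subtype.val h1
      have hord : orderOf c = p := orderOf_eq_prime hcp hne
      have h1 : c ^ (a * a) = c ^ 1 := by rw [← hkc2, hkc, pow_one]
      rw [pow_eq_pow_iff_modEq, hord] at h1
      exact hna (by rwa [sq])
    have hwy : w * y = y * w := by
      have h1 : w * y * w⁻¹ * y⁻¹ = 1 := by rw [← hc]; exact hc1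
      calc w * y = (w * y * w⁻¹ * y⁻¹) * (y * w) := by group
        _ = y * w := by rw [h1, one_mul]
    have hwL : w ∈ L := by
      rw [← hCL, Subgroup.mem_inf]
      refine ⟨hwP, ?_⟩
      rw [mem_centralizer_iff]
      intro h hh
      rw [Set.mem_singleton_iff] at hh
      subst hh
      exact hwy.symm
    have hZM : Z ≤ L ⊓ L.comap (MulAut.conj g).toMonoidHom := by
      intro z hz
      rw [Subgroup.mem_inf]
      refine ⟨hZL hz, ?_⟩
      rw [mem_comap]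
      change g * z * g⁻¹ ∈ L
      rw [hzKconj z hz g hg]
      exact hZL hz
    have hM : L ⊓ L.comap (MulAut.conj g).toMonoidHom = L := by
      rcases h49_mid_eq Z (L ⊓ L.comap (MulAut.conj g).toMonoidHom) L 1 (by rw [hZ, pow_one]) hL
        hZM inf_le_left with h | h
      · exfalso
        apply hyZ
        rw [← h, Subgroup.mem_inf]
        refine ⟨hyL, ?_⟩
        rw [mem_comap]
        change g * y * g⁻¹ ∈ L
        rw [← hw]; exact hwL
      · exact h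
    intro v hv
    have hv' : v ∈ L ⊓ L.comap (MulAut.conj g).toMonoidHom := by rw [hM]; exact hv
    have hv2 := (Subgroup.mem_inf.mp hv').2
    rw [mem_comap] at hv2
    exact hv2
  intro g hg
  rw [mem_normalizer_iff]
  intro v
  constructor
  · exact key g hg v
  · intro h
    have h1 := key g⁻¹ (K.inv_mem hg) _ h
    have e : g⁻¹ * (g * v * g⁻¹) * g⁻¹⁻¹ = v := by group
    rw [e] at h1
    exact h1

end Cfsg.Agent.Helper49.BG157
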