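import Mathlib
import Cfsg.Agent.Lib.Helper63.BG157E2C
import Cfsg.Agent.Lib.Helper20.BG157E2A
import Cfsg.Agent.Lib.Helper20.BG157E2F
import Cfsg.Agent.Lib.Helper49.BG157E2E

/-!
BG157 (E2) `card_dvd_of_fpf_cube` for helper2's server BG157 (S1383): assembly of the sub-pieces
(C) helper63, (A)+(F) helper20, (E) helper49 (with (Eb) helper12).
-/

set_option autoImplicit false

namespace Cfsg.Agent.Helper49.BG157

open Subgroup Cfsg

variable {G : Type*} [Group G] [Finite G]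

theorem card_dvd_of_fpf_cube {p : ℕ} [Fact p.Prime] (hp : p ≠ 2) (P K Z : Subgroup G)
    (hPc : Nat.card P = p ^ 3) (hPna : ¬ IsMulCommutative P)
    (hKP : K ≤ normalizer (P : Set G)) (hKc : IsCyclic K) (hKodd : Odd (Nat.card K))
    (hcop : (Nat.card K).Coprime p)
    (hZ : Nat.card Z = p) (hZP : Z ≤ P) (hZc : P ≤ centralizer (Z : Set G)) (hZK : K ≤ centralizer (Z : Set G))
    (hfix : ∀ k ∈ K, k ≠ 1 → P ⊓ centralizer ({k} : Set G) = Z) :
    Nat.card K ∣ p - 1 ∨ Nat.card K ∣ p + 1 := by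
  have hC := Cfsg.Agent.Helper63.BG157.card_dvd_of_semiregular P K Z hPc hKP hcop hZ hZP hZK hfix
  have hKcomm : ∀ a ∈ K, ∀ b ∈ K, a * b = b * a := by
    intro a ha b hb
    have hc : IsMulCommutative K := IsCyclic.isMulCommutative
    exact congrArg Subtype.val (hc.is_comm.comm ⟨a, ha⟩ ⟨b, hb⟩)
  by_cases h : ∃ s : ℕ, s.Prime ∧ s ∣ Nat.card K ∧ s ∣ p - 1
  · obtain ⟨s, hs, hsK, hsp⟩ := h
    have hs2 : s ≠ 2 := by
      rintro rfl
      exact (Nat.not_even_iff_odd.mpr hKodd) (even_iff_two_dvd.mpr hsK)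
    haveI := Fact.mk hs
    obtain ⟨k', hk'⟩ := exists_prime_orderOf_dvd_card' (G := K) s hsK
    obtain ⟨k, hk⟩ : ∃ k : G, k = (k' : G) := ⟨_, rfl⟩
    have hkK : k ∈ K := hk ▸ k'.2
    have hko : orderOf k = s := by rw [hk, Subgroup.orderOf_coe, hk']
    have hk1 : k ≠ 1 := by
      intro h1
      rw [h1, orderOf_one] at hko
      exact hs.one_lt.ne hko
    have hkodd : Odd (orderOf k) := by
      rw [hko]
      exact hs.odd_of_ne_two hs2
    obtain ⟨L, hZL, hLP, hL, hkL⟩ :=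
      Cfsg.Agent.Helper20.BG157.exists_invariant_of_prime hs hs2 hsp P Z hPc hPna hZ hZP hZc k hko
        (hKP hkK) (hZK hkK)
    have hKL := normalizer_of_eigen hp P K Z L hPc hPna hKP hKcomm hcop hZ hZP hZc hZK hfix k hkK hk1
      hkodd hZL hLP hL hkL
    exact Or.inl (Cfsg.Agent.Helper20.BG157.card_dvd_pred_of_invariant P K Z L hcop hZ hZK hfix hZL hLP
      hL hKL)
  · right
    have hcop2 : (Nat.card K).Coprime (p - 1) := by
      by_contra hnc
      obtain ⟨s, hs, hsd⟩ := Nat.exists_prime_and_dvd hnc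
      exact h ⟨s, hs, hsd.trans (Nat.gcd_dvd_left _ _), hsd.trans (Nat.gcd_dvd_right _ _)⟩
    exact hcop2.dvd_of_dvd_mul_left hC

end Cfsg.Agent.Helper49.BG157
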