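import Mathlib
import Cfsg.Agent.Lib.Helper55.O2520Defs

/-!
# O2520 / S3C sub-server (helper20), piece (Q2) `s3c_normalizer_mem` - helper49
-/

set_option autoImplicit false

namespace Cfsg.Agent.Helper49.O2520

open Cfsg.Agent.Helper55.O2520

universe u

/-- (Q2) [M, pure group theory] T = {1, a, b, ab} has 4 distinct elements (a ≠ b: they act differently on x;
x ≠ x⁻¹ since |P| is odd), T ∩ P = 1 (orders 2 and 9), so the 36 products p t are distinct elements of N(P),
which has order 36. -/
theorem s3c_normalizer_mem {G : Type u} [Group G] [Finite G] (P : Subgroup G) (hP : Nat.card P = 9)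
    (hN : Nat.card (Subgroup.normalizer (P : Set G)) = 36) (x x' a b : G)
    (hx : x ∈ P) (hx' : x' ∈ P) (hx1 : x ≠ 1) (hx'1 : x' ≠ 1)
    (ha : a ∈ Subgroup.normalizer (P : Set G)) (hb : b ∈ Subgroup.normalizer (P : Set G))
    (hoa : orderOf a = 2) (hob : orderOf b = 2) (hab : a * b = b * a)
    (hax : a * x * a⁻¹ = x) (hax' : a * x' * a⁻¹ = x'⁻¹)
    (hbx : b * x * b⁻¹ = x⁻¹) (hbx' : b * x' * b⁻¹ = x') :
    ∀ g ∈ Subgroup.normalizer (P : Set G),
      ∃ p ∈ P, g = p ∨ g = p * a ∨ g = p * b ∨ g = p * (a * b) := by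
  classical
  have hPN : P ≤ Subgroup.normalizer (P : Set G) := Subgroup.le_normalizer
  have ha2 : a * a = 1 := by
    have := pow_orderOf_eq_one a
    rw [hoa, pow_two] at this
    exact this
  have hb2 : b * b = 1 := by
    have := pow_orderOf_eq_one b
    rw [hob, pow_two] at this
    exact this
  have ha2' : ∀ y, a * (a * y) = y := fun y => by rw [← mul_assoc, ha2, one_mul]
  have hb2' : ∀ y, b * (b * y) = y := fun y => by rw [← mul_assoc, hb2, one_mul]
  have hba : b * a = a * b := hab.symm
  have hba' : ∀ y, b * (a * y) = a * (b * y) := fun y => by rw [← mul_assoc, hba, mul_assoc]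
  -- an element of `P` of square one is trivial
  have hodd : ∀ t ∈ P, t * t = 1 → t = 1 := by
    intro t ht h2
    have h1 : orderOf t ∣ 2 := orderOf_dvd_of_pow_eq_one (by rw [pow_two]; exact h2)
    have h2' : orderOf t ∣ 9 := by
      have := Subgroup.orderOf_dvd_natCard P ht
      rwa [hP] at this
    have h3 : orderOf t ∣ Nat.gcd 2 9 := Nat.dvd_gcd h1 h2'
    have h4 : orderOf t = 1 := by
      have : Nat.gcd 2 9 = 1 := by norm_num
      rw [this] at h3
      exact Nat.dvd_one.1 h3
    exact orderOf_eq_one_iff.1 h4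
  have ha1 : a ≠ 1 := by
    intro h
    rw [h, orderOf_one] at hoa
    omega
  have hb1 : b ≠ 1 := by
    intro h
    rw [h, orderOf_one] at hob
    omega
  have hxx : x ≠ x⁻¹ := by
    intro h
    apply hx1
    apply hodd x hx
    calc x * x = x * x⁻¹ := by rw [← h]
      _ = 1 := mul_inv_cancel x
  have hab1 : a * b ≠ 1 := by
    intro h
    have e1 : a = b⁻¹ := eq_inv_of_mul_eq_one_left h
    have e2 : b⁻¹ = b := inv_eq_of_mul_eq_one_left hb2
    have e3 : a = b := e1.trans e2
    apply hxx
    calc x = a * x * a⁻¹ := hax.symm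
      _ = b * x * b⁻¹ := by rw [e3]
      _ = x⁻¹ := hbx
  have haP : a ∉ P := fun h => ha1 (hodd a h ha2)
  have hbP : b ∉ P := fun h => hb1 (hodd b h hb2)
  have habP : a * b ∉ P := fun h =>
    hab1 (hodd _ h (by simp only [mul_assoc, hba', ha2', hb2]))
  -- the transversal
  let e : Bool × Bool → G := fun ij => (if ij.1 then a else 1) * (if ij.2 then b else 1)
  have heN : ∀ ij, e ij ∈ Subgroup.normalizer (P : Set G) := by
    rintro ⟨i, j⟩
    cases i <;> cases j <;>
      simp [e, Subgroup.one_mem, ha, hb, Subgroup.mul_mem _ ha hb]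
  let f : P × (Bool × Bool) → Subgroup.normalizer (P : Set G) := fun pk =>
    ⟨pk.1.1 * e pk.2, Subgroup.mul_mem _ (hPN pk.1.2) (heN pk.2)⟩
  have hf : Function.Injective f := by
    rintro ⟨⟨p, hp⟩, k⟩ ⟨⟨q, hq⟩, l⟩ h
    have h' : p * e k = q * e l := congrArg Subtype.val h
    have hkl : k = l := by
      by_contra hne
      have hek : e k * e k = 1 := by
        obtain ⟨i, j⟩ := k
        cases i <;> cases j <;> simp [e, mul_assoc, ha2, hb2, ha2', hb2', hba, hba']
      have hmem : e l * e k ∈ P := by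
        have : e l * e k = q⁻¹ * p := by
          calc e l * e k = q⁻¹ * (q * e l) * e k := by group
            _ = q⁻¹ * (p * e k) * e k := by rw [h']
            _ = q⁻¹ * p * (e k * e k) := by group
            _ = q⁻¹ * p := by rw [hek, mul_one]
        rw [this]
        exact P.mul_mem (P.inv_mem hq) hp
      obtain ⟨i, j⟩ := k
      obtain ⟨i', j'⟩ := l
      cases i <;> cases j <;> cases i' <;> cases j' <;>
        simp [e, mul_assoc, ha2, hb2, ha2', hb2', hba, hba'] at hmem hne <;>
        first | exact haP hmem | exact hbP hmem | exact habP hmem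
    subst hkl
    have hpq : p = q := mul_right_cancel h'
    subst hpq
    rfl
  have hcard : Nat.card (Subgroup.normalizer (P : Set G)) ≤ Nat.card (P × (Bool × Bool)) := by
    rw [Nat.card_prod, Nat.card_prod, hP, hN]
    simp
  have hbij := hf.bijective_of_nat_card_le hcard
  intro g hg
  obtain ⟨⟨⟨p, hp⟩, ⟨i, j⟩⟩, hpk⟩ := hbij.2 ⟨g, hg⟩
  have hg' : p * e (i, j) = g := congrArg Subtype.val hpk
  refine ⟨p, hp, ?_⟩
  cases i <;> cases j <;> simp [e] at hg'
  · left; exact hg'.symm
  · right; right; left; exact hg'.symm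
  · right; left; exact hg'.symm
  · right; right; right; exact hg'.symm

end Cfsg.Agent.Helper49.O2520
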