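import Mathlib
import Cfsg.Agent.Lib.Helper55.O2520Defs

/-!
# O2520 / S3C sub-server (helper20), piece (Q5) `s3c_three_involutions` - helper49
-/

set_option autoImplicit false

namespace Cfsg.Agent.Helper49.O2520

open Cfsg.Agent.Helper55.O2520

universe u

/-- (Q5) [S-M] j ∉ P (order 2, |P| = 9) so j ∉ C(P): some p ∈ P does not commute with j; j, p j p⁻¹, p² j p⁻²
are three distinct involutions commuting with z (p commutes with z: P ≤ C(P)). -/
theorem s3c_three_involutions {G : Type u} [Group G] [Finite G] (P : Subgroup G)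
    (hP : Nat.card P = 9) (hC : Subgroup.centralizer (P : Set G) = P) (z : G) (hz : z ∈ P)
    (j : G) (hj : orderOf j = 2) (hjz : j * z = z * j) :
    3 ≤ Nat.card {i : G // orderOf i = 2 ∧ i * z = z * i} := by
  -- `j ∉ P`
  have hjP : j ∉ P := by
    intro h
    have := Subgroup.orderOf_dvd_natCard P h
    rw [hj, hP] at this
    omega
  -- some `p ∈ P` does not commute with `j`
  have hjC : j ∉ Subgroup.centralizer (P : Set G) := by rw [hC]; exact hjP
  rw [Subgroup.mem_centralizer_iff] at hjC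
  push Not at hjC
  obtain ⟨p, hpP, hpj⟩ := hjC
  have hpP' : p ∈ P := hpP
  -- `p` commutes with `z`
  have hpz : p * z = z * p := by
    have hzC : z ∈ Subgroup.centralizer (P : Set G) := by rw [hC]; exact hz
    exact (Subgroup.mem_centralizer_iff.1 hzC) p hpP
  -- `p ^ 9 = 1`
  have hp9 : p ^ 9 = 1 := by
    have := pow_card_eq_one' (G := P) (x := ⟨p, hpP'⟩)
    rw [hP] at this
    exact congrArg Subtype.val this
  -- conjugation keeps order and commutation with `z`
  have hconj : ∀ i : G, (orderOf i = 2 ∧ i * z = z * i) →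
      (orderOf (p * i * p⁻¹) = 2 ∧ (p * i * p⁻¹) * z = z * (p * i * p⁻¹)) := by
    intro i hi
    refine ⟨?_, ?_⟩
    · have := (MulAut.conj p).orderOf_eq i
      rw [MulAut.conj_apply] at this
      rw [this, hi.1]
    · have hpz' : p⁻¹ * z = z * p⁻¹ := by
        have : p⁻¹ * (p * z) * p⁻¹ = p⁻¹ * (z * p) * p⁻¹ := by rw [hpz]
        simpa [mul_assoc] using this.symm
      calc p * i * p⁻¹ * z = p * i * (p⁻¹ * z) := by group
        _ = p * i * (z * p⁻¹) := by rw [hpz']
        _ = p * (i * z) * p⁻¹ := by group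
        _ = p * (z * i) * p⁻¹ := by rw [hi.2]
        _ = (p * z) * i * p⁻¹ := by group
        _ = (z * p) * i * p⁻¹ := by rw [hpz]
        _ = z * (p * i * p⁻¹) := by group
  have h0 : orderOf j = 2 ∧ j * z = z * j := ⟨hj, hjz⟩
  have h1 := hconj j h0
  have h2 := hconj _ h1
  -- distinctness
  have h01 : j ≠ p * j * p⁻¹ := by
    intro h
    apply hpj
    have : j * p = p * j * p⁻¹ * p := by rw [← h]
    rw [this]; group
  have h12 : p * j * p⁻¹ ≠ p * (p * j * p⁻¹) * p⁻¹ := by
    intro h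
    apply h01
    have : p⁻¹ * (p * j * p⁻¹) * p = p⁻¹ * (p * (p * j * p⁻¹) * p⁻¹) * p := by rw [← h]
    have e1 : p⁻¹ * (p * j * p⁻¹) * p = j := by group
    have e2 : p⁻¹ * (p * (p * j * p⁻¹) * p⁻¹) * p = p * j * p⁻¹ := by group
    rw [e1, e2] at this
    exact this
  have h02 : j ≠ p * (p * j * p⁻¹) * p⁻¹ := by
    intro h
    -- `p ^ 2` commutes with `j`, so `p = (p ^ 2) ^ 5` does
    have hc2 : p ^ 2 * j = j * p ^ 2 := by
      have e : p * (p * j * p⁻¹) * p⁻¹ * p ^ 2 = p ^ 2 * j := by simp [pow_two, mul_assoc]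
      calc p ^ 2 * j = p * (p * j * p⁻¹) * p⁻¹ * p ^ 2 := e.symm
        _ = j * p ^ 2 := by rw [← h]
    have hc : Commute (p ^ 2) j := hc2
    have hc5 : Commute ((p ^ 2) ^ 5) j := hc.pow_left 5
    have hp : (p ^ 2) ^ 5 = p := by
      rw [← pow_mul]
      calc p ^ (2 * 5) = p ^ 9 * p := by rw [← pow_succ]
        _ = p := by rw [hp9, one_mul]
    rw [hp] at hc5
    exact hpj hc5.eq
  -- count
  have h3 : ({j, p * j * p⁻¹, p * (p * j * p⁻¹) * p⁻¹} : Set G).ncard = 3 :=
    Set.ncard_eq_three.2 ⟨_, _, _, h01, h02, h12, rfl⟩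
  have hsub : ({j, p * j * p⁻¹, p * (p * j * p⁻¹) * p⁻¹} : Set G) ⊆
      {i : G | orderOf i = 2 ∧ i * z = z * i} := by
    intro i hi
    simp only [Set.mem_insert_iff, Set.mem_singleton_iff] at hi
    rcases hi with rfl | rfl | rfl
    · exact h0
    · exact h1
    · exact h2
  calc 3 = ({j, p * j * p⁻¹, p * (p * j * p⁻¹) * p⁻¹} : Set G).ncard := h3.symm
    _ ≤ Set.ncard {i : G | orderOf i = 2 ∧ i * z = z * i} :=
        Set.ncard_le_ncard hsub (Set.toFinite _)
    _ = Nat.card {i : G // orderOf i = 2 ∧ i * z = z * i} :=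
        (Nat.card_coe_set_eq {i : G | orderOf i = 2 ∧ i * z = z * i}).symm

end Cfsg.Agent.Helper49.O2520
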