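import Mathlib
import Cfsg.Agent.Lib.Helper7.M11LADefs
import Cfsg.Agent.Lib.Helper76.Ord7920B

/-!
M11LA (K1) `n11_ne_twelve` for helper7's server (S0435/S0434): a simple group of order 7920 does not have
twelve Sylow 11-subgroups (a permutation of 12 points has no element of order 33).
-/

set_option autoImplicit false

namespace Cfsg.Agent.Helper49.M11LA

open Subgroup Cfsg.Agent.Helper7.M11LA

variable {G : Type*} [Group G] [Finite G]

/-- two distinct members of a multiset of naturals sum to at most the total. -/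
theorem h49_add_le_sum (m : Multiset ℕ) (a b : ℕ) (ha : a ∈ m) (hb : b ∈ m) (hab : a ≠ b) :
    a + b ≤ m.sum := by
  obtain ⟨m', rfl⟩ := Multiset.exists_cons_of_mem ha
  have hb' : b ∈ m' := by
    rcases Multiset.mem_cons.mp hb with h | h
    · exact absurd h.symm hab
    · exact h
  rw [Multiset.sum_cons]
  exact Nat.add_le_add_left (Multiset.le_sum_of_mem hb') a

/-- a permutation of at most 12 points does not have order 33. -/
theorem h49_orderOf_ne_33 {α : Type*} [Fintype α] [DecidableEq α] (hα : Fintype.card α = 12)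
    (σ : Equiv.Perm α) : orderOf σ ≠ 33 := by
  intro h33
  have hlcm := Equiv.Perm.lcm_cycleType σ
  rw [h33] at hlcm
  have hle : σ.cycleType.sum ≤ 12 := hα ▸ Equiv.Perm.sum_cycleType_le σ
  have hmem : ∀ a ∈ σ.cycleType, a = 3 ∨ a = 11 ∨ a = 33 := by
    intro a ha
    have h1 : a ∣ 33 := h33 ▸ Equiv.Perm.dvd_of_mem_cycleType ha
    have h2 := Equiv.Perm.two_le_of_mem_cycleType ha
    have h3 : a ≤ 33 := Nat.le_of_dvd (by norm_num) h1
    interval_cases a <;> simp_all <;> omega
  -- some cycle length divisible by 11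
  have h11 : ∃ a ∈ σ.cycleType, a ≠ 3 := by
    by_contra hno
    push Not at hno
    have : σ.cycleType.lcm ∣ 3 := Multiset.lcm_dvd.mpr (fun b hb => by rw [hno b hb])
    rw [hlcm] at this
    norm_num at this
  have h3 : ∃ b ∈ σ.cycleType, b ≠ 11 := by
    by_contra hno
    push Not at hno
    have : σ.cycleType.lcm ∣ 11 := Multiset.lcm_dvd.mpr (fun b hb => by rw [hno b hb])
    rw [hlcm] at this
    norm_num at this
  obtain ⟨a, ha, ha3⟩ := h11
  obtain ⟨b, hb, hb11⟩ := h3
  have hale : a ≤ 12 := (Multiset.le_sum_of_mem ha).trans hle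
  have hble : b ≤ 12 := (Multiset.le_sum_of_mem hb).trans hle
  have ha11 : a = 11 := by
    rcases hmem a ha with h | h | h
    · exact absurd h ha3
    · exact h
    · omega
  have hb3 : b = 3 := by
    rcases hmem b hb with h | h | h
    · exact h
    · exact absurd h hb11
    · omega
  have := h49_add_le_sum σ.cycleType a b ha hb (by omega)
  omega

theorem n11_ne_twelve [IsSimpleGroup G] (hord : Nat.card G = 7920) :
    Nat.card (Sylow 11 G) ≠ 12 := by
  classical
  intro h12
  obtain ⟨-, ⟨g, hg⟩, -⟩ := Cfsg.Agent.Helper76.Ord7920.conn_twelve hord h12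
  have hf11 : Fact (Nat.Prime 11) := ⟨by norm_num⟩
  have hker : (MulAction.toPermHom G (Sylow 11 G)).ker = ⊥ := by
    rcases (MonoidHom.normal_ker (MulAction.toPermHom G (Sylow 11 G))).eq_bot_or_eq_top with h | h
    · exact h
    · exfalso
      have hsub : Subsingleton (Sylow 11 G) := by
        refine ⟨fun P Q => ?_⟩
        obtain ⟨x, rfl⟩ := MulAction.exists_smul_eq G P Q
        have hx : x ∈ (MulAction.toPermHom G (Sylow 11 G)).ker := h ▸ Subgroup.mem_top x
        have h2 : MulAction.toPermHom G (Sylow 11 G) x = 1 := hx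
        have h3 := congrArg (fun σ : Equiv.Perm (Sylow 11 G) => σ P) h2
        simpa using h3.symm
      have := Finite.card_le_one_iff_subsingleton.mpr hsub
      omega
  have hinj : Function.Injective (MulAction.toPermHom G (Sylow 11 G)) :=
    (MonoidHom.ker_eq_bot_iff _).mp hker
  have hord33 : orderOf (MulAction.toPermHom G (Sylow 11 G) g) = 33 := by
    rw [orderOf_injective _ hinj, hg]
  have : Fintype (Sylow 11 G) := Fintype.ofFinite _
  have hcard : Fintype.card (Sylow 11 G) = 12 := by rw [← Nat.card_eq_fintype_card, h12]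
  exact h49_orderOf_ne_33 hcard _ hord33

end Cfsg.Agent.Helper49.M11LA
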