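import Mathlib
import Cfsg.Agent.Lib.Helper7.M11LADefs

/-!
M11LA (K15) `caseI_pairs` for helper7's server (S0435/S0434).
-/

set_option autoImplicit false

namespace Cfsg.Agent.Helper49.M11LA

open Subgroup Cfsg.Agent.Helper7.M11LA

variable {G : Type*} [Group G] [Finite G]

theorem caseI_pairs (F : Facts G) (hnp : ∀ P : Sylow 5 G, NPI (P : Subgroup G))
    (P₀ : Sylow 5 G) (t₀ : G) (ht₀ : orderOf t₀ = 2)
    (ht₀P : t₀ ∈ normalizer ((P₀ : Subgroup G) : Set G)) (y : G) (hy : orderOf y = 5) :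
    5 ≤ Nat.card {s : G // s ∈ {s : G | IsConj t₀ s} ∧ s * y ∈ {s : G | IsConj t₀ s}} := by
  have hf5 : Fact (Nat.Prime 5) := ⟨by norm_num⟩
  have hzp : IsPGroup 5 (zpowers y) := by
    apply IsPGroup.of_card (n := 1)
    rw [Nat.card_zpowers, hy, pow_one]
  obtain ⟨P', hP'⟩ := hzp.exists_le_sylow
  have hyP' : y ∈ (P' : Subgroup G) := hP' (mem_zpowers y)
  obtain ⟨f, hfN, hf4, hinv5, hall⟩ := hnp P'
  obtain ⟨g, hg⟩ := MulAction.exists_smul_eq G P₀ P'
  have ht₀P' : t₀ • P₀ = P₀ := Sylow.smul_eq_iff_mem_normalizer.mpr ht₀P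
  have hgt : g * t₀ * g⁻¹ ∈ normalizer ((P' : Subgroup G) : Set G) := by
    apply Sylow.smul_eq_iff_mem_normalizer.mp
    rw [← hg, ← mul_smul, inv_mul_cancel_right, mul_smul, ht₀P']
  have hgt2 : orderOf (g * t₀ * g⁻¹) = 2 := by
    rw [← MulAut.conj_apply, MulEquiv.orderOf_eq, ht₀]
  obtain ⟨⟨q, hq, hqf⟩, -⟩ := hall _ hgt hgt2
  -- every involution of N(P') is conjugate to t₀
  have hconj : ∀ s : G, s ∈ normalizer ((P' : Subgroup G) : Set G) → orderOf s = 2 → IsConj t₀ s := by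
    intro s hsN hs2
    obtain ⟨⟨p, hp, hpf⟩, -⟩ := hall s hsN hs2
    rw [isConj_iff]
    refine ⟨p * q⁻¹ * g, ?_⟩
    have hf2 : f ^ 2 = q⁻¹ * (g * t₀ * g⁻¹) * q := by rw [← hqf]; group
    rw [← hpf, hf2]; group
  -- s * y is again an involution of N(P')
  have hsy : ∀ s : G, s ∈ normalizer ((P' : Subgroup G) : Set G) → orderOf s = 2 →
      s * y ∈ normalizer ((P' : Subgroup G) : Set G) ∧ orderOf (s * y) = 2 := by
    intro s hsN hs2
    refine ⟨Subgroup.mul_mem _ hsN (Subgroup.le_normalizer hyP'), ?_⟩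
    have hinvy := (hall s hsN hs2).2 y hyP'
    have hss : s * s = 1 := by
      have h1 := pow_orderOf_eq_one s
      rwa [hs2, pow_two] at h1
    have hsinv : s⁻¹ = s := inv_eq_of_mul_eq_one_left hss
    rw [hsinv] at hinvy
    have hsq : (s * y) ^ 2 = 1 := by
      have h1 : s * y = y⁻¹ * s := by
        calc s * y = (s * y * s) * s := by rw [mul_assoc (s * y), hss, mul_one]
          _ = y⁻¹ * s := by rw [hinvy]
      calc (s * y) ^ 2 = (s * y) * (s * y) := pow_two _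
        _ = (y⁻¹ * s) * (s * y) := by rw [h1]
        _ = y⁻¹ * (s * s) * y := by group
        _ = 1 := by rw [hss]; group
    have hne : s * y ≠ 1 := by
      intro h1
      have h2 : s = y⁻¹ := eq_inv_of_mul_eq_one_left h1
      rw [h2, orderOf_inv, hy] at hs2
      norm_num at hs2
    exact orderOf_eq_prime hsq hne
  -- the injection
  have hcard : Nat.card {t : G // orderOf t = 2 ∧ t ∈ normalizer ((P' : Subgroup G) : Set G)} = 5 := hinv5
  rw [← hcard]
  refine Nat.card_le_card_of_injective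
    (fun s : {t : G // orderOf t = 2 ∧ t ∈ normalizer ((P' : Subgroup G) : Set G)} =>
      (⟨s.1, hconj s.1 s.2.2 s.2.1, hconj (s.1 * y) (hsy s.1 s.2.2 s.2.1).1 (hsy s.1 s.2.2 s.2.1).2⟩ :
        {s : G // s ∈ {s : G | IsConj t₀ s} ∧ s * y ∈ {s : G | IsConj t₀ s}})) ?_
  intro a b hab
  apply Subtype.ext
  have h1 := congrArg (fun z : {s : G // s ∈ {s : G | IsConj t₀ s} ∧ s * y ∈ {s : G | IsConj t₀ s}} => z.1) hab
  exact h1

end Cfsg.Agent.Helper49.M11LA
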