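import Mathlib
import Cfsg.Agent.Lib.Helper62.SLN0

/-! # SLN (G7), helper49: the Weyl element swapping `e_1` and `e_j` conjugates `U_0` onto `Q` -/

set_option autoImplicit false

namespace Cfsg.Agent.Helper49.SLN

open Matrix Module Cfsg.Agent.Helper93.U2 Cfsg.Agent.Helper62.SLN

variable {F : Type*} [Field F] {κ : Type} [Fintype κ] [DecidableEq κ]

theorem h49_cEl_val (y : κ → F) :
    (cEl y : Matrix (Unit ⊕ κ) (Unit ⊕ κ) F) = fromBlocks 1 0 (replicateCol Unit y) 1 := rfl

/-- the matrix of `s = uEl (-e_j) * cEl e_j * uEl (-e_j)` -/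
theorem h49_swap_val (j : κ) :
    ((uEl (-(Pi.single j (1 : F))) * cEl (Pi.single j 1) * uEl (-(Pi.single j (1 : F))) :
      SpecialLinearGroup (Unit ⊕ κ) F) : Matrix (Unit ⊕ κ) (Unit ⊕ κ) F) =
    fromBlocks 0 (replicateRow Unit (-(Pi.single j (1 : F)))) (replicateCol Unit (Pi.single j 1))
      (1 - vecMulVec (Pi.single j 1) (Pi.single j 1)) := by
  show (uEl (-(Pi.single j (1 : F))) : Matrix (Unit ⊕ κ) (Unit ⊕ κ) F) *
      (cEl (Pi.single j (1 : F)) : Matrix (Unit ⊕ κ) (Unit ⊕ κ) F) *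
      (uEl (-(Pi.single j (1 : F))) : Matrix (Unit ⊕ κ) (Unit ⊕ κ) F) = _
  rw [uEl_val, h49_cEl_val, fromBlocks_multiply, fromBlocks_multiply]
  have hsum : ∑ x, (Pi.single j (1 : F) : κ → F) x * (Pi.single j (1 : F) : κ → F) x = 1 := by
    simp [Pi.single_apply]
  congr 1
  · ext a b
    simp [Matrix.mul_apply, replicateRow, replicateCol, hsum]
  · ext a b
    simp [Matrix.mul_apply, replicateRow, replicateCol, hsum]
  · ext a b
    simp [replicateCol]
  · ext a b
    simp [Matrix.mul_apply, replicateRow, replicateCol, vecMulVec, Matrix.sub_apply, Matrix.add_apply,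
      sub_eq_add_neg, add_comm]

/-- piece G7 : the Weyl element swapping `e_1 = inl ()` and `e_j` conjugates `U_0` onto `Q` -/
theorem exists_swap (j : κ) : ∃ s : SpecialLinearGroup (Unit ⊕ κ) F,
    ∀ u : κ → F, u j = 0 → s * uEl u * s⁻¹ = qEl j u := by
  refine ⟨uEl (-(Pi.single j (1 : F))) * cEl (Pi.single j 1) * uEl (-(Pi.single j (1 : F))), ?_⟩
  intro u huj
  have hu : Function.update u j 0 = u := by
    rw [← huj]; exact Function.update_eq_self j u
  have key : uEl (-(Pi.single j (1 : F))) * cEl (Pi.single j 1) * uEl (-(Pi.single j (1 : F))) * uEl u =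
      qEl j u * (uEl (-(Pi.single j (1 : F))) * cEl (Pi.single j 1) * uEl (-(Pi.single j (1 : F)))) := by
    apply Subtype.ext
    show ((uEl (-(Pi.single j (1 : F))) * cEl (Pi.single j 1) * uEl (-(Pi.single j (1 : F))) :
        SpecialLinearGroup (Unit ⊕ κ) F) : Matrix (Unit ⊕ κ) (Unit ⊕ κ) F) *
        (uEl u : Matrix (Unit ⊕ κ) (Unit ⊕ κ) F) =
      (fromBlocks 1 0 0 (tvEl j u : Matrix κ κ F) : Matrix (Unit ⊕ κ) (Unit ⊕ κ) F) *
      ((uEl (-(Pi.single j (1 : F))) * cEl (Pi.single j 1) * uEl (-(Pi.single j (1 : F))) :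
        SpecialLinearGroup (Unit ⊕ κ) F) : Matrix (Unit ⊕ κ) (Unit ⊕ κ) F)
    rw [h49_swap_val, uEl_val, tvEl_val, hu, fromBlocks_multiply, fromBlocks_multiply]
    congr 1
    · simp
    · simp
    · ext a b
      simp [Matrix.mul_apply, replicateCol, vecMulVec, Matrix.add_apply,
        Pi.single_apply, huj, Matrix.one_apply]
    · ext a b
      simp [Matrix.mul_apply, replicateCol, replicateRow, vecMulVec, Matrix.add_apply, Matrix.sub_apply,
        add_mul, mul_sub, Pi.single_apply, huj, Matrix.one_apply]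
      ring
  rw [key, mul_assoc, mul_inv_cancel, mul_one]

end Cfsg.Agent.Helper49.SLN
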