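import Mathlib
import Cfsg.Agent.Lib.Helper49.N5PureDefs

/-!
N5-A3a (CORE) `pure_core` (helper49): the filtered-ring layer induction behind `alpha_three_pure` (helper32's N5, S1904).
-/

set_option autoImplicit false

namespace Cfsg.Agent.Helper49.N5

section ring

variable {E : Type*} [Ring E] {J : ℕ → Set E} {σ τ : E} {k : ℕ}

theorem h49_ss (F : Filt J σ τ k) : σ * σ = -1 - σ := by
  have h := F.N
  have : σ * σ = -(1 + σ) := by
    rw [eq_neg_iff_add_eq_zero]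
    rw [← h]; abel
  rw [this]; abel

theorem h49_στ (F : Filt J σ τ k) : σ * τ = 1 := by
  rw [F.τ_eq, ← mul_assoc, F.σ3]

theorem h49_τσ (F : Filt J σ τ k) : τ * σ = 1 := by
  rw [F.τ_eq, F.σ3]

theorem h49_mono_le (F : Filt J σ τ k) {i j : ℕ} (hij : i ≤ j) {a : E} (ha : a ∈ J j) : a ∈ J i := by
  induction j, hij using Nat.le_induction with
  | base => exact ha
  | succ n _ ih => exact ih (F.mono n a ha)

theorem h49_sub (F : Filt J σ τ k) {i : ℕ} {a b : E} (ha : a ∈ J i) (hb : b ∈ J i) : a - b ∈ J i := by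
  rw [sub_eq_add_neg]; exact F.add i _ _ ha (F.neg i _ hb)

/-- conjugation by `σ` preserves the layers -/
theorem h49_cj_mem (F : Filt J σ τ k) {i : ℕ} {a : E} (ha : a ∈ J i) : σ * a * τ ∈ J i :=
  F.mulR i _ _ (F.mulL i _ _ ha)

theorem h49_cj_mul (F : Filt J σ τ k) (a b : E) : σ * (a * b) * τ = (σ * a * τ) * (σ * b * τ) := by
  have h := h49_τσ F
  calc σ * (a * b) * τ = σ * a * (1 * b) * τ := by rw [one_mul]; noncomm_ring
    _ = σ * a * (τ * σ * b) * τ := by rw [h]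
    _ = (σ * a * τ) * (σ * b * τ) := by noncomm_ring

theorem h49_cj3 (F : Filt J σ τ k) (a : E) : σ * (σ * (σ * a * τ) * τ) * τ = a := by
  have h1 : σ * (σ * (σ * a * τ) * τ) * τ = (σ * σ * σ) * a * (τ * τ * τ) := by noncomm_ring
  have h2 : τ * τ * τ = 1 := by
    have : τ * τ * τ = (σ * σ * σ) * (σ * σ * σ) := by rw [F.τ_eq]; noncomm_ring
    rw [this, F.σ3, one_mul]
  rw [h1, F.σ3, h2, one_mul, mul_one]

/-- `σ a σ⁻¹ = -σ a - σ a σ` -/
theorem h49_c1 (F : Filt J σ τ k) (a : E) : σ * a * τ = -(σ * a) - σ * a * σ := by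
  rw [F.τ_eq, h49_ss F]; noncomm_ring

/-- `σ² a σ⁻² = -a σ - σ a σ` -/
theorem h49_c2 (F : Filt J σ τ k) (a : E) : σ * (σ * a * τ) * τ = -(a * σ) - σ * a * σ := by
  rw [h49_c1 F a, F.τ_eq, h49_ss F]
  have e : σ * (-(σ * a) - σ * a * σ) * (-1 - σ) =
      (σ * σ) * a + 2 * ((σ * σ) * a * σ) + (σ * σ) * a * (σ * σ) := by noncomm_ring
  rw [e, h49_ss F]; noncomm_ring

/-- (RL1) a pure element of the first layer semi-commutes with `σ` modulo the second layer. -/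
theorem h49_semi_comm (F : Filt J σ τ k) {δ : E} (hδ : δ ∈ J 1)
    (hT : δ + σ * δ * τ + σ * (σ * δ * τ) * τ ∈ J 2) : δ * σ - σ * σ * δ ∈ J 2 := by
  have e : δ * σ - σ * σ * δ =
      2 * δ - 2 * (σ * δ * σ) - (δ + σ * δ * τ + σ * (σ * δ * τ) * τ) := by
    rw [h49_c2 F δ, h49_c1 F δ, h49_ss F]; noncomm_ring
  rw [e]
  refine h49_sub F (h49_sub F (F.two 1 _ hδ) (F.two 1 _ ?_)) hT
  exact F.mulR 1 _ _ (F.mulL 1 _ _ hδ)

/-- (RL2) then the square of a pure first-layer element is `σ`-invariant modulo the third layer. -/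
theorem h49_sq_conj (F : Filt J σ τ k) {δ : E} (hδ : δ ∈ J 1)
    (hS : δ * σ - σ * σ * δ ∈ J 2) :
    (σ * δ * τ) * (σ * δ * τ) - δ * δ ∈ J 3 := by
  have hR : δ * δ * σ - σ * δ * δ ∈ J 3 := by
    have e : δ * δ * σ - σ * δ * δ =
        (σ * σ * (δ * σ - σ * σ * δ) + (δ * σ - σ * σ * δ) * σ) * δ + δ * (δ * σ - σ * σ * δ) := by
      have h4 : σ * σ * σ * σ * δ * δ = σ * δ * δ := by rw [F.σ3, one_mul]
      have : (σ * σ * (δ * σ - σ * σ * δ) + (δ * σ - σ * σ * δ) * σ) * δ + δ * (δ * σ - σ * σ * δ)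
          = δ * δ * σ - σ * σ * σ * σ * δ * δ := by noncomm_ring
      rw [this, h4]
    rw [e]
    refine F.add 3 _ _ ?_ ?_
    · have h1 : σ * σ * (δ * σ - σ * σ * δ) + (δ * σ - σ * σ * δ) * σ ∈ J 2 :=
        F.add 2 _ _ (F.mulL 2 _ _ hS) (F.mulR 2 _ _ hS)
      exact F.mul 2 1 _ _ h1 hδ
    · have := F.mul 1 2 _ _ hδ hS
      simpa using this
  have e2 : (σ * δ * τ) * (σ * δ * τ) - δ * δ = -((δ * δ * σ - σ * δ * δ) * τ) := by
    rw [← h49_cj_mul F δ δ]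
    have h1 : (δ * δ * σ - σ * δ * δ) * τ = δ * δ * (σ * τ) - σ * (δ * δ) * τ := by noncomm_ring
    rw [h1, h49_στ F, mul_one]; noncomm_ring
  rw [e2]
  exact F.neg 3 _ (F.mulR 3 _ _ hR)

end ring

section group

variable {E : Type*} [Ring E] {J : ℕ → Set E} {σ τ : E} {k : ℕ}
variable {X : Type*} [Group X] {φ : MulAut X} {α : X →* E}

theorem h49_d_mul (x y : X) :
    α (x * y) - 1 = (α x - 1) + (α y - 1) + (α x - 1) * (α y - 1) := by
  rw [map_mul]; noncomm_ring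

theorem h49_inv_mul (x : X) : α x⁻¹ * α x = 1 := by
  rw [← map_mul, inv_mul_cancel, map_one]

theorem h49_d_inv (x : X) : α x⁻¹ - 1 = -(α x⁻¹ * (α x - 1)) := by
  have h := h49_inv_mul (α := α) x
  have : α x⁻¹ * (α x - 1) = 1 - α x⁻¹ := by rw [mul_sub, h, mul_one]
  rw [this]; abel

theorem h49_d_phi (F : Filt J σ τ k) (A : Act J σ τ φ α) (x : X) :
    α (φ x) - 1 = σ * (α x - 1) * τ := by
  rw [A.equiv x, mul_sub, sub_mul, mul_one, h49_στ F]

/-- (G4) the `φ`-commutator `x⁻¹ φ(x)` -/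
theorem h49_d_comm (F : Filt J σ τ k) (A : Act J σ τ φ α) (x : X) :
    α (x⁻¹ * φ x) - 1 = (σ * (α x - 1) * τ - (α x - 1)) -
      α x⁻¹ * (α x - 1) * (σ * (α x - 1) * τ - (α x - 1)) := by
  have h := h49_inv_mul (α := α) x
  have hφ := h49_d_phi F A x
  have e1 : α (φ x) = 1 + σ * (α x - 1) * τ := by rw [← hφ]; abel
  have e2 : α x⁻¹ = 1 - α x⁻¹ * (α x - 1) := by
    have : α x⁻¹ * (α x - 1) = 1 - α x⁻¹ := by rw [mul_sub, h, mul_one]
    rw [this]; abel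
  rw [map_mul, e1]
  have e3 : α x⁻¹ * (1 + σ * (α x - 1) * τ) - 1 =
      α x⁻¹ * (σ * (α x - 1) * τ - (α x - 1)) + (α x⁻¹ * α x - 1) := by noncomm_ring
  rw [e3, h, sub_self, add_zero]
  conv_lhs => rw [e2]
  noncomm_ring

/-- (I0) start of the induction. -/
theorem h49_start (F : Filt J σ τ k) (A : Act J σ τ φ α) (hne : ∃ x, α x ≠ 1) :
    ∃ i, 1 ≤ i ∧ i + 1 ≤ k ∧ Q J σ τ α i := by
  classical
  have hex : ∃ n, ¬ ∀ x, α x - 1 ∈ J n := by
    refine ⟨k, fun h => ?_⟩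
    obtain ⟨x, hx⟩ := hne
    exact hx (sub_eq_zero.mp (F.last _ (h x)))
  have hn := Nat.find_spec hex
  have hmin := fun m (hm : m < Nat.find hex) => Nat.find_min hex hm
  have hn2 : 2 ≤ Nat.find hex := by
    by_contra hlt
    have hlt' : Nat.find hex ≤ 1 := by
      have := Nat.lt_of_not_ge hlt
      exact Nat.le_of_lt_succ this
    apply hn
    intro x
    exact h49_mono_le F hlt' (A.lv1 x)
  have hnk : Nat.find hex ≤ k := Nat.find_min' hex (by
    intro h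
    obtain ⟨x, hx⟩ := hne
    exact hx (sub_eq_zero.mp (F.last _ (h x))))
  obtain ⟨i, hi⟩ : ∃ i, Nat.find hex = i + 1 := ⟨Nat.find hex - 1, by omega⟩
  have hPi : ∀ x, α x - 1 ∈ J i := by
    have := hmin i (by omega)
    push Not at this
    exact this
  refine ⟨i, by omega, by omega, ?_⟩
  by_contra hQ
  unfold Q at hQ
  push Not at hQ
  apply hn
  rw [hi]
  intro x
  have hx : x ∈ Subgroup.closure {g : X | ∃ x : X, g = x⁻¹ * φ x} := by
    rw [A.gen]; exact Subgroup.mem_top x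
  induction hx using Subgroup.closure_induction with
  | mem g hg =>
    obtain ⟨y, rfl⟩ := hg
    rw [h49_d_comm F A y]
    have h1 := hQ y (hPi y)
    exact h49_sub F h1 (F.mulL _ _ _ h1)
  | one => rw [map_one, sub_self]; exact F.zero _
  | mul a b _ _ ha hb =>
    rw [h49_d_mul]
    exact F.add _ _ _ (F.add _ _ _ ha hb) (F.mulL _ _ _ hb)
  | inv a _ ha =>
    rw [h49_d_inv]
    exact F.neg _ _ (F.mulL _ _ _ ha)

/-- (I1) squaring step for `j ≥ 2`. -/
theorem h49_step (F : Filt J σ τ k) {j : ℕ} (hj : 2 ≤ j) (hjk : j + 2 ≤ k)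
    (hQ : Q J σ τ α j) : Q J σ τ α (j + 1) := by
  obtain ⟨x, hx, hnx⟩ := hQ
  refine ⟨x * x, ?_, ?_⟩
  · rw [h49_d_mul]
    have h2 : (α x - 1) + (α x - 1) = 2 * (α x - 1) := by noncomm_ring
    rw [h2]
    exact F.add _ _ _ (F.two j _ hx) (h49_mono_le F (by omega) (F.mul j j _ _ hx hx))
  · intro hmem
    apply hnx
    apply F.div (j + 1) _ (by omega)
    have e : σ * (α (x * x) - 1) * τ - (α (x * x) - 1) =
        2 * (σ * (α x - 1) * τ - (α x - 1)) +
          (σ * ((α x - 1) * (α x - 1)) * τ - (α x - 1) * (α x - 1)) := by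
      rw [h49_d_mul]; noncomm_ring
    rw [e] at hmem
    have h3 : σ * ((α x - 1) * (α x - 1)) * τ - (α x - 1) * (α x - 1) ∈ J (j + 1 + 1) := by
      have hsq : (α x - 1) * (α x - 1) ∈ J (j + 1 + 1) :=
        h49_mono_le F (by omega) (F.mul j j _ _ hx hx)
      exact h49_sub F (h49_cj_mem F hsq) hsq
    have := h49_sub F hmem h3
    simpa using this

/-- (I2) from the first layer to the second. -/
theorem h49_step_one (F : Filt J σ τ k) (A : Act J σ τ φ α) (hk : 3 ≤ k)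
    (hQ : Q J σ τ α 1) : Q J σ τ α 2 := by
  obtain ⟨x, hx, hnx⟩ := hQ
  -- y := x⁻¹ φ x, e := d y
  obtain ⟨δ, hδ⟩ : ∃ δ, δ = α x - 1 := ⟨_, rfl⟩
  rw [← hδ] at hx hnx
  obtain ⟨c, hc⟩ : ∃ c, c = σ * δ * τ - δ := ⟨_, rfl⟩
  have hcJ : c ∈ J 1 := by rw [hc]; exact h49_sub F (h49_cj_mem F hx) hx
  obtain ⟨r, hr⟩ : ∃ r, r = α x⁻¹ * δ * c := ⟨_, rfl⟩
  have hrJ : r ∈ J 2 := by
    rw [hr, mul_assoc]
    exact F.mulL 2 _ _ (by simpa using F.mul 1 1 _ _ hx hcJ)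
  obtain ⟨e, he⟩ : ∃ e, e = α (x⁻¹ * φ x) - 1 := ⟨_, rfl⟩
  have hecr : e = c - r := by
    rw [he, h49_d_comm F A x, ← hδ, ← hc, hr]
  have heJ : e ∈ J 1 := by
    rw [hecr]; exact h49_sub F hcJ (F.mono 1 _ hrJ)
  -- purity of e
  have hT : e + σ * e * τ + σ * (σ * e * τ) * τ ∈ J 2 := by
    have e1 : e + σ * e * τ + σ * (σ * e * τ) * τ =
        (σ * (σ * (σ * δ * τ) * τ) * τ - δ) - (r + σ * r * τ + σ * (σ * r * τ) * τ) := by
      rw [hecr, hc]; noncomm_ring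
    rw [e1, h49_cj3 F δ, sub_self, zero_sub]
    exact F.neg 2 _ (F.add 2 _ _ (F.add 2 _ _ hrJ (h49_cj_mem F hrJ))
      (h49_cj_mem F (h49_cj_mem F hrJ)))
  -- σ acts nontrivially on e
  have hne : σ * e * τ - e ∉ J 2 := by
    intro hmem
    apply hnx
    rw [← hc]
    -- cj e - e = cj c - c - (cj r - r)
    have h1 : σ * c * τ - c ∈ J 2 := by
      have e2 : σ * c * τ - c = (σ * e * τ - e) + (σ * r * τ - r) := by rw [hecr]; noncomm_ring
      rw [e2]
      exact F.add 2 _ _ hmem (h49_sub F (h49_cj_mem F hrJ) hrJ)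
    -- cj c - c = cj² δ - 2 cj δ + δ
    have h2 : σ * (σ * δ * τ) * τ - δ ∈ J 2 := by
      have e3 : σ * (σ * δ * τ) * τ - δ = (σ * c * τ - c) + 2 * (σ * δ * τ) - 2 * δ := by
        rw [hc]; noncomm_ring
      rw [e3]
      exact h49_sub F (F.add 2 _ _ h1 (F.two 1 _ (h49_cj_mem F hx))) (F.two 1 _ hx)
    -- apply cj: δ - cj δ ∈ J 2
    have h3 := h49_cj_mem F h2
    have e4 : σ * (σ * (σ * δ * τ) * τ - δ) * τ = -c := by
      have : σ * (σ * (σ * δ * τ) * τ - δ) * τ = σ * (σ * (σ * δ * τ) * τ) * τ - σ * δ * τ := by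
        noncomm_ring
      rw [this, h49_cj3 F δ, hc]; abel
    rw [e4] at h3
    simpa using F.neg 2 _ h3
  -- z := y * y
  refine ⟨(x⁻¹ * φ x) * (x⁻¹ * φ x), ?_, ?_⟩
  · rw [h49_d_mul, ← he]
    have h2 : e + e = 2 * e := by noncomm_ring
    rw [h2]
    exact F.add _ _ _ (F.two 1 _ heJ) (by simpa using F.mul 1 1 _ _ heJ heJ)
  · intro hmem
    apply hne
    apply F.div 2 _ (by omega)
    have e5 : σ * (α ((x⁻¹ * φ x) * (x⁻¹ * φ x)) - 1) * τ - (α ((x⁻¹ * φ x) * (x⁻¹ * φ x)) - 1) =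
        2 * (σ * e * τ - e) + ((σ * e * τ) * (σ * e * τ) - e * e) := by
      rw [h49_d_mul, ← he, ← h49_cj_mul F e e]; noncomm_ring
    rw [e5] at hmem
    have h3 := h49_sq_conj F heJ (h49_semi_comm F heJ hT)
    have := h49_sub F hmem h3
    simpa using this

/-- (I3) the last layer. -/
theorem h49_final (F : Filt J σ τ k) (A : Act J σ τ φ α) (hk : 1 ≤ k)
    (hQ : Q J σ τ α (k - 1)) :
    ∃ l : X, α l ≠ 1 ∧ α l - 1 ∈ J (k - 1) ∧ l * φ l * φ (φ l) = 1 := by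
  obtain ⟨x, hx, hnx⟩ := hQ
  have hk1 : k - 1 + 1 = k := by omega
  rw [hk1] at hnx
  have hcJ : σ * (α x - 1) * τ - (α x - 1) ∈ J (k - 1) := h49_sub F (h49_cj_mem F hx) hx
  refine ⟨x⁻¹ * φ x, ?_, ?_, ?_⟩
  · intro h1
    apply hnx
    have h2 : α (x⁻¹ * φ x) - 1 = 0 := by rw [h1, sub_self]
    rw [h49_d_comm F A x] at h2
    -- c - u δ c = 0 with ... derive c = 0: multiply: (1 - uδ) c = u c... use α x * u = 1
    have hu : α x⁻¹ = 1 - α x⁻¹ * (α x - 1) := by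
      have : α x⁻¹ * (α x - 1) = 1 - α x⁻¹ := by rw [mul_sub, h49_inv_mul, mul_one]
      rw [this]; abel
    have h3 : α x⁻¹ * (σ * (α x - 1) * τ - (α x - 1)) = 0 := by
      conv_lhs => rw [hu]
      rw [← h2]; noncomm_ring
    have h4 : α x * (α x⁻¹ * (σ * (α x - 1) * τ - (α x - 1))) = 0 := by rw [h3, mul_zero]
    rw [← mul_assoc, ← map_mul, mul_inv_cancel, map_one, one_mul] at h4
    rw [h4]; exact F.zero k
  · rw [h49_d_comm F A x]
    exact h49_sub F hcJ (F.mulL _ _ _ hcJ)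
  · have h3 := A.φ3 x
    simp only [map_mul, map_inv, h3]
    group

end group

theorem pure_core {E : Type*} [Ring E] {J : ℕ → Set E} {σ τ : E} {k : ℕ} (hk : 3 ≤ k)
    (F : Filt J σ τ k) {X : Type*} [Group X] (φ : MulAut X) (α : X →* E) (A : Act J σ τ φ α)
    (hne : ∃ x, α x ≠ 1) :
    ∃ l : X, α l ≠ 1 ∧ α l - 1 ∈ J (k - 1) ∧ l * φ l * φ (φ l) = 1 := by
  obtain ⟨i, hi1, hik, hQi⟩ := h49_start F A hne
  -- chain from any j ≥ 2
  have chain : ∀ j, 2 ≤ j → j + 1 ≤ k → Q J σ τ α j → Q J σ τ α (k - 1) := by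
    intro j hj hjk hQj
    have key : ∀ m, j ≤ m → m + 1 ≤ k → Q J σ τ α m := by
      intro m hm
      induction m, hm using Nat.le_induction with
      | base => intro _; exact hQj
      | succ n hn ih =>
        intro hnk
        exact h49_step F (by omega) (by omega) (ih (by omega))
    exact key (k - 1) (by omega) (by omega)
  have hQ : Q J σ τ α (k - 1) := by
    rcases Nat.lt_or_ge i 2 with h | h
    · have hi : i = 1 := by omega
      subst hi
      exact chain 2 le_rfl (by omega) (h49_step_one F A hk hQi)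
    · exact chain i h hik hQi
  exact h49_final F A (by omega) hQ

end Cfsg.Agent.Helper49.N5
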