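import Mathlib
import Cfsg.Agent.Lib.Helper32.N5Defs
import Cfsg.Agent.Lib.Helper49.N5PureDefs
import Cfsg.Agent.Lib.Helper49.N5PureCore
import Cfsg.Agent.Lib.Helper65.N5A3aMODa
import Cfsg.Agent.Lib.Helper19.N5A3aMODb
import Cfsg.Agent.Lib.Helper65.N5A3aTR

/-!
Piece (A3a) `alpha_three_pure` of helper32's server N5 (S1904): assembly (helper49) from
`exists_linearization` (helper65), `module_facts` (helper65), `filt_of_module` (helper19), `pure_core` (helper49).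
-/

set_option autoImplicit false

namespace Cfsg.Agent.Helper49.N5

open Cfsg Cfsg.Agent.Helper32.N5
open scoped commutatorElement

universe u

variable {X : Type u} [Group X] [Finite X]

theorem alpha_three_pure (hX : IsPGroup 2 X) (σ : MulAut X) (hσ3 : ∀ x : X, σ (σ (σ x)) = x)
    (hgen : ComGen1 σ) (V : Subgroup X) (hV : VData V σ)
    (B : Subgroup X) (hBn : B.Normal) (hBσ : ∀ b ∈ B, σ b ∈ B) (hBab : Ab B)
    (hBc : Subgroup.centralizer (B : Set X) = B) (hVB : V ≤ B)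
    (hVΩ : ∀ b ∈ B, b ^ 2 = 1 → b ∈ V) (b₀ : X) (hb₀ : b₀ ∈ B) (hb₀4 : b₀ ^ 4 ≠ 1)
    (hne : ∃ x : X, x ∉ B) :
    ∃ l : X, l ∉ B ∧ (∀ b ∈ B, ⁅b, l⁆ ∈ V) ∧ l * σ l * σ (σ l) ∈ B := by
  obtain ⟨M, instM, instF, s, α, h3, hfpf, h4, h2, ⟨m₀, hm₀⟩, hequiv, hfix, hker, hcomm⟩ :=
    Cfsg.Agent.Helper65.N5.exists_linearization hX σ hσ3 V hV B hBn hBσ hBab hBc hVB hVΩ b₀ hb₀ hb₀4
  obtain ⟨hN, k, hk, hdiv, hlast, hlast1, hdiv1⟩ :=
    Cfsg.Agent.Helper65.N5.module_facts s h3 hfpf h4 h2 m₀ hm₀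
  have F := Cfsg.Agent.Helper19.N5.filt_of_module s k h3 hN hdiv hlast
  have A : Act (J M) (toEnd s) (toEnd s.symm) σ α := by
    refine ⟨hequiv, hσ3, hgen, ?_⟩
    intro x m
    apply hdiv1
    have hm : 2 ^ (k - 1) • m ∈ D M (k - 1) := ⟨m, rfl⟩
    have h2m := hlast1 _ hm
    have hfx := hfix x _ h2m
    show 2 ^ (k - 1) • ((α x - 1) m) = 0
    have e : (α x - 1) m = α x m - m := rfl
    rw [e, smul_sub, ← map_nsmul, hfx, sub_self]
  obtain ⟨x₀, hx₀⟩ := hne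
  have hne' : ∃ x, α x ≠ 1 := ⟨x₀, fun h => hx₀ ((hker x₀).mp h)⟩
  obtain ⟨l, hl1, hlJ, hl3⟩ := pure_core hk F σ α A hne'
  refine ⟨l, fun hlB => ?_, ?_, ?_⟩
  · exact hl1 ((hker l).mpr hlB)
  · apply hcomm l
    intro m
    obtain ⟨m', hm'⟩ := hlJ m
    have : (α l - 1) m = α l m - m := rfl
    rw [← this, hm']
    exact hlast1 _ ⟨m', rfl⟩
  · rw [hl3]; exact B.one_mem

end Cfsg.Agent.Helper49.N5
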