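import Mathlib
import Cfsg.Agent.Lib.Helper67.BGCrux
import Cfsg.Agent.Lib.Helper55.BGHall
import Cfsg.Agent.Lib.Helper97.BG144

/-!
CRUX (C6-b2) for helper67's server (board #3295): if `Z ≤ T ≤ E1`, `T` a `t`-group,
`t ∈ τ1(M) ∩ τ1(H)`, `card Z = t` and `Z` centralizes `Y`, then `T` centralizes `Y`.
-/

set_option autoImplicit false
set_option linter.unusedVariables false
set_option linter.unusedSectionVars false

namespace Cfsg.Agent.Helper49.BGCrux

open Subgroup Cfsg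
open Cfsg.Agent.Helper52 (sylCard)
open Cfsg.Agent.Helper67.BGCrux

variable {G : Type*} [Group G] [Finite G]

theorem commute_of_mem_isCyclic {K : Subgroup G} (hK : IsCyclic K) {a b : G} (ha : a ∈ K)
    (hb : b ∈ K) : a * b = b * a := by
  have hc : IsMulCommutative K := IsCyclic.isMulCommutative
  have h := hc.is_comm.comm ⟨a, ha⟩ ⟨b, hb⟩
  exact congrArg Subtype.val h

theorem c6_b2 (hG : IsMinSimpleOddOrder G) (rows : Rows G) (inp : Inputs G)
    {M E Y H E1 E3 : Subgroup G} {s : ℕ} (cfg : Cfg M E Y s) (es : EStruct M E E1 E3)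
    (hs : HSide M E Y H s) (hEY : E ≤ normalizer (Y : Set G)) {t : ℕ} [Fact t.Prime]
    (htM : t ∈ tau1 M) (htH : t ∈ tau1 H) {T Z : Subgroup G} (hT : IsPGroup t T) (hTE1 : T ≤ E1)
    (hZT : Z ≤ T) (hZ : Nat.card Z = t) (hZY : Z ≤ centralizer (Y : Set G)) :
    T ≤ centralizer (Y : Set G) := by
  have htp : t.Prime := Fact.out
  have hsp : s.Prime := cfg.hs.1
  have hE1E : E1 ≤ E := es.hE1.1
  have hTE : T ≤ E := hTE1.trans hE1E
  have hZH : Z ≤ H := (hZT.trans hTE).trans hs.hEH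
  have hZ1 : Z ≠ ⊥ := by
    intro h
    rw [h, Subgroup.card_bot] at hZ
    exact htp.one_lt.ne hZ
  -- `L` maximal over `N_G(Z)`
  obtain ⟨L, hL, hNL⟩ := exists_coatom_ge_normalizer hG hs.hH hZH hZ1
  have hCL : centralizer (Z : Set G) ≤ L := (Subgroup.centralizer_le_normalizer _).trans hNL
  -- `Y` centralizes `Z`
  have hYZ : Y ≤ centralizer (Z : Set G) := by
    intro y hy
    rw [Subgroup.mem_centralizer_iff]
    intro z hz
    exact ((Subgroup.mem_centralizer_iff.mp (hZY hz)) y hy).symm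
  have hne : sigmaCore H ⊓ centralizer (Z : Set G) ≠ ⊥ := by
    intro h
    have hle : Y ≤ sigmaCore H ⊓ centralizer (Z : Set G) := le_inf hs.hYσ hYZ
    rw [h] at hle
    exact Y_ne_bot cfg (le_bot_iff.mp hle)
  have hZL : Z ≤ sigmaCore L :=
    inp.l6 H hs.hH t htp htH.2.1 htH.2.2.2.2 Z hZH hZ hne L hL hNL
  have hHallL : IsPiHallOf (sigma L) (sigmaCore L) L := (rows.r1350 L hL).1
  have htL : t ∈ sigma L := by
    apply hHallL.2.1 t htp
    rw [← hZ]
    exact Subgroup.card_dvd_of_le hZL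
  -- `T ≤ C_G(Z) ≤ L`, so `T ≤ L_σ`
  have hTZ : T ≤ centralizer (Z : Set G) := by
    intro x hx
    rw [Subgroup.mem_centralizer_iff]
    intro z hz
    exact commute_of_mem_isCyclic es.cyc1 (hTE1 (hZT hz)) (hTE1 hx)
  have hTL : T ≤ L := hTZ.trans hCL
  have hTLσ : T ≤ sigmaCore L :=
    Cfsg.Agent.Helper55.BGB.le_sigmaCore_of_isPGroup htp hHallL htL hTL hT
  have hYL : Y ≤ L := hYZ.trans hCL
  -- the main argument
  intro x hx
  rw [Subgroup.mem_centralizer_iff]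
  intro y hy
  by_contra hxy
  obtain ⟨c, hc⟩ : ∃ c : G, c = x * y * x⁻¹ * y⁻¹ := ⟨_, rfl⟩
  have hc1 : c ≠ 1 := by
    intro h1
    rw [hc, mul_inv_eq_one, mul_inv_eq_iff_eq_mul] at h1
    exact hxy h1.symm
  have hcY : c ∈ Y := by
    rw [hc]
    have hxN : x ∈ normalizer (Y : Set G) := hEY (hTE hx)
    have h1 : x * y * x⁻¹ ∈ Y := (Subgroup.mem_normalizer_iff.mp hxN y).mp hy
    exact Y.mul_mem h1 (Y.inv_mem hy)
  have hcL : c ∈ sigmaCore L := by
    have h1 : y * x⁻¹ * y⁻¹ ∈ sigmaCore L :=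
      conj_mem_sigmaCore (hYL hy) ((sigmaCore L).inv_mem (hTLσ hx))
    have h2 : c = x * (y * x⁻¹ * y⁻¹) := by rw [hc]; group
    rw [h2]
    exact (sigmaCore L).mul_mem (hTLσ hx) h1
  have hord : orderOf c = s := by
    have hd : orderOf c ∣ s := by
      rw [← cfg.hY]
      exact Subgroup.orderOf_dvd_natCard Y hcY
    rcases (Nat.dvd_prime hsp).mp hd with h | h
    · exact absurd (orderOf_eq_one_iff.mp h) hc1
    · exact h
  have hsL : s ∈ sigma L := by
    apply hHallL.2.1 s hsp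
    rw [← hord]
    exact Subgroup.orderOf_dvd_natCard _ hcL
  obtain ⟨g, hg⟩ := inp.sp L H hL hs.hH ⟨s, hsL, hs.hsH⟩
  have hσ : sigma H = sigma L := by
    rw [hg]
    exact Cfsg.Agent.Helper97.BG144.sigma_map_conj L g
  exact htH.2.1 (hσ ▸ htL)

end Cfsg.Agent.Helper49.BGCrux
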