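import Mathlib

set_option autoImplicit false

namespace Cfsg.Agent.Helper49.BlkLast

open Matrix

variable {F : Type*} [Field F] {m : ℕ}

/-- block diagonal matrix `diag(A, a)` on `Fin (m+1)`, the last index being the special one. -/
def blk (A : Matrix (Fin m) (Fin m) F) (a : F) : Matrix (Fin (m + 1)) (Fin (m + 1)) F :=
  Matrix.of fun i j =>
    Fin.lastCases (Fin.lastCases a (fun _ => 0) j)
      (fun i' => Fin.lastCases 0 (fun j' => A i' j') j) i

@[simp] lemma blk_last_last (A : Matrix (Fin m) (Fin m) F) (a : F) :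
    blk A a (Fin.last m) (Fin.last m) = a := by simp [blk]
@[simp] lemma blk_last_cast (A : Matrix (Fin m) (Fin m) F) (a : F) (j : Fin m) :
    blk A a (Fin.last m) j.castSucc = 0 := by simp [blk]
@[simp] lemma blk_cast_last (A : Matrix (Fin m) (Fin m) F) (a : F) (i : Fin m) :
    blk A a i.castSucc (Fin.last m) = 0 := by simp [blk]
@[simp] lemma blk_cast_cast (A : Matrix (Fin m) (Fin m) F) (a : F) (i j : Fin m) :
    blk A a i.castSucc j.castSucc = A i j := by simp [blk]

lemma blk_mul (A B : Matrix (Fin m) (Fin m) F) (a b : F) :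
    blk A a * blk B b = blk (A * B) (a * b) := by
  ext i j
  refine Fin.lastCases ?_ (fun i' => ?_) i <;> refine Fin.lastCases ?_ (fun j' => ?_) j <;>
    simp [Matrix.mul_apply, Fin.sum_univ_castSucc]

lemma blk_one : blk (1 : Matrix (Fin m) (Fin m) F) (1 : F) = 1 := by
  ext i j
  refine Fin.lastCases ?_ (fun i' => ?_) i <;> refine Fin.lastCases ?_ (fun j' => ?_) j <;>
    simp [Matrix.one_apply, (Fin.castSucc_lt_last _).ne, (Fin.castSucc_lt_last _).ne']

/-- a matrix with vanishing off-block entries is a `blk`. -/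
lemma eq_blk (M : Matrix (Fin (m + 1)) (Fin (m + 1)) F)
    (h1 : ∀ j : Fin m, M (Fin.last m) j.castSucc = 0)
    (h2 : ∀ i : Fin m, M i.castSucc (Fin.last m) = 0) :
    M = blk (M.submatrix Fin.castSucc Fin.castSucc) (M (Fin.last m) (Fin.last m)) := by
  ext i j
  refine Fin.lastCases ?_ (fun i' => ?_) i <;> refine Fin.lastCases ?_ (fun j' => ?_) j <;>
    simp [h1, h2]

lemma blk_injective {a b : F} {A B : Matrix (Fin m) (Fin m) F} (h : blk A a = blk B b) :
    A = B ∧ a = b := by
  refine ⟨?_, ?_⟩
  · ext i j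
    have := congrFun (congrFun h i.castSucc) j.castSucc
    simpa using this
  · have := congrFun (congrFun h (Fin.last m)) (Fin.last m)
    simpa using this

lemma det_blk (A : Matrix (Fin m) (Fin m) F) (a : F) : (blk A a).det = A.det * a := by
  rw [Matrix.det_succ_row _ (Fin.last m), Fin.sum_univ_castSucc]
  have hsub : (blk A a).submatrix Fin.castSucc Fin.castSucc = A := by
    ext i j
    simp
  simp [hsub, mul_comm]

end Cfsg.Agent.Helper49.BlkLast
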