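import Mathlib
import Cfsg.Prelude.Def_Solvable
import Cfsg.Agent.Lib.Helper49.PPrimeCore
import Cfsg.Agent.Lib.Helper49.PxQ

set_option autoImplicit false

namespace Cfsg.Agent.Helper49

variable {G : Type*} [Group G]

/-- A normal `p`-subgroup lies in every Sylow `p`-subgroup. -/
theorem normal_pgroup_le_sylow {p : ℕ} [Fact p.Prime] (N : Subgroup G) [N.Normal]
    (hN : IsPGroup p N) (T : Sylow p G) : N ≤ (T : Subgroup G) := by
  have h1 : IsPGroup p ((T : Subgroup G) ⊔ N : Subgroup G) :=
    IsPGroup.to_sup_of_normal_right T.2 hN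
  have h2 := T.is_maximal' h1 le_sup_left
  calc N ≤ (T : Subgroup G) ⊔ N := le_sup_right
    _ = T := h2

/-- A `p`-subgroup normalized by a Sylow `p`-subgroup lies in it. -/
theorem pgroup_le_sylow_of_normalized {p : ℕ} [Fact p.Prime] (N : Subgroup G)
    (hN : IsPGroup p N) (T : Sylow p G) (hT : (T : Subgroup G) ≤ Subgroup.normalizer (N : Set G)) :
    N ≤ (T : Subgroup G) := by
  have h1 : IsPGroup p ((T : Subgroup G) ⊔ N : Subgroup G) :=
    IsPGroup.to_sup_of_normal_right' T.2 hN hT
  have h2 := T.is_maximal' h1 le_sup_left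
  calc N ≤ (T : Subgroup G) ⊔ N := le_sup_right
    _ = T := h2

/-- The normalizer of `Q` normalizes the centralizer of `Q`. -/
theorem normalizer_le_normalizer_centralizer (Q : Subgroup G) :
    Subgroup.normalizer (Q : Set G) ≤
      Subgroup.normalizer ((Subgroup.centralizer (Q : Set G) : Subgroup G) : Set G) := by
  have key : ∀ t : G, t ∈ Subgroup.normalizer (Q : Set G) →
      ∀ c ∈ Subgroup.centralizer (Q : Set G), t * c * t⁻¹ ∈ Subgroup.centralizer (Q : Set G) := by
    intro t ht c hc
    rw [Subgroup.mem_centralizer_iff]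
    intro q hq
    have hq' : t⁻¹ * q * t ∈ Q := by
      have := (Subgroup.mem_normalizer_iff.mp (Subgroup.inv_mem _ ht) q).mp hq
      simpa using this
    have h1 := (Subgroup.mem_centralizer_iff.mp hc) _ hq'
    calc q * (t * c * t⁻¹) = t * ((t⁻¹ * q * t) * c) * t⁻¹ := by group
      _ = t * (c * (t⁻¹ * q * t)) * t⁻¹ := by rw [h1]
      _ = t * c * t⁻¹ * q := by group
  intro t ht
  rw [Subgroup.mem_normalizer_iff]
  intro c
  constructor
  · exact key t ht c
  · intro hc
    have := key t⁻¹ (Subgroup.inv_mem _ ht) _ hc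
    simpa [mul_assoc] using this

/-- A subgroup of a finite group all of whose `p'`-elements are trivial is a `p`-group. -/
theorem isPGroup_of_pprime_elements_trivial [Finite G] {p : ℕ} [hp : Fact p.Prime] (H : Subgroup G)
    (h : ∀ y ∈ H, (orderOf y).Coprime p → y = 1) : IsPGroup p H := by
  intro ⟨g, hg⟩
  have hpos : 0 < orderOf g := orderOf_pos g
  obtain ⟨k, m, hm, hkm⟩ := Nat.exists_eq_pow_mul_and_not_dvd hpos.ne' p hp.out.ne_one
  refine ⟨k, ?_⟩
  have hy : g ^ (p ^ k) ∈ H := H.pow_mem hg _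
  have hord : orderOf (g ^ (p ^ k)) = m := by
    rw [orderOf_pow' g (pow_ne_zero k hp.out.ne_zero), hkm]
    have : Nat.gcd (p ^ k * m) (p ^ k) = p ^ k := Nat.gcd_eq_right (Dvd.intro _ rfl)
    rw [this]
    exact Nat.mul_div_cancel_left m (pow_pos hp.out.pos k)
  have hcop : (orderOf (g ^ (p ^ k))).Coprime p := by
    rw [hord]
    exact ((Nat.Prime.coprime_iff_not_dvd hp.out).mpr hm).symm
  have := h _ hy hcop
  apply Subtype.ext
  simpa using this

/-- An element of a `p`-group whose order is coprime to `p` is trivial. -/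
theorem eq_one_of_mem_pgroup_of_coprime {p : ℕ} [hp : Fact p.Prime] (H : Subgroup G)
    (hH : IsPGroup p H) (y : G) (hy : y ∈ H) (hc : (orderOf y).Coprime p) : y = 1 := by
  obtain ⟨k, hk⟩ := hH ⟨y, hy⟩
  have hk' : y ^ (p ^ k) = 1 := by
    have := congrArg Subtype.val hk
    simpa using this
  have h1 : orderOf y ∣ p ^ k := orderOf_dvd_of_pow_eq_one hk'
  have h2 : (orderOf y).Coprime (p ^ k) := Nat.Coprime.pow_right k hc
  have : orderOf y = 1 := Nat.Coprime.eq_one_of_dvd h2 h1
  exact orderOf_eq_one_iff.mp this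

/-- In a group of characteristic `p`, a `p'`-element centralizing a `p`-subgroup `Q`
containing `C_{O_p(G)}(Q)` is trivial. -/
theorem pprime_element_trivial_of_charp [Finite G] {p : ℕ} [hp : Fact p.Prime]
    (hG : Subgroup.centralizer (Cfsg.pCore p G : Set G) ≤ Cfsg.pCore p G)
    (Q : Subgroup G) (hQ : IsPGroup p Q)
    (hC : Cfsg.pCore p G ⊓ Subgroup.centralizer (Q : Set G) ≤ Q)
    (y : G) (hy : y ∈ Subgroup.centralizer (Q : Set G)) (hyo : (orderOf y).Coprime p) : y = 1 := by
  have hPn : (Cfsg.pCore p G).Normal := pCore_normal' p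
  have hPp : IsPGroup p (Cfsg.pCore p G) := pCore_isPGroup p
  have hA : (Nat.card (Subgroup.zpowers y)).Coprime p := by
    rw [Nat.card_zpowers]; exact hyo
  have hQA : Q ≤ Subgroup.centralizer ((Subgroup.zpowers y : Subgroup G) : Set G) := by
    intro q hq
    rw [Subgroup.mem_centralizer_iff]
    intro a ha
    obtain ⟨k, rfl⟩ := Subgroup.mem_zpowers_iff.mp ha
    have h1 : Commute y q := (Subgroup.mem_centralizer_iff.mp hy) q hq |>.symm
    exact (h1.zpow_left k).eq
  have hAle : Subgroup.zpowers y ≤ Subgroup.centralizer (Q : Set G) := by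
    rw [Subgroup.zpowers_le]; exact hy
  have h := thompson_PxQ p Q (Subgroup.zpowers y) (Cfsg.pCore p G) hQ hA hPp hQA
    (by rw [Subgroup.normalizer_eq_top]; exact le_top)
    (by rw [Subgroup.normalizer_eq_top]; exact le_top)
    (by
      intro x hx
      have hxQ : x ∈ Q := hC hx
      rw [Subgroup.mem_centralizer_iff]
      intro a ha
      exact ((Subgroup.mem_centralizer_iff.mp (hAle ha)) x hxQ).symm)
  have hyP : y ∈ Cfsg.pCore p G := hG (h (Subgroup.mem_zpowers y))
  exact eq_one_of_mem_pgroup_of_coprime _ hPp y hyP hyo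

end Cfsg.Agent.Helper49
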