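import Mathlib

/-!
# An eigenvector lemma for automorphisms of exponent dividing `p - 1`

If `φ` is an endomorphism of a nontrivial finite elementary abelian `p`-group `N` with
`φ ^ (p - 1) = 1`, then `φ` maps some nontrivial element `n` to a power `n ^ k`.
-/

set_option autoImplicit false

namespace Cfsg.Agent.Helper49

open Polynomial

theorem exists_eigenvector_of_pow_pred_eq_one {V : Type*} [AddCommGroup V] (p : ℕ)
    [hp : Fact p.Prime] [Module (ZMod p) V] [Finite V] [Nontrivial V]
    (f : Module.End (ZMod p) V) (hf1 : f ^ (p - 1) = 1) :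
    ∃ (v : V) (k : ℕ), v ≠ 0 ∧ f v = k • v := by
  classical
  have haeval : aeval f (X ^ (p - 1) - 1 : (ZMod p)[X]) = 0 := by
    simp [hf1]
  have hdvd : minpoly (ZMod p) f ∣ (X ^ (p - 1) - 1 : (ZMod p)[X]) := minpoly.dvd _ _ haeval
  have hdvd2 : (X ^ (p - 1) - 1 : (ZMod p)[X]) ∣ (X ^ p - X : (ZMod p)[X]) := by
    refine ⟨X, ?_⟩
    have h3 : (X : (ZMod p)[X]) ^ p = X ^ (p - 1) * X := by
      rw [← pow_succ, Nat.sub_add_cancel hp.out.one_le]
    rw [h3]
    ring
  have hsplit : Splits (X ^ p - X : (ZMod p)[X]) := by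
    have := FiniteField.splits_X_pow_card_sub_X (p := p) (K := ZMod p)
    rwa [ZMod.card, Algebra.algebraMap_self, Polynomial.map_id] at this
  have hne : (X ^ p - X : (ZMod p)[X]) ≠ 0 :=
    FiniteField.X_pow_card_sub_X_ne_zero (ZMod p) hp.out.one_lt
  have hsplit' : Splits (minpoly (ZMod p) f) :=
    Splits.of_dvd hsplit hne (hdvd.trans hdvd2)
  have hint : IsIntegral (ZMod p) f := Algebra.IsIntegral.isIntegral f
  have hdeg : (minpoly (ZMod p) f).degree ≠ 0 := (minpoly.degree_pos hint).ne'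
  obtain ⟨μ, hμ⟩ := hsplit'.exists_eval_eq_zero hdeg
  have hev : f.HasEigenvalue μ := Module.End.hasEigenvalue_of_isRoot hμ
  obtain ⟨v, hv⟩ := hev.exists_hasEigenvector
  refine ⟨v, μ.val, hv.2, ?_⟩
  have h1 := hv.apply_eq_smul
  have h2 : μ • v = μ.val • v := by
    conv_lhs => rw [← ZMod.natCast_zmod_val μ]
    exact Nat.cast_smul_eq_nsmul _ _ _
  rw [h2] at h1
  exact h1


theorem exists_eigen_of_pow_pred_eq_one {N : Type*} [CommGroup N] [Finite N] [Nontrivial N]
    (p : ℕ) [hp : Fact p.Prime] (hexp : ∀ n : N, n ^ p = 1) (φ : N →* N)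
    (hφ : ∀ n : N, (φ^[p - 1]) n = n) :
    ∃ (n : N) (k : ℕ), n ≠ 1 ∧ φ n = n ^ k := by
  letI inst : Module (ZMod p) (Additive N) := AddCommGroup.zmodModule (n := p)
    (fun x => congrArg Additive.ofMul (hexp x.toMul))
  have hiter : ∀ (k : ℕ) (x : Additive N),
      ((MonoidHom.toAdditive φ : Additive N →+ Additive N))^[k] x
        = Additive.ofMul ((φ^[k]) x.toMul) := by
    intro k
    induction k with
    | zero => intro x; rfl
    | succ k ih =>
      intro x
      rw [Function.iterate_succ_apply', ih, Function.iterate_succ_apply']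
      rfl
  obtain ⟨v, k, hv, hk⟩ := exists_eigenvector_of_pow_pred_eq_one (V := Additive N) p
    ((MonoidHom.toAdditive φ).toZModLinearMap p) (by
      apply LinearMap.ext
      intro x
      rw [Module.End.pow_apply]
      change ((MonoidHom.toAdditive φ : Additive N →+ Additive N))^[p - 1] x = x
      rw [hiter, hφ]
      rfl)
  refine ⟨v.toMul, k, ?_, ?_⟩
  · intro h
    exact hv (by rw [← ofMul_toMul v, h]; rfl)
  · exact congrArg Additive.toMul hk


open scoped commutatorElement in
/-- A minimal normal subgroup `N`, elementary abelian of exponent `p`, on which the group acts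
through an abelian group of exponent dividing `p - 1`, has order `p`. -/
theorem card_eq_prime_of_minNormal_of_abelian_action {G : Type*} [Group G] [Finite G] (p : ℕ)
    [hp : Fact p.Prime] (N : Subgroup G) [hNn : N.Normal] (hN1 : N ≠ ⊥)
    (hmin : ∀ K : Subgroup G, K.Normal → K ≤ N → K = ⊥ ∨ K = N)
    (hcomm : ∀ a ∈ N, ∀ b ∈ N, a * b = b * a) (hexp : ∀ a ∈ N, a ^ p = 1)
    (hC1 : ∀ g h : G, ∀ n ∈ N, ⁅g, h⁆ * n = n * ⁅g, h⁆)
    (hC2 : ∀ g : G, ∀ n ∈ N, g ^ (p - 1) * n = n * g ^ (p - 1)) :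
    Nat.card N = p := by
  classical
  -- Step 1: every `g` acts on `N` as a power map
  have step1 : ∀ g : G, ∃ k : ℕ, ∀ n ∈ N, g * n * g⁻¹ = n ^ k := by
    intro g
    letI : CommGroup N :=
      { (inferInstance : Group N) with
        mul_comm := fun a b => Subtype.ext (hcomm a a.2 b b.2) }
    haveI : Nontrivial N := (Subgroup.nontrivial_iff_ne_bot N).mpr hN1
    set φ : N →* N := (MulAut.conjNormal g : MulAut N).toMonoidHom with hφ
    have hφa : ∀ n : N, ((φ n : N) : G) = g * n * g⁻¹ := fun n => rfl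
    have hiter : ∀ (j : ℕ) (n : N), (((φ^[j]) n : N) : G) = g ^ j * n * (g ^ j)⁻¹ := by
      intro j
      induction j with
      | zero => intro n; simp
      | succ j ih =>
        intro n
        rw [Function.iterate_succ_apply', hφa, ih, pow_succ']
        group
    obtain ⟨n₀, k, hn₀, hk⟩ := exists_eigen_of_pow_pred_eq_one p
      (fun n : N => Subtype.ext (hexp n n.2)) φ (by
        intro n
        apply Subtype.ext
        rw [hiter, hC2 g n n.2]
        group)
    refine ⟨k, ?_⟩
    -- the eigenspace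
    let E : Subgroup G :=
      { carrier := {n | n ∈ N ∧ g * n * g⁻¹ = n ^ k}
        one_mem' := ⟨N.one_mem, by simp⟩
        mul_mem' := by
          rintro a b ⟨ha, ha'⟩ ⟨hb, hb'⟩
          refine ⟨N.mul_mem ha hb, ?_⟩
          have hab : Commute a b := hcomm a ha b hb
          rw [hab.mul_pow, ← ha', ← hb']
          group
        inv_mem' := by
          rintro a ⟨ha, ha'⟩
          refine ⟨N.inv_mem ha, ?_⟩
          rw [inv_pow, ← ha']
          group }
    have hEmem : ∀ n, n ∈ E ↔ n ∈ N ∧ g * n * g⁻¹ = n ^ k := fun n => Iff.rfl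
    have hEN : E ≤ N := fun n hn => hn.1
    have hEnorm : E.Normal := by
      constructor
      intro n hn h
      rw [hEmem] at hn ⊢
      obtain ⟨hnN, hnk⟩ := hn
      refine ⟨hNn.conj_mem n hnN h, ?_⟩
      have hc := hC1 g⁻¹ h⁻¹ n hnN
      -- `h⁻¹ g h = g * ⁅g⁻¹, h⁻¹⁆`
      have h1 : g * (h * n * h⁻¹) * g⁻¹
          = h * (g * (⁅g⁻¹, h⁻¹⁆ * n * ⁅g⁻¹, h⁻¹⁆⁻¹) * g⁻¹) * h⁻¹ := by
        rw [commutatorElement_def]
        group
      rw [h1, hc, mul_inv_cancel_right, hnk, conj_pow]
    have hE1 : E ≠ ⊥ := by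
      intro hb
      have : (n₀ : G) ∈ E := by
        rw [hEmem]
        refine ⟨n₀.2, ?_⟩
        have := congrArg (fun x : N => (x : G)) hk
        simpa [hφa] using this
      rw [hb, Subgroup.mem_bot] at this
      exact hn₀ (Subtype.ext this)
    rcases hmin E hEnorm hEN with h | h
    · exact absurd h hE1
    · intro n hn
      have : n ∈ E := h ▸ hn
      exact this.2
  -- Step 2: a nontrivial element generates a normal subgroup
  obtain ⟨n₀, hn₀N, hn₀1⟩ : ∃ n₀ ∈ N, n₀ ≠ 1 := by
    by_contra hcon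
    push Not at hcon
    exact hN1 ((Subgroup.eq_bot_iff_forall N).mpr hcon)
  have hZn : (Subgroup.zpowers n₀).Normal := by
    constructor
    intro x hx g
    obtain ⟨j, rfl⟩ := Subgroup.mem_zpowers_iff.mp hx
    obtain ⟨k, hk⟩ := step1 g
    have : g * n₀ ^ j * g⁻¹ = (n₀ ^ k) ^ j := by
      rw [← hk n₀ hn₀N, conj_zpow]
    rw [this]
    exact Subgroup.zpow_mem _ (Subgroup.pow_mem _ (Subgroup.mem_zpowers n₀) k) j
  have hZN : Subgroup.zpowers n₀ ≤ N := (Subgroup.zpowers_le).mpr hn₀N
  rcases hmin _ hZn hZN with h | h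
  · exfalso
    exact hn₀1 ((Subgroup.zpowers_eq_bot).mp h)
  · rw [← h, Nat.card_zpowers]
    exact orderOf_eq_prime (hexp n₀ hn₀N) hn₀1

end Cfsg.Agent.Helper49
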