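import Cfsg.Agent.Lib.Helper21.FStar
import Cfsg.Agent.Lib.Helper21.Quasisimple
import Cfsg.Agent.Lib.Helper22.Components
import Cfsg.Agent.Lib.Helper22.Bender

/-!
# Groups whose generalized Fitting subgroup is quasisimple (helper49)

For a finite group `X` with `L = F*(X)` quasisimple and `K ⊴ M ⊴ X`:
* `eq_fstar_of_quasisimple`: if `K` is quasisimple then `K = L`;
* `commutator_fstar_eq_bot_of_solvable`: if `K` is solvable then `[L, K] = 1`.
-/

set_option autoImplicit false

namespace Cfsg.Agent.Helper49

open Subgroup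
open scoped commutatorElement

variable {X : Type*} [Group X]

/-- `L` quasisimple normal, `K ⊴ M ⊴ X` with `K` solvable: then `[L, K] = 1`. -/
theorem commutator_eq_bot_of_solvable_two_step (L K M : Subgroup X)
    (hL : Cfsg.IsQuasisimple L) [hLn : L.Normal] [hMn : M.Normal] (hKM : K ≤ M)
    (hMK : M ≤ normalizer (K : Set X)) (hKs : Group.IsSolvable K) : ⁅L, K⁆ = ⊥ := by
  have hLL : ⁅L, L⁆ = L := Cfsg.Agent.Helper22.IsQuasisimple.commutator_eq hL
  -- it suffices to show `[[L,K],L] = 1`
  have key : ⁅⁅L, K⁆, L⁆ = ⊥ → ⁅L, K⁆ = ⊥ := by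
    intro h
    have h' : ⁅⁅K, L⁆, L⁆ = ⊥ := by rwa [commutator_comm K L]
    have := commutator_commutator_eq_bot_of_rotate h h'
    rwa [hLL] at this
  have hLKle : ⁅L, K⁆ ≤ M ⊓ L := by
    refine le_inf ?_ (commutator_le_left L K)
    exact (commutator_mono le_rfl hKM).trans (commutator_le_right L M)
  rcases Cfsg.Agent.Helper22.quasisimple_le_or_commutator_eq_bot hL
      (inf_le_right : M ⊓ L ≤ L) (by
        intro x _
        have : x ∈ normalizer ((M ⊓ L : Subgroup X) : Set X) := by
          have : (M ⊓ L).Normal := inferInstance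
          rw [normalizer_eq_top]; trivial
        exact this) with h | h
  · -- `L ≤ M`
    have hLM : L ≤ M := h.trans inf_le_left
    have hnorm : L ≤ normalizer ((K ⊓ L : Subgroup X) : Set X) := by
      intro x hx
      have hxK : x ∈ normalizer (K : Set X) := hMK (hLM hx)
      rw [mem_normalizer_iff] at hxK ⊢
      intro y
      rw [mem_inf, mem_inf, hxK y]
      have : y ∈ L ↔ x * y * x⁻¹ ∈ L := by
        constructor
        · intro hy; exact hLn.conj_mem y hy x
        · intro hy
          have := hLn.conj_mem _ hy x⁻¹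
          simpa [mul_assoc] using this
      rw [this]
    rcases Cfsg.Agent.Helper22.quasisimple_le_or_commutator_eq_bot hL
        (inf_le_right : K ⊓ L ≤ L) hnorm with h2 | h2
    · exfalso
      have hLK : L ≤ K := h2.trans inf_le_left
      have : Group.IsSolvable L :=
        Group.isSolvable_of_isSolvable_injective (Subgroup.inclusion_injective hLK)
      exact Cfsg.Agent.Helper21.quasisimple_not_isSolvable hL this
    · apply key
      have hle : ⁅L, K⁆ ≤ K ⊓ L := by
        refine le_inf ?_ (commutator_le_left L K)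
        rw [commutator_le]
        intro l hl k hk
        have hlK : l ∈ normalizer (K : Set X) := hMK (hLM hl)
        have h1 : l * k * l⁻¹ ∈ K := (mem_normalizer_iff.1 hlK k).1 hk
        have : ⁅l, k⁆ = (l * k * l⁻¹) * k⁻¹ := by rw [commutatorElement_def]
        rw [this]
        exact K.mul_mem h1 (K.inv_mem hk)
      rw [eq_bot_iff, ← h2, commutator_comm L (K ⊓ L)]
      exact commutator_mono hle le_rfl
  · apply key
    rw [eq_bot_iff, ← h, commutator_comm L (M ⊓ L)]
    exact commutator_mono hLKle le_rfl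

/-- If `F*(X)` is quasisimple and `K ⊴ M ⊴ X` with `K` quasisimple, then `K = F*(X)`. -/
theorem eq_fstar_of_quasisimple (hL : Cfsg.IsQuasisimple (Cfsg.generalizedFittingSubgroup X))
    (K M : Subgroup X) [hMn : M.Normal] (hKM : K ≤ M) (hMK : M ≤ normalizer (K : Set X))
    (hK : Cfsg.IsQuasisimple K) : K = Cfsg.generalizedFittingSubgroup X := by
  have hsn : K.IsSubnormal :=
    IsSubnormal.step K M hKM hMn.isSubnormal ((normal_subgroupOf_iff_le_normalizer hKM).2 hMK)
  have hcomp : Cfsg.IsComponent K := ⟨hsn, hK⟩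
  have hKL : K ≤ Cfsg.generalizedFittingSubgroup X :=
    (Cfsg.Agent.Helper21.component_le_layer hcomp).trans
      Cfsg.Agent.Helper21.layer_le_generalizedFittingSubgroup
  have hsn' : (K.subgroupOf (Cfsg.generalizedFittingSubgroup X)).IsSubnormal := hsn.subgroupOf
  rcases Cfsg.Agent.Helper21.quasisimple_subnormal_eq_top_or_le_center hL _ hsn' with h | h
  · exact le_antisymm hKL (subgroupOf_eq_top.1 h)
  · exfalso
    -- `K` would be abelian
    have hKK : ⁅K, K⁆ = K := Cfsg.Agent.Helper22.IsQuasisimple.commutator_eq hK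
    have hab : ⁅K, K⁆ = ⊥ := by
      rw [commutator_eq_bot_iff_le_centralizer]
      intro a ha
      rw [mem_centralizer_iff]
      intro b hb
      have hbc : (⟨b, hKL hb⟩ : Cfsg.generalizedFittingSubgroup X) ∈
          center (Cfsg.generalizedFittingSubgroup X) := h (by simpa [mem_subgroupOf] using hb)
      have := (mem_center_iff.1 hbc) ⟨a, hKL ha⟩
      have := congrArg Subtype.val this
      simpa using this.symm
    exact Cfsg.Agent.Helper22.IsQuasisimple.ne_bot hK (hKK ▸ hab)

/-- If `F*(X)` is quasisimple and `K ⊴ M ⊴ X` with `K` solvable, then `[F*(X), K] = 1`. -/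
theorem commutator_fstar_eq_bot_of_solvable
    (hL : Cfsg.IsQuasisimple (Cfsg.generalizedFittingSubgroup X))
    (K M : Subgroup X) [hMn : M.Normal] (hKM : K ≤ M) (hMK : M ≤ normalizer (K : Set X))
    (hKs : Group.IsSolvable K) : ⁅Cfsg.generalizedFittingSubgroup X, K⁆ = ⊥ :=
  commutator_eq_bot_of_solvable_two_step _ K M hL hKM hMK hKs

end Cfsg.Agent.Helper49
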