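import Cfsg.Agent.Lib.Helper88.GLClassDefs

/-!
GL-C for helper88's S2478 lemma server: an explicit injection `DataG F n → (Fin n → F)`.
Encoding: `enc (g :: rest) = encCoeffs rest.length (coeffs g) ++ enc rest`, where every coefficient
of `g` below the degree is preceded by `rest.length` zeros.
-/

set_option autoImplicit false
open Polynomial
namespace Cfsg.Agent.Helper49.GLClass

open Cfsg.Agent.Helper88.GLClass

variable {F : Type*} [Field F]

/-- coefficient list below the degree -/
noncomputable def coeffs (g : F[X]) : List F := (List.range g.natDegree).map g.coeff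

/-- each entry preceded by `s` zeros -/
def encCoeffs (s : ℕ) : List F → List F
  | [] => []
  | c :: t => List.replicate s (0 : F) ++ c :: encCoeffs s t

/-- the encoding of a list of polynomials -/
noncomputable def enc : List F[X] → List F
  | [] => []
  | g :: rest => encCoeffs rest.length (coeffs g) ++ enc rest

/-- `E` does not start with `s` zeros followed by one more entry. -/
def NZ (s : ℕ) (E : List F) : Prop :=
  ∀ (c : F) (t : List F), E ≠ List.replicate s (0 : F) ++ c :: t

theorem length_encCoeffs (s : ℕ) (cs : List F) :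
    (encCoeffs s cs).length = (s + 1) * cs.length := by
  induction cs with
  | nil => rfl
  | cons c t ih =>
    show (List.replicate s (0 : F) ++ c :: encCoeffs s t).length = _
    rw [List.length_append, List.length_replicate, List.length_cons, ih, List.length_cons]
    ring

theorem length_coeffs (g : F[X]) : (coeffs g).length = g.natDegree := by
  simp [coeffs]

theorem length_enc (gs : List F[X]) : (enc gs).length = wt gs := by
  induction gs with
  | nil => rfl
  | cons g rest ih =>
    show (encCoeffs rest.length (coeffs g) ++ enc rest).length =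
      (rest.length + 1) * g.natDegree + wt rest
    rw [List.length_append, length_encCoeffs, length_coeffs, ih]

theorem encCoeffs_cons_append (s : ℕ) (c : F) (t E : List F) :
    encCoeffs s (c :: t) ++ E = List.replicate s (0 : F) ++ c :: (encCoeffs s t ++ E) := by
  show (List.replicate s (0 : F) ++ c :: encCoeffs s t) ++ E = _
  rw [List.append_assoc, List.cons_append]

theorem encCoeffs_append_inj {s : ℕ} (cs : List F) : ∀ (cs' E E' : List F), NZ s E → NZ s E' →
    encCoeffs s cs ++ E = encCoeffs s cs' ++ E' → cs = cs' ∧ E = E' := by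
  induction cs with
  | nil =>
    intro cs' E E' hE hE' h
    cases cs' with
    | nil => exact ⟨rfl, h⟩
    | cons c' t' =>
      rw [encCoeffs_cons_append] at h
      exact absurd h (hE c' _)
  | cons c t ih =>
    intro cs' E E' hE hE' h
    cases cs' with
    | nil =>
      rw [encCoeffs_cons_append] at h
      exact absurd h.symm (hE' c _)
    | cons c' t' =>
      rw [encCoeffs_cons_append, encCoeffs_cons_append] at h
      have h2 := List.cons.inj (List.append_cancel_left h)
      obtain ⟨h3, h4⟩ := ih t' E E' hE hE' h2.2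
      exact ⟨by rw [h2.1, h3], h4⟩

theorem replicate_succ_append (s : ℕ) (c : F) (t : List F) :
    List.replicate (s + 1) (0 : F) ++ c :: t = List.replicate s (0 : F) ++ (0 : F) :: c :: t := by
  rw [List.replicate_succ', List.append_assoc]
  rfl

theorem coeffs_of_natDegree_zero {g : F[X]} (h : g.natDegree = 0) : coeffs g = [] := by
  simp [coeffs, h]

theorem coeffs_of_natDegree_pos {g : F[X]} (h : 0 < g.natDegree) :
    ∃ t, coeffs g = g.coeff 0 :: t := by
  obtain ⟨d, hd⟩ : ∃ d, g.natDegree = d + 1 := ⟨g.natDegree - 1, by omega⟩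
  refine ⟨(List.map Nat.succ (List.range d)).map g.coeff, ?_⟩
  unfold coeffs
  rw [hd, List.range_succ_eq_map, List.map_cons]

theorem nz_enc (gs : List F[X]) : (∀ g ∈ gs, g.coeff 0 ≠ 0) → NZ gs.length (enc gs) := by
  induction gs with
  | nil =>
    intro _ c t h
    have h' : ([] : List F) = c :: t := h
    cases h'
  | cons g rest ih =>
    intro hg c t h
    have ih' := ih (fun g' hg' => hg g' (List.mem_cons_of_mem _ hg'))
    change encCoeffs rest.length (coeffs g) ++ enc rest =
      List.replicate (rest.length + 1) (0 : F) ++ c :: t at h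
    rw [replicate_succ_append] at h
    rcases Nat.eq_zero_or_pos g.natDegree with h0 | hpos
    · rw [coeffs_of_natDegree_zero h0] at h
      exact ih' 0 (c :: t) h
    · obtain ⟨t', ht'⟩ := coeffs_of_natDegree_pos hpos
      rw [ht', encCoeffs_cons_append] at h
      have h2 := (List.cons.inj (List.append_cancel_left h)).1
      exact hg g (List.mem_cons.2 (Or.inl rfl)) h2

theorem coeffs_inj {g g' : F[X]} (hg : g.Monic) (hg' : g'.Monic) (h : coeffs g = coeffs g') :
    g = g' := by
  have hd : g.natDegree = g'.natDegree := by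
    have := congrArg List.length h
    rwa [length_coeffs, length_coeffs] at this
  ext k
  rcases lt_trichotomy k g.natDegree with hk | hk | hk
  · have hk' : k < g'.natDegree := by omega
    have h1 : (coeffs g)[k]? = some (g.coeff k) := by
      simp [coeffs, hk]
    have h2 : (coeffs g')[k]? = some (g'.coeff k) := by
      simp [coeffs, hk']
    rw [h] at h1
    rw [h1] at h2
    exact Option.some.inj h2
  · rw [hk, hg.coeff_natDegree, hd, hg'.coeff_natDegree]
  · have hk' : g'.natDegree < k := by omega
    rw [Polynomial.coeff_eq_zero_of_natDegree_lt hk, Polynomial.coeff_eq_zero_of_natDegree_lt hk']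

theorem enc_inj_of_length_eq (gs : List F[X]) : ∀ (gs' : List F[X]),
    (∀ g ∈ gs, g.Monic ∧ g.coeff 0 ≠ 0) → (∀ g ∈ gs', g.Monic ∧ g.coeff 0 ≠ 0) →
    gs.length = gs'.length → enc gs = enc gs' → gs = gs' := by
  induction gs with
  | nil =>
    intro gs' _ _ hl _
    cases gs' with
    | nil => rfl
    | cons _ _ => simp at hl
  | cons g rest ih =>
    intro gs' hg hg' hl h
    cases gs' with
    | nil => simp at hl
    | cons g' rest' =>
      have hl' : rest.length = rest'.length := by simpa using hl
      change encCoeffs rest.length (coeffs g) ++ enc rest =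
        encCoeffs rest'.length (coeffs g') ++ enc rest' at h
      rw [← hl'] at h
      have hr : ∀ x ∈ rest, x.Monic ∧ x.coeff 0 ≠ 0 :=
        fun x hx => hg x (List.mem_cons_of_mem _ hx)
      have hr' : ∀ x ∈ rest', x.Monic ∧ x.coeff 0 ≠ 0 :=
        fun x hx => hg' x (List.mem_cons_of_mem _ hx)
      have hZ : NZ rest.length (enc rest) := nz_enc rest (fun x hx => (hr x hx).2)
      have hZ' : NZ rest.length (enc rest') := by
        rw [hl']
        exact nz_enc rest' (fun x hx => (hr' x hx).2)
      obtain ⟨h1, h2⟩ :=
        encCoeffs_append_inj (coeffs g) (coeffs g') (enc rest) (enc rest') hZ hZ' h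
      have hgg : g = g' :=
        coeffs_inj (hg g (List.mem_cons.2 (Or.inl rfl))).1
          (hg' g' (List.mem_cons.2 (Or.inl rfl))).1 h1
      rw [hgg, ih rest' hr hr' hl' h2]

theorem replicate_append_cons_inj (s : ℕ) : ∀ (s' : ℕ) (a a' : F) (t t' : List F),
    a ≠ 0 → a' ≠ 0 →
    List.replicate s (0 : F) ++ a :: t = List.replicate s' (0 : F) ++ a' :: t' → s = s' := by
  induction s with
  | zero =>
    intro s' a a' t t' ha ha' h
    cases s' with
    | zero => rfl
    | succ k =>
      exfalso
      have h' : a :: t = (0 : F) :: (List.replicate k (0 : F) ++ a' :: t') := h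
      exact ha (List.cons.inj h').1
  | succ k ih =>
    intro s' a a' t t' ha ha' h
    cases s' with
    | zero =>
      exfalso
      have h' : (0 : F) :: (List.replicate k (0 : F) ++ a :: t) = a' :: t' := h
      exact ha' (List.cons.inj h').1.symm
    | succ k' =>
      have h' : (0 : F) :: (List.replicate k (0 : F) ++ a :: t) =
          (0 : F) :: (List.replicate k' (0 : F) ++ a' :: t') := h
      rw [ih k' a a' t t' ha ha' (List.cons.inj h').2]

theorem enc_cons_of_ne_one {g : F[X]} (rest : List F[X]) (hg : g.Monic) (h1 : g ≠ 1) :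
    ∃ t, enc (g :: rest) = List.replicate rest.length (0 : F) ++ g.coeff 0 :: t := by
  have hpos : 0 < g.natDegree := by
    rcases Nat.eq_zero_or_pos g.natDegree with h0 | hpos
    · exact absurd (hg.natDegree_eq_zero.1 h0) h1
    · exact hpos
  obtain ⟨t', ht'⟩ := coeffs_of_natDegree_pos hpos
  refine ⟨encCoeffs rest.length t' ++ enc rest, ?_⟩
  show encCoeffs rest.length (coeffs g) ++ enc rest = _
  rw [ht', encCoeffs_cons_append]

theorem enc_ne_nil_of_ne_one {g : F[X]} (rest : List F[X]) (hg : g.Monic) (h1 : g ≠ 1) :
    enc (g :: rest) ≠ [] := by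
  obtain ⟨t, ht⟩ := enc_cons_of_ne_one rest hg h1
  intro h
  rw [ht] at h
  have hlen := congrArg List.length h
  rw [List.length_append, List.length_cons] at hlen
  have : ([] : List F).length = 0 := rfl
  omega

theorem enc_inj_dataG {n : ℕ} {gs gs' : List F[X]} (h : gs ∈ DataG F n) (h' : gs' ∈ DataG F n)
    (he : enc gs = enc gs') : gs = gs' := by
  obtain ⟨hg, hh, -⟩ :
    (∀ g ∈ gs, g.Monic ∧ g.coeff 0 ≠ 0) ∧ gs.head? ≠ some 1 ∧ wt gs = n := h
  obtain ⟨hg', hh', -⟩ :
    (∀ g ∈ gs', g.Monic ∧ g.coeff 0 ≠ 0) ∧ gs'.head? ≠ some 1 ∧ wt gs' = n := h'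
  cases gs with
  | nil =>
    cases gs' with
    | nil => rfl
    | cons g' rest' =>
      exfalso
      have h1' : g' ≠ 1 := fun e => hh' (by simp [e])
      exact enc_ne_nil_of_ne_one rest' (hg' g' (List.mem_cons.2 (Or.inl rfl))).1 h1' he.symm
  | cons g rest =>
    have h1 : g ≠ 1 := fun e => hh (by simp [e])
    cases gs' with
    | nil =>
      exfalso
      exact enc_ne_nil_of_ne_one rest (hg g (List.mem_cons.2 (Or.inl rfl))).1 h1 he
    | cons g' rest' =>
      have h1' : g' ≠ 1 := fun e => hh' (by simp [e])
      obtain ⟨t, ht⟩ := enc_cons_of_ne_one rest (hg g (List.mem_cons.2 (Or.inl rfl))).1 h1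
      obtain ⟨t', ht'⟩ :=
        enc_cons_of_ne_one rest' (hg' g' (List.mem_cons.2 (Or.inl rfl))).1 h1'
      have hl : rest.length = rest'.length := by
        have h3 := he
        rw [ht, ht'] at h3
        exact replicate_append_cons_inj _ _ _ _ _ _
          (hg g (List.mem_cons.2 (Or.inl rfl))).2 (hg' g' (List.mem_cons.2 (Or.inl rfl))).2 h3
      exact enc_inj_of_length_eq _ _ hg hg' (by simp [hl]) he

/-- (GL-C) COUNTING: an explicit injection `DataG F n → (Fin n → F)`. -/
theorem exists_injective_dataG {F : Type*} [Field F] (n : ℕ) :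
    ∃ f : ↥(DataG F n) → (Fin n → F), Function.Injective f := by
  refine ⟨fun gs i => (enc gs.1).getD i.1 0, ?_⟩
  intro gs gs' h
  apply Subtype.ext
  apply enc_inj_dataG gs.2 gs'.2
  have hl : (enc gs.1).length = n := by rw [length_enc]; exact gs.2.2.2
  have hl' : (enc gs'.1).length = n := by rw [length_enc]; exact gs'.2.2.2
  apply List.ext_getElem (by rw [hl, hl'])
  intro i h1 h2
  have h3 : (enc gs.1).getD i 0 = (enc gs'.1).getD i 0 := congrFun h ⟨i, by omega⟩
  rw [List.getD_eq_getElem _ _ h1, List.getD_eq_getElem _ _ h2] at h3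
  exact h3

end Cfsg.Agent.Helper49.GLClass
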