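import Mathlib
import Cfsg.Prelude.Def_SolvableStructure
import Cfsg.Agent.Lib.Helper9.Supersolvable
import Cfsg.Agent.Lib.Helper9.SupersolvablePrime
import Cfsg.Agent.Lib.Helper9.PrimeIndexHered
import Cfsg.Agent.Lib.Helper49.Eigen
import Cfsg.Agent.Lib.Helper49.InvSylow
import Cfsg.Agent.Lib.Helper52.Coprime
import Cfsg.Agent.Lib.Helper31.PNilpotentLift

/-!
# Towards Huppert's theorem: supersolvability is a saturated property (one step)

* `verbS p L`: the subgroup generated by commutators and `(p-1)`-th powers.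
* `verbS_centralizes_pgroup`: in a finite supersolvable group the `p'`-elements of `verbS p L`
  centralize every normal `p`-subgroup.
* `centralizes_of_frattini`: a Frattini-type argument.
-/

set_option autoImplicit false

namespace Cfsg.Agent.Helper49

open scoped commutatorElement
open Cfsg.Agent.Helper9

universe u

/-- The verbal subgroup generated by all commutators and all `(p-1)`-th powers. -/
def verbS (p : ℕ) (L : Type*) [Group L] : Subgroup L :=
  Subgroup.closure ({x | ∃ g h : L, x = ⁅g, h⁆} ∪ {x | ∃ g : L, x = g ^ (p - 1)})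

theorem commutator_mem_verbS (p : ℕ) {L : Type*} [Group L] (g h : L) : ⁅g, h⁆ ∈ verbS p L :=
  Subgroup.subset_closure (Or.inl ⟨g, h, rfl⟩)

theorem pow_pred_mem_verbS (p : ℕ) {L : Type*} [Group L] (g : L) : g ^ (p - 1) ∈ verbS p L :=
  Subgroup.subset_closure (Or.inr ⟨g, rfl⟩)

theorem map_mem_verbS (p : ℕ) {L L' : Type*} [Group L] [Group L'] (f : L →* L') {x : L}
    (hx : x ∈ verbS p L) : f x ∈ verbS p L' := by
  have h1 : (verbS p L).map f ≤ verbS p L' := by
    unfold verbS
    rw [MonoidHom.map_closure, Subgroup.closure_le]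
    rintro _ ⟨x, hx, rfl⟩
    rcases hx with ⟨g, h, rfl⟩ | ⟨g, rfl⟩
    · rw [map_commutatorElement]
      exact commutator_mem_verbS p _ _
    · rw [map_pow]
      exact pow_pred_mem_verbS p _
  exact h1 (Subgroup.mem_map_of_mem f hx)

/-- `verbS p L` lies in the kernel of every homomorphism into a commutative group of exponent
dividing `p - 1`. -/
theorem verbS_le_ker (p : ℕ) {L A : Type*} [Group L] [Group A] (φ : L →* A)
    (hcomm : ∀ a b : A, a * b = b * a) (hexp : ∀ a : A, a ^ (p - 1) = 1) :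
    verbS p L ≤ φ.ker := by
  unfold verbS
  rw [Subgroup.closure_le]
  rintro x (⟨g, h, rfl⟩ | ⟨g, rfl⟩)
  · rw [SetLike.mem_coe, MonoidHom.mem_ker, map_commutatorElement,
      commutatorElement_eq_one_iff_commute]
    exact hcomm _ _
  · rw [SetLike.mem_coe, MonoidHom.mem_ker, map_pow]
    exact hexp _

/-- `verbS p L` centralizes every normal subgroup of order `p`. -/
theorem verbS_centralizes_prime {L : Type*} [Group L] [Finite L] (p : ℕ) [hp : Fact p.Prime]
    (C : Subgroup L) [hCn : C.Normal] (hC : Nat.card C = p) {y : L} (hy : y ∈ verbS p L) :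
    ∀ c ∈ C, y * c = c * y := by
  haveI : IsCyclic C := isCyclic_of_prime_card hC
  set e := IsCyclic.mulAutMulEquiv C with he
  have hcomm : ∀ a b : MulAut C, a * b = b * a := by
    intro a b
    apply e.injective
    rw [map_mul, map_mul, mul_comm]
  have hexp : ∀ a : MulAut C, a ^ (p - 1) = 1 := by
    intro a
    have h1 : Nat.card (MulAut C) = p - 1 := by
      rw [IsCyclic.card_mulAut, hC, Nat.totient_prime hp.out]
    rw [← h1]
    exact pow_card_eq_one'
  have hker := verbS_le_ker p (MulAut.conjNormal (H := C)) hcomm hexp hy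
  rw [MonoidHom.mem_ker] at hker
  intro c hc
  have h2 := congrArg (fun a : MulAut C => ((a ⟨c, hc⟩ : C) : L)) hker
  simp only [MulAut.conjNormal_apply, MulAut.one_apply] at h2
  calc y * c = y * c * y⁻¹ * y := by group
    _ = c * y := by rw [h2]


/-- If `y u = u y c` with `c` commuting with `y`, then `y^k u = u y^k c^k`. -/
theorem pow_mul_eq_of_mul_eq {L : Type*} [Group L] {y u c : L} (h : y * u = u * y * c)
    (hc : y * c = c * y) (k : ℕ) : y ^ k * u = u * y ^ k * c ^ k := by
  induction k with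
  | zero => simp
  | succ k ih =>
    have hck : y ^ k * c = c * y ^ k := by
      have : Commute y c := hc
      exact (this.pow_left k).eq
    calc y ^ (k + 1) * u = y * (y ^ k * u) := by rw [pow_succ']; group
      _ = y * (u * y ^ k * c ^ k) := by rw [ih]
      _ = (y * u) * y ^ k * c ^ k := by group
      _ = u * y * c * y ^ k * c ^ k := by rw [h]
      _ = u * y * (c * y ^ k) * c ^ k := by group
      _ = u * y * (y ^ k * c) * c ^ k := by rw [hck]
      _ = u * y ^ (k + 1) * c ^ (k + 1) := by rw [pow_succ' y k, pow_succ' c k]; group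

/-- In a finite supersolvable group, the `p'`-elements of `verbS p L` centralize every normal
`p`-subgroup. -/
theorem verbS_centralizes_pgroup_aux (p : ℕ) [hp : Fact p.Prime] :
    ∀ (n : ℕ) (L : Type u) [Group L] [Finite L], Nat.card L = n → Cfsg.IsSupersolvable L →
    ∀ Q : Subgroup L, Q.Normal → IsPGroup p Q → ∀ y ∈ verbS p L, (orderOf y).Coprime p →
    ∀ u ∈ Q, y * u = u * y := by
  intro n
  induction n using Nat.strong_induction_on with
  | _ n ih =>
    intro L _ _ hcard hL Q hQn hQp y hy hyp u hu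
    by_cases hQ1 : Q = ⊥
    · rw [hQ1, Subgroup.mem_bot] at hu
      rw [hu, mul_one, one_mul]
    haveI := hQn
    obtain ⟨C, hCn, hCQ, hCp⟩ := exists_normal_prime_card_le hL Q hQ1
    haveI := hCn
    -- `|C| = p`
    have hCcard : Nat.card C = p := by
      obtain ⟨k, hk⟩ := (hQp.to_le hCQ).exists_card_eq
      rw [hk] at hCp
      have hk0 : k ≠ 0 := by
        intro h0
        rw [h0, pow_zero] at hCp
        exact Nat.not_prime_one hCp
      have := (Nat.prime_dvd_prime_iff_eq hp.out hCp).mp (dvd_pow_self p hk0)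
      rw [hk, ← this]
    have hyC : ∀ c ∈ C, y * c = c * y := verbS_centralizes_prime p C hCcard hy
    -- pass to the quotient
    set f : L →* L ⧸ C := QuotientGroup.mk' C with hf
    have hfs : Function.Surjective f := QuotientGroup.mk'_surjective C
    have hlt : Nat.card (L ⧸ C) < n := by
      rw [← hcard]; exact card_quotient_lt C (by rw [hCcard]; exact hp.out.one_lt)
    have hyf : f y ∈ verbS p (L ⧸ C) := map_mem_verbS p f hy
    have hyfp : (orderOf (f y)).Coprime p :=
      Nat.Coprime.coprime_dvd_left (orderOf_map_dvd f y) hyp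
    have h1 := ih _ hlt (L ⧸ C) rfl (isSupersolvable_quotient hL C) (Q.map f)
      (hQn.map f hfs) (hQp.map f) (f y) hyf hyfp (f u) (Subgroup.mem_map_of_mem f hu)
    -- `c := (u y)⁻¹ (y u) ∈ C`
    have hc : (u * y)⁻¹ * (y * u) ∈ C := by
      rw [← QuotientGroup.eq]
      have : f (u * y) = f (y * u) := by rw [map_mul, map_mul, h1]
      exact this
    set c : L := (u * y)⁻¹ * (y * u) with hcdef
    have hyu : y * u = u * y * c := by rw [hcdef]; group
    have hpow := pow_mul_eq_of_mul_eq hyu (hyC c hc) (orderOf y)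
    rw [pow_orderOf_eq_one, one_mul, mul_one] at hpow
    have hck : c ^ orderOf y = 1 := by
      have : u * c ^ orderOf y = u * 1 := by rw [mul_one]; exact hpow.symm
      exact mul_left_cancel this
    have hcp : c ^ p = 1 := by
      have := pow_card_eq_one' (G := C) (x := ⟨c, hc⟩)
      rw [hCcard] at this
      exact congrArg (fun x : C => (x : L)) this
    have hc1 : c = 1 := by
      have h2 : orderOf c ∣ Nat.gcd (orderOf y) p :=
        Nat.dvd_gcd (orderOf_dvd_of_pow_eq_one hck) (orderOf_dvd_of_pow_eq_one hcp)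
      rw [hyp] at h2
      exact orderOf_eq_one_iff.mp (Nat.dvd_one.mp h2)
    rw [hyu, hc1, mul_one]

theorem verbS_centralizes_pgroup (p : ℕ) [Fact p.Prime] {L : Type u} [Group L] [Finite L]
    (hL : Cfsg.IsSupersolvable L) (Q : Subgroup L) (hQn : Q.Normal) (hQp : IsPGroup p Q)
    {y : L} (hy : y ∈ verbS p L) (hyp : (orderOf y).Coprime p) :
    ∀ u ∈ Q, y * u = u * y :=
  verbS_centralizes_pgroup_aux p (Nat.card L) L rfl hL Q hQn hQp y hy hyp


/-- Conjugacy of a `p'`-subgroup `C` modulo a normal `p`-subgroup `M`: if `g C g⁻¹ ≤ M C` then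
`g ∈ M · N_G(C)`. -/
theorem exists_mem_normalizer_of_conj_le_sup {G : Type*} [Group G] [Finite G] (p : ℕ)
    [hp : Fact p.Prime] (M C : Subgroup G) [hMn : M.Normal] (hMp : IsPGroup p M)
    (hCp : (Nat.card C).Coprime p) (g : G) (hg : ∀ c ∈ C, g * c * g⁻¹ ∈ M ⊔ C) :
    ∃ n ∈ M, n⁻¹ * g ∈ Subgroup.normalizer (C : Set G) := by
  obtain ⟨k, hk⟩ := hMp.exists_card_eq
  haveI : Group.IsNilpotent M := hMp.isNilpotent
  have hsolv : Group.IsSolvable M := inferInstance
  obtain ⟨n, hnM, hn⟩ := Cfsg.Agent.Helper52.sz_conj_internal M C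
    (C.map (MulAut.conj g).toMonoidHom)
    (by rw [Subgroup.normalizer_eq_top]; exact le_top) (Or.inl hsolv)
    (by rw [hk]; exact Nat.Coprime.pow_left k hCp.symm)
    (Subgroup.card_map_of_injective (MulAut.conj g).injective)
    (by
      rintro _ ⟨c, hc, rfl⟩
      exact hg c hc)
  refine ⟨n, hnM, ?_⟩
  apply mem_normalizer_of_conj_le
  intro c hc
  have h1 : g * c * g⁻¹ ∈ C.map (MulAut.conj g).toMonoidHom := ⟨c, hc, rfl⟩
  rw [hn] at h1
  obtain ⟨c', hc', hcc'⟩ := h1
  have h2 : n * c' * n⁻¹ = g * c * g⁻¹ := hcc'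
  have h3 : n⁻¹ * g * c * (n⁻¹ * g)⁻¹ = n⁻¹ * (g * c * g⁻¹) * n := by group
  rw [h3, ← h2]
  have h4 : n⁻¹ * (n * c' * n⁻¹) * n = c' := by group
  rw [h4]
  exact hc'

/-- A Frattini-type argument: if `P` is a normal Sylow `p`-subgroup, `N ≤ Z(P)` is a normal
subgroup consisting of non-generators and `D` is a normal subgroup acting trivially on `P/N`,
then `D` centralizes `N`. -/
theorem centralizes_of_frattini {G : Type*} [Group G] [Finite G] (p : ℕ) [hp : Fact p.Prime]
    (P N D : Subgroup G) [hPn : P.Normal] [hNn : N.Normal] [hDn : D.Normal]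
    (hPp : IsPGroup p P) (hPi : P.index.Coprime p) (hNP : N ≤ P)
    (hNZ : ∀ n ∈ N, ∀ u ∈ P, n * u = u * n)
    (hfr : ∀ X : Subgroup G, X ⊔ N = ⊤ → X = ⊤)
    (hD : ∀ d ∈ D, ∀ u ∈ P, d * u * d⁻¹ * u⁻¹ ∈ N) :
    ∀ d ∈ D, ∀ n ∈ N, d * n = n * d := by
  set Q : Subgroup G := D ⊓ P with hQ
  haveI hQn : Q.Normal := by rw [hQ]; infer_instance
  have hQD : Q ≤ D := inf_le_left
  have hQP : Q ≤ P := inf_le_right
  have hQp : IsPGroup p Q := hPp.to_le hQP
  obtain ⟨k, hk⟩ := hQp.exists_card_eq
  have hrel : (Q.relIndex D).Coprime p := by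
    have h1 : Q.relIndex D = P.relIndex D := by
      rw [hQ, inf_comm]; exact Subgroup.inf_relIndex_right P D
    rw [h1]
    exact Nat.Coprime.coprime_dvd_left (Subgroup.relIndex_dvd_index_of_normal P D) hPi
  obtain ⟨C, hCD, hQC, hQCbot, hCcard⟩ := Cfsg.Agent.Helper31.exists_internal_complement Q D hQD
    (by rw [Subgroup.normalizer_eq_top]; exact le_top)
    (by rw [hk]; exact Nat.Coprime.pow_left k hrel.symm)
  have hCp : (Nat.card C).Coprime p := hCcard ▸ hrel
  -- `G = N · N_G(C)`
  have htop : Subgroup.normalizer (C : Set G) ⊔ N = ⊤ := by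
    rw [eq_top_iff]
    intro g _
    obtain ⟨n, hnQ, hn⟩ := exists_mem_normalizer_of_conj_le_sup p Q C hQp hCp g (by
      intro c hc
      rw [hQC]
      exact hDn.conj_mem c (hCD hc) g)
    obtain ⟨n', hn'N, hn'⟩ := exists_mem_normalizer_of_conj_le_sup p N C (hPp.to_le hNP) hCp n (by
      intro c hc
      have h1 := hD c (hCD hc) n⁻¹ (P.inv_mem (hQP hnQ))
      have h2 := hNn.conj_mem _ h1 n
      have h3 : n * c * n⁻¹ = n * (c * n⁻¹ * c⁻¹ * n⁻¹⁻¹) * n⁻¹ * c := by group
      rw [h3]
      exact Subgroup.mul_mem _ (Subgroup.mem_sup_left h2) (Subgroup.mem_sup_right hc))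
    have h4 : g = n' * (n'⁻¹ * n * (n⁻¹ * g)) := by group
    rw [h4]
    exact Subgroup.mul_mem _ (Subgroup.mem_sup_right hn'N)
      (Subgroup.mem_sup_left (Subgroup.mul_mem _ hn' hn))
  have hCn : C.Normal := Subgroup.normalizer_eq_top_iff.mp (hfr _ htop)
  have hCN : ∀ c ∈ C, ∀ n ∈ N, c * n = n * c := by
    intro c hc n hn
    have h1 : c * n * c⁻¹ * n⁻¹ ∈ C := by
      have := hCn.conj_mem c⁻¹ (C.inv_mem hc) n
      have h2 : c * n * c⁻¹ * n⁻¹ = c * (n * c⁻¹ * n⁻¹) := by group
      rw [h2]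
      exact C.mul_mem hc this
    have h2 : c * n * c⁻¹ * n⁻¹ ∈ Q := by
      refine ⟨hCD h1, hNP ?_⟩
      exact N.mul_mem (hNn.conj_mem n hn c) (N.inv_mem hn)
    have h3 : c * n * c⁻¹ * n⁻¹ ∈ Q ⊓ C := ⟨h2, h1⟩
    rw [hQCbot, Subgroup.mem_bot] at h3
    calc c * n = (c * n * c⁻¹ * n⁻¹) * n * c := by group
      _ = n * c := by rw [h3, one_mul]
  intro d hd n hn
  rw [← hQC, Subgroup.mem_sup_of_normal_left] at hd
  obtain ⟨q, hq, c, hc, rfl⟩ := hd
  have h1 := hNZ n hn q (hQP hq)
  have h2 := hCN c hc n hn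
  calc q * c * n = q * (c * n) := by group
    _ = q * (n * c) := by rw [h2]
    _ = (q * n) * c := by group
    _ = (n * q) * c := by rw [h1]
    _ = n * (q * c) := by group


/-- **Saturation step for supersolvability.** Let `P` be a normal Sylow `p`-subgroup of the
finite group `G` and `N ≤ Z(P)` a minimal normal subgroup of `G` consisting of non-generators.
If `G ⧸ N` is supersolvable, then `|N| = p`. -/
theorem card_eq_prime_of_frattini_minNormal {G : Type u} [Group G] [Finite G] (p : ℕ)
    [hp : Fact p.Prime] (P N : Subgroup G) [hPn : P.Normal] [hNn : N.Normal]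
    (hPp : IsPGroup p P) (hPi : P.index.Coprime p) (hNP : N ≤ P)
    (hNZ : ∀ n ∈ N, ∀ u ∈ P, n * u = u * n)
    (hN1 : N ≠ ⊥) (hmin : ∀ K : Subgroup G, K.Normal → K ≤ N → K = ⊥ ∨ K = N)
    (hfr : ∀ X : Subgroup G, X ⊔ N = ⊤ → X = ⊤)
    (hQ : Cfsg.IsSupersolvable (G ⧸ N)) : Nat.card N = p := by
  classical
  have hcomm : ∀ a ∈ N, ∀ b ∈ N, a * b = b * a := fun a ha b hb => hNZ a ha b (hNP hb)
  -- `N` has exponent `p`
  have hexp : ∀ a ∈ N, a ^ p = 1 := by
    let K : Subgroup G :=
      { carrier := {a | a ∈ N ∧ a ^ p = 1}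
        one_mem' := ⟨N.one_mem, one_pow _⟩
        mul_mem' := by
          rintro a b ⟨ha, ha'⟩ ⟨hb, hb'⟩
          refine ⟨N.mul_mem ha hb, ?_⟩
          have hab : Commute a b := hcomm a ha b hb
          rw [hab.mul_pow, ha', hb', one_mul]
        inv_mem' := by
          rintro a ⟨ha, ha'⟩
          exact ⟨N.inv_mem ha, by rw [inv_pow, ha', inv_one]⟩ }
    have hKmem : ∀ a, a ∈ K ↔ a ∈ N ∧ a ^ p = 1 := fun a => Iff.rfl
    have hKn : K.Normal := by
      constructor
      intro a ha g
      rw [hKmem] at ha ⊢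
      exact ⟨hNn.conj_mem a ha.1 g, by rw [conj_pow, ha.2]; group⟩
    have hKN : K ≤ N := fun a ha => ha.1
    have hK1 : K ≠ ⊥ := by
      intro hb
      obtain ⟨k, hk⟩ := (hPp.to_le hNP).exists_card_eq
      have hk0 : k ≠ 0 := by
        intro h0
        rw [h0, pow_zero] at hk
        exact hN1 (Subgroup.card_eq_one.mp hk)
      have hpd : p ∣ Nat.card N := by rw [hk]; exact dvd_pow_self p hk0
      obtain ⟨x, hx⟩ := exists_prime_orderOf_dvd_card' p hpd
      have hxK : (x : G) ∈ K := by
        rw [hKmem]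
        refine ⟨x.2, ?_⟩
        have := pow_orderOf_eq_one x
        rw [hx] at this
        exact congrArg (fun z : N => (z : G)) this
      rw [hb, Subgroup.mem_bot] at hxK
      have hx1 : x = 1 := Subtype.ext hxK
      rw [hx1, orderOf_one] at hx
      exact hp.out.one_lt.ne hx
    rcases hmin K hKn hKN with h | h
    · exact absurd h hK1
    · intro a ha
      have : a ∈ K := h ▸ ha
      exact this.2
  -- the centralizer of `P/N`
  set f : G →* G ⧸ N := QuotientGroup.mk' N with hf
  have hfs : Function.Surjective f := QuotientGroup.mk'_surjective N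
  haveI hPfn : (P.map f).Normal := hPn.map f hfs
  set D : Subgroup G := (Subgroup.centralizer ((P.map f : Subgroup (G ⧸ N)) : Set (G ⧸ N))).comap f
    with hD
  haveI hDn : D.Normal := by rw [hD]; exact Subgroup.Normal.comap inferInstance f
  have hDprop : ∀ d ∈ D, ∀ u ∈ P, d * u * d⁻¹ * u⁻¹ ∈ N := by
    intro d hd u hu
    rw [hD, Subgroup.mem_comap, Subgroup.mem_centralizer_iff] at hd
    have h1 := hd (f u) (Subgroup.mem_map_of_mem f hu)
    rw [← QuotientGroup.eq_one_iff, ← QuotientGroup.mk'_apply, ← hf, map_mul, map_mul, map_mul,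
      map_inv, map_inv, ← h1]
    group
  -- `p'`-elements of `verbS` centralize `N`
  have hstep4 : ∀ y ∈ verbS p G, (orderOf y).Coprime p → ∀ n ∈ N, y * n = n * y := by
    intro y hy hyp
    have h1 := verbS_centralizes_pgroup p hQ (P.map f) hPfn (hPp.map f) (map_mem_verbS p f hy)
      (Nat.Coprime.coprime_dvd_left (orderOf_map_dvd f y) hyp)
    have hyD : y ∈ D := by
      rw [hD, Subgroup.mem_comap, Subgroup.mem_centralizer_iff]
      intro z hz
      exact (h1 z hz).symm
    exact centralizes_of_frattini p P N D hPp hPi hNP hNZ hfr hDprop y hyD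
  -- all of `verbS` centralizes `N`
  have hstep5 : ∀ x ∈ verbS p G, ∀ n ∈ N, x * n = n * x := by
    intro x hx
    set Z : Subgroup G := Subgroup.centralizer (N : Set G) with hZ
    have hZmem : ∀ z, z ∈ Z ↔ ∀ n ∈ N, z * n = n * z := by
      intro z
      rw [hZ, Subgroup.mem_centralizer_iff]
      constructor
      · intro h n hn; exact (h n hn).symm
      · intro h n hn; exact (h n hn).symm
    rw [← hZmem]
    obtain ⟨k, hk⟩ := hPp.exists_card_eq
    set q := Nat.card P with hq
    set m := P.index with hm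
    have hqm : q * m = Nat.card G := Subgroup.card_mul_index P
    have hxm : x ^ m ∈ Z := by
      rw [hZmem]
      have hxP : x ^ m ∈ P := by
        rw [← QuotientGroup.eq_one_iff, QuotientGroup.mk_pow, hm, Subgroup.index_eq_card]
        exact pow_card_eq_one'
      intro n hn
      exact (hNZ n hn _ hxP).symm
    have hxq : x ^ q ∈ Z := by
      rw [hZmem]
      apply hstep4 _ (Subgroup.pow_mem _ hx q)
      have h1 : (x ^ q) ^ m = 1 := by
        rw [← pow_mul, hqm]; exact pow_card_eq_one'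
      exact Nat.Coprime.coprime_dvd_left (orderOf_dvd_of_pow_eq_one h1) hPi
    have hcop : Nat.Coprime q m := by
      rw [hk]; exact Nat.Coprime.pow_left k hPi.symm
    have hbez := Int.gcd_eq_gcd_ab q m
    rw [Int.gcd_natCast_natCast, hcop.gcd_eq_one] at hbez
    have hx1 : x = (x ^ q) ^ (Int.gcdA q m) * (x ^ m) ^ (Int.gcdB q m) := by
      rw [← zpow_natCast x q, ← zpow_natCast x m, ← zpow_mul, ← zpow_mul, ← zpow_add, ← hbez]
      simp
    rw [hx1]
    exact Z.mul_mem (Z.zpow_mem hxq _) (Z.zpow_mem hxm _)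
  exact card_eq_prime_of_minNormal_of_abelian_action p N hN1 hmin hcomm hexp
    (fun g h n hn => hstep5 _ (commutator_mem_verbS p g h) n hn)
    (fun g n hn => hstep5 _ (pow_pred_mem_verbS p g) n hn)

end Cfsg.Agent.Helper49
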