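import Mathlib
import Cfsg.Prelude.Def_JComponents
import Cfsg.Agent.Lib.Helper23.ThompsonJ
import Cfsg.Agent.Lib.Helper50.JComp6

/-!
# Conjugation equivariance of the `J(T)`-component set-up

`IsJComponent`, `wOf`, `pCoreOf`, `omegaCenterOf` under conjugation by an element of `G`; in
particular conjugation by an element normalizing `J(T)` maps `J(T)`-components to
`J(T)`-components.
-/

set_option autoImplicit false

namespace Cfsg.Agent.Helper49.JConj

open Subgroup
open Cfsg.Agent.Helper23 (cj mem_cj cj_mono cj_cj cj_one isPGroup_cj thompsonSubgroupOf_cj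
  inf_centralizer_cj conj_injOn normalizer_cj_eq cj_eq_of_mem_normalizer pCoreOf_le
  pCoreOf_isPGroup le_normalizer_pCoreOf le_pCoreOf_of_normal_pgroup)

variable {G : Type*} [Group G]

theorem cj_cj_inv (Q : Subgroup G) (g : G) : cj (cj Q g⁻¹) g = Q := by
  rw [cj_cj, mul_inv_cancel, cj_one]

theorem cj_inv_cj (Q : Subgroup G) (g : G) : cj (cj Q g) g⁻¹ = Q := by
  rw [cj_cj, inv_mul_cancel, cj_one]

theorem conj_injective (g : G) : Function.Injective ((MulAut.conj g).toMonoidHom : G →* G) :=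
  (MulAut.conj g).injective

theorem omegaCenterOf_cj (X : Subgroup G) (g : G) :
    Cfsg.omegaCenterOf (cj X g) = cj (Cfsg.omegaCenterOf X) g := by
  unfold Cfsg.omegaCenterOf
  rw [inf_centralizer_cj]
  exact Cfsg.Agent.Helper10.omegaOne_map 2 (MulAut.conj g).toMonoidHom _ (conj_injOn g _)

theorem isJComponent_congr {T T' K : Subgroup G}
    (h : Cfsg.thompsonSubgroupOf 2 T = Cfsg.thompsonSubgroupOf 2 T') :
    Cfsg.IsJComponent T K ↔ Cfsg.IsJComponent T' K := by
  unfold Cfsg.IsJComponent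
  rw [h]

variable [Finite G]

theorem cj_pCoreOf_le (p : ℕ) [Fact p.Prime] (K : Subgroup G) (g : G) :
    cj (Cfsg.pCoreOf p K) g ≤ Cfsg.pCoreOf p (cj K g) := by
  apply le_pCoreOf_of_normal_pgroup (cj_mono (pCoreOf_le K) g) (isPGroup_cj (pCoreOf_isPGroup K) g)
  rw [normalizer_cj_eq]
  exact cj_mono (le_normalizer_pCoreOf K) g

theorem pCoreOf_cj (p : ℕ) [Fact p.Prime] (K : Subgroup G) (g : G) :
    Cfsg.pCoreOf p (cj K g) = cj (Cfsg.pCoreOf p K) g := by
  apply le_antisymm _ (cj_pCoreOf_le p K g)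
  have h1 := cj_pCoreOf_le p (cj K g) g⁻¹
  rw [cj_inv_cj] at h1
  have h2 := cj_mono h1 g
  rwa [cj_cj_inv] at h2

theorem wOf_cj (K : Subgroup G) (g : G) : Cfsg.wOf (cj K g) = cj (Cfsg.wOf K) g := by
  have : Fact (Nat.Prime 2) := ⟨Nat.prime_two⟩
  unfold Cfsg.wOf
  rw [pCoreOf_cj, omegaCenterOf_cj]
  exact (Subgroup.map_commutator _ _ _).symm

/-- conjugation maps `J(T)`-components to `J(T^g)`-components -/
theorem isJComponent_cj {T K : Subgroup G} (h : Cfsg.IsJComponent T K) (g : G) :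
    Cfsg.IsJComponent (cj T g) (cj K g) := by
  have : Fact (Nat.Prime 2) := ⟨Nat.prime_two⟩
  obtain ⟨hgen, hcomm, hidx, hsyl, hW4, hW2⟩ := h
  unfold Cfsg.IsJComponent
  rw [thompsonSubgroupOf_cj, wOf_cj, pCoreOf_cj]
  refine ⟨?_, ?_, ?_, ?_, ?_, ?_⟩
  · apply le_antisymm
    · rw [closure_le]
      rintro x ⟨hx, -⟩
      exact hx
    · have h1 : cj (closure {x : G | x ∈ K ∧ Odd (orderOf x)}) g ≤
          closure {x : G | x ∈ cj K g ∧ Odd (orderOf x)} := by
        rw [Subgroup.map_le_iff_le_comap, closure_le]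
        rintro x ⟨hxK, hodd⟩
        rw [SetLike.mem_coe, Subgroup.mem_comap]
        apply Subgroup.subset_closure
        refine ⟨Subgroup.mem_map_of_mem _ hxK, ?_⟩
        rwa [orderOf_injective _ (conj_injective g) x]
      rwa [hgen] at h1
  · rw [← Subgroup.map_commutator, hcomm]
  · rw [Subgroup.relIndex_map_map_of_injective _ _ (conj_injective g)]
    exact hidx
  · intro S hS hJS
    have hsup : cj K g ⊔ cj (Cfsg.thompsonSubgroupOf 2 T) g =
        cj (K ⊔ Cfsg.thompsonSubgroupOf 2 T) g := (Subgroup.map_sup _ _ _).symm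
    rw [hsup] at hS
    obtain ⟨hS1, hS2, hS3⟩ := hS
    have hS₀ : Cfsg.IsSylowTwoIn (cj S g⁻¹) (K ⊔ Cfsg.thompsonSubgroupOf 2 T) := by
      refine ⟨?_, isPGroup_cj hS2 g⁻¹, ?_⟩
      · have := cj_mono hS1 g⁻¹
        rwa [cj_inv_cj] at this
      · have e : (cj S g⁻¹).relIndex (K ⊔ Cfsg.thompsonSubgroupOf 2 T) =
            S.relIndex (cj (K ⊔ Cfsg.thompsonSubgroupOf 2 T) g) := by
          rw [← Subgroup.relIndex_map_map_of_injective (cj S g⁻¹)
            (K ⊔ Cfsg.thompsonSubgroupOf 2 T) (conj_injective g)]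
          have := cj_cj_inv S g
          unfold cj at this
          rw [this]
        rw [e]
        exact hS3
    have hJS₀ : Cfsg.thompsonSubgroupOf 2 T ≤ cj S g⁻¹ := by
      have := cj_mono hJS g⁻¹
      rwa [cj_inv_cj] at this
    have h3 := hsyl _ hS₀ hJS₀
    have h4 := thompsonSubgroupOf_cj 2 (cj S g⁻¹) g
    rw [cj_cj_inv, h3] at h4
    exact h4
  · rw [Subgroup.card_map_of_injective (conj_injective g)]
    exact hW4
  · rintro _ ⟨w, hw, rfl⟩
    rw [← map_mul, hW2 w hw, map_one]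

/-- conjugation by an element normalizing `J(T)` preserves `J(T)`-components -/
theorem isJComponent_cj_of_mem_normalizer {T K : Subgroup G} (h : Cfsg.IsJComponent T K) {m : G}
    (hm : m ∈ normalizer (Cfsg.thompsonSubgroupOf 2 T : Set G)) :
    Cfsg.IsJComponent T (cj K m) := by
  have h1 := isJComponent_cj h m
  refine (isJComponent_congr ?_).mp h1
  rw [thompsonSubgroupOf_cj]
  exact cj_eq_of_mem_normalizer hm

/-- `K` and `J(T)` normalize `W_K` -/
theorem sup_le_normalizer_wOf {T K : Subgroup G} (h : Cfsg.IsJComponent T K) (hT : IsPGroup 2 ↥T) :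
    K ⊔ Cfsg.thompsonSubgroupOf 2 T ≤ normalizer (Cfsg.wOf K : Set G) :=
  (Cfsg.Agent.Helper50.JComp.JD.of_isJComponent h hT).XnW

/-- `W_K` is a nontrivial 2-group -/
theorem wOf_props {T K : Subgroup G} (h : Cfsg.IsJComponent T K) :
    IsPGroup 2 ↥(Cfsg.wOf K) ∧ Cfsg.wOf K ≠ ⊥ := by
  obtain ⟨-, -, -, -, hW4, -⟩ := h
  refine ⟨IsPGroup.of_card (n := 2) (by rw [hW4]; norm_num), ?_⟩
  intro hbot
  rw [hbot, Subgroup.card_bot] at hW4
  omega

end Cfsg.Agent.Helper49.JConj
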