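import Mathlib
import Cfsg.Prelude.Def_JComponents
import Cfsg.Agent.Lib.Helper10.JCompTr
import Cfsg.Agent.Lib.Helper22.Factorization
import Cfsg.Agent.Lib.Helper46.SPE

/-!
# Maximal straddling 2-subgroups (parts 1-3 of statement S2948, KS 12.3 set-up)

`T` a member of `maxStraddlingTwoSubgroups M`, where `M` is a 2-local subgroup containing
`N_G(J(S))` for a Sylow 2-subgroup `S`.  Then `N_G(J(T)) ≤ M`; and for a 2-local subgroup
`L` not inside `M` with a Sylow 2-subgroup `T₀` containing `J(T)`: `J(T) = J(T₀)`, `T₀ ≤ M`,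
and `L` belongs to the family attached to `T₀`.
-/

set_option autoImplicit false

namespace Cfsg.Agent.Helper49.JStraddle

open Subgroup
open Cfsg.Agent.Helper50.JComp (MaxEA thompsonTwo_eq ea_two_iff card_subgroupOf_le)
open Cfsg.Agent.Helper23 (cj mem_cj isPGroup_cj cj_mono thompsonSubgroupOf_cj normalizer_cj_eq
  thompsonSubgroupOf_ne_bot thompsonSubgroupOf_eq_of_le normalizer_le_normalizer_thompsonSubgroupOf
  pCoreOf_le pCoreOf_isPGroup le_normalizer_pCoreOf le_pCoreOf_of_normal_pgroup)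

variable {G : Type*} [Group G]

/-- a largest elementary abelian 2-subgroup of `S`, seen inside `↥S` -/
theorem maxEA_subgroupOf_mem {S A : Subgroup G} (h : MaxEA S A) :
    A.subgroupOf S ∈ Cfsg.maxElementaryAbelianSubgroups 2 ↥S := by
  obtain ⟨hAS, hA2, hAc, hAm⟩ := h
  have hAmap : (A.subgroupOf S).map S.subtype = A := by
    rw [Subgroup.subgroupOf_map_subtype, inf_of_le_left hAS]
  refine ⟨?_, ?_⟩
  · rw [ea_two_iff, hAmap]
    exact ⟨hA2, hAc⟩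
  · intro B' hB'e
    obtain ⟨h2, hc⟩ := (ea_two_iff B').mp hB'e
    have h1 := hAm _ (Subgroup.map_subtype_le B') h2 hc
    rw [Subgroup.card_map_of_injective S.subtype_injective] at h1
    rw [card_subgroupOf_le hAS]
    exact h1

/-- `a(S)` is the order of any largest elementary abelian 2-subgroup of `S` -/
theorem maxElemAbelianOrder_eq {S A : Subgroup G} (h : MaxEA S A) :
    Cfsg.maxElemAbelianOrder S = Nat.card A := by
  unfold Cfsg.maxElemAbelianOrder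
  have hmem := maxEA_subgroupOf_mem h
  have hset : (fun A' : Subgroup ↥S => Nat.card ↥A') '' Cfsg.maxElementaryAbelianSubgroups 2 ↥S
      = {Nat.card A} := by
    ext n
    constructor
    · rintro ⟨A', hA', rfl⟩
      show Nat.card ↥A' = Nat.card ↥A
      have h1 := hA'.2 _ hmem.1
      have h2 := hmem.2 _ hA'.1
      rw [card_subgroupOf_le h.1] at h1 h2
      exact le_antisymm h2 h1
    · intro hn
      have hn' : n = Nat.card ↥A := hn
      exact ⟨A.subgroupOf S, hmem, by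
        show Nat.card ↥(A.subgroupOf S) = n
        rw [hn', card_subgroupOf_le h.1]⟩
  rw [hset, csSup_singleton]

theorem centralizer_le_normalizer' (U : Subgroup G) :
    centralizer (U : Set G) ≤ normalizer (U : Set G) := by
  intro x hx
  rw [mem_normalizer_iff]
  intro u
  have hx' := mem_centralizer_iff.mp hx
  constructor
  · intro hu
    have : x * u * x⁻¹ = u := by rw [← hx' u hu]; group
    rw [this]; exact hu
  · intro hu
    have h1 := hx' _ hu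
    have : u = x * u * x⁻¹ := by
      have h2 : x * u = x * (x * u * x⁻¹) := by rw [← h1]; group
      exact mul_left_cancel h2
    rw [this]; exact hu

variable [Finite G]

theorem exists_maxEA (S : Subgroup G) : ∃ A : Subgroup G, MaxEA S A := by
  classical
  let P : Subgroup G → Prop := fun B =>
    B ≤ S ∧ (∀ x ∈ B, x * x = 1) ∧ (∀ x ∈ B, ∀ y ∈ B, x * y = y * x)
  have hbot : P ⊥ := by
    refine ⟨bot_le, ?_, ?_⟩
    · intro x hx; rw [Subgroup.mem_bot] at hx; rw [hx, one_mul]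
    · intro x hx y hy; rw [Subgroup.mem_bot] at hx hy; rw [hx, hy]
  have : Nonempty {B : Subgroup G // P B} := ⟨⟨⊥, hbot⟩⟩
  obtain ⟨A, hA⟩ := Finite.exists_max (fun B : {B : Subgroup G // P B} => Nat.card B.1)
  exact ⟨A.1, A.2.1, A.2.2.1, A.2.2.2, fun B h1 h2 h3 => hA ⟨B, h1, h2, h3⟩⟩

/-- if `J(X) ≤ Y` then `a(X) ≤ a(Y)` -/
theorem maxElemAbelianOrder_le {X Y : Subgroup G} (h : Cfsg.thompsonSubgroupOf 2 X ≤ Y) :
    Cfsg.maxElemAbelianOrder X ≤ Cfsg.maxElemAbelianOrder Y := by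
  obtain ⟨A, hA⟩ := exists_maxEA X
  obtain ⟨B, hB⟩ := exists_maxEA Y
  rw [maxElemAbelianOrder_eq hA, maxElemAbelianOrder_eq hB]
  exact hB.2.2.2 A (hA.le_thompson.trans h) hA.2.1 hA.2.2.1

/-- if `J(X) ≤ Y` and `a(Y) ≤ a(X)` then `J(X) ≤ J(Y)` -/
theorem thompson_le_thompson {X Y : Subgroup G} (h : Cfsg.thompsonSubgroupOf 2 X ≤ Y)
    (hle : Cfsg.maxElemAbelianOrder Y ≤ Cfsg.maxElemAbelianOrder X) :
    Cfsg.thompsonSubgroupOf 2 X ≤ Cfsg.thompsonSubgroupOf 2 Y := by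
  obtain ⟨B, hB⟩ := exists_maxEA Y
  rw [thompsonTwo_eq X]
  apply sSup_le
  intro A hA
  have hA' : MaxEA X A := hA
  apply Cfsg.Agent.Helper50.JComp.MaxEA.le_thompson
  refine ⟨hA'.le_thompson.trans h, hA'.2.1, hA'.2.2.1, ?_⟩
  intro B' hB'Y hB'2 hB'c
  rw [maxElemAbelianOrder_eq hA', maxElemAbelianOrder_eq hB] at hle
  exact (hB.2.2.2 B' hB'Y hB'2 hB'c).trans hle

/-- maximality of `T`: a straddling `R` containing `J(T)` has `J(R) = J(T)` and `|R| ≤ |T|` -/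
theorem max_props {M T R : Subgroup G} (hT : T ∈ Cfsg.maxStraddlingTwoSubgroups M)
    (hR : R ∈ Cfsg.straddlingTwoSubgroups M) (hJR : Cfsg.thompsonSubgroupOf 2 T ≤ R) :
    Cfsg.thompsonSubgroupOf 2 R = Cfsg.thompsonSubgroupOf 2 T ∧ Nat.card R ≤ Nat.card T := by
  obtain ⟨h1, h2⟩ := hT.2 R hR
  have h3 := maxElemAbelianOrder_le hJR
  have h4 := thompson_le_thompson hJR h1
  obtain ⟨h5, h6⟩ := h2 (le_antisymm h1 h3)
  have h7 : Cfsg.thompsonSubgroupOf 2 T = Cfsg.thompsonSubgroupOf 2 R :=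
    Subgroup.eq_of_le_of_card_ge h4 h5
  exact ⟨h7.symm, h6 (by rw [h7])⟩

/-- `N_G(J(T)) ≤ M` for `T` maximal straddling -/
theorem normalizer_thompson_le (S : Sylow 2 G) {M : Subgroup G}
    (hMJ : normalizer (Cfsg.thompsonSubgroupOf 2 (S : Subgroup G) : Set G) ≤ M)
    {T : Subgroup G} (hT : T ∈ Cfsg.maxStraddlingTwoSubgroups M) :
    normalizer (Cfsg.thompsonSubgroupOf 2 T : Set G) ≤ M := by
  have : Fact (Nat.Prime 2) := ⟨Nat.prime_two⟩
  obtain ⟨hT2, hT1, hTM, -⟩ := hT.1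
  have hSM : (S : Subgroup G) ≤ M :=
    (le_normalizer.trans
      (normalizer_le_normalizer_thompsonSubgroupOf 2 (S : Subgroup G))).trans hMJ
  obtain ⟨m, hmM, hm⟩ := Cfsg.Agent.Helper46.exists_conj_le_sylow_of_le S hSM hTM hT2
  obtain ⟨S₁, hS₁⟩ : ∃ S₁ : Subgroup G, S₁ = cj (S : Subgroup G) m⁻¹ := ⟨_, rfl⟩
  have hS₁2 : IsPGroup 2 S₁ := by rw [hS₁]; exact isPGroup_cj S.isPGroup' m⁻¹
  have hcjM : cj M m⁻¹ ≤ M := by
    intro x hx
    rw [mem_cj, inv_inv] at hx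
    have := M.mul_mem (M.mul_mem (M.inv_mem hmM) hx) hmM
    have h3 : m⁻¹ * (m * x * m⁻¹) * m = x := by group
    rwa [h3] at this
  have hS₁M : S₁ ≤ M := by rw [hS₁]; exact (cj_mono hSM m⁻¹).trans hcjM
  have hTS₁ : T ≤ S₁ := by
    intro t ht
    rw [hS₁, mem_cj, inv_inv]
    exact hm t ht
  have hNS₁ : normalizer (Cfsg.thompsonSubgroupOf 2 S₁ : Set G) ≤ M := by
    rw [hS₁, thompsonSubgroupOf_cj, normalizer_cj_eq]
    exact (cj_mono hMJ m⁻¹).trans hcjM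
  by_contra hcon
  obtain ⟨N, hNdef⟩ : ∃ N : Subgroup G,
    N = normalizer (Cfsg.thompsonSubgroupOf 2 T : Set G) := ⟨_, rfl⟩
  have hJT : Cfsg.thompsonSubgroupOf 2 T ≤ T := Cfsg.Agent.Helper10.thompsonSubgroupOf_le T
  have hTN : T ≤ N := by
    rw [hNdef]
    exact le_normalizer.trans (normalizer_le_normalizer_thompsonSubgroupOf 2 T)
  have hN2 : Cfsg.IsTwoLocal N :=
    ⟨Cfsg.thompsonSubgroupOf 2 T, hT2.to_le hJT, thompsonSubgroupOf_ne_bot hT2 hT1, hNdef⟩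
  have hNM : ¬ N ≤ M := by rw [hNdef]; exact hcon
  have hR : S₁ ⊓ N ∈ Cfsg.straddlingTwoSubgroups M := by
    refine ⟨hS₁2.to_le inf_le_left, ?_, inf_le_left.trans hS₁M, N, hN2, inf_le_right, hNM⟩
    intro h
    apply hT1
    rw [eq_bot_iff, ← h]
    exact le_inf hTS₁ hTN
  obtain ⟨-, hcard⟩ := max_props hT hR (hJT.trans (le_inf hTS₁ hTN))
  have hTR : T = S₁ ⊓ N := Subgroup.eq_of_le_of_card_ge (le_inf hTS₁ hTN) hcard
  have hTeq : T = S₁ := by
    by_contra hne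
    obtain ⟨g, hgS, hgN, hgT⟩ :=
      Cfsg.Agent.Helper22.exists_mem_normalizer_not_mem hS₁2 hTS₁ hne
    apply hgT
    rw [hTR]
    refine ⟨hgS, ?_⟩
    rw [hNdef]
    exact normalizer_le_normalizer_thompsonSubgroupOf 2 T hgN
  apply hcon
  rw [hTeq]
  exact hNS₁

/-- every 2-subgroup of `L` lies in a Sylow 2-subgroup of `L` (ambient form) -/
theorem exists_sylowTwoIn_ge {T L : Subgroup G} (hTL : T ≤ L) (hT2 : IsPGroup 2 T) :
    ∃ T₀ : Subgroup G, Cfsg.IsSylowTwoIn T₀ L ∧ T ≤ T₀ := by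
  have : Fact (Nat.Prime 2) := ⟨Nat.prime_two⟩
  have hT' : IsPGroup 2 (T.subgroupOf L) := hT2.comap_subtype
  obtain ⟨P, hP⟩ := hT'.exists_le_sylow
  refine ⟨(P : Subgroup ↥L).map L.subtype,
    ⟨Subgroup.map_subtype_le _, P.isPGroup'.map _, ?_⟩, ?_⟩
  · have h0 : ((P : Subgroup ↥L).map L.subtype).subgroupOf L = (P : Subgroup ↥L) := by
      ext x
      rw [Subgroup.mem_subgroupOf]
      constructor
      · rintro ⟨y, hy, hyx⟩
        have : y = x := Subtype.ext hyx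
        rwa [← this]
      · intro hx; exact ⟨x, hx, rfl⟩
    have h1 : ((P : Subgroup ↥L).map L.subtype).relIndex L = (P : Subgroup ↥L).index := by
      show (((P : Subgroup ↥L).map L.subtype).subgroupOf L).index = (P : Subgroup ↥L).index
      rw [h0]
    rw [h1, ← Nat.not_even_iff_odd, even_iff_two_dvd]
    exact P.not_dvd_index
  · intro t ht
    exact ⟨⟨t, hTL ht⟩, hP (Subgroup.mem_subgroupOf.mpr ht), rfl⟩

/-- parts 1-3 of S2948 (only the hypotheses that are used) -/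
theorem parts123 (hL : Cfsg.IsCharacteristicTwoType G) (S : Sylow 2 G) (M : Subgroup G)
    (hMJ : normalizer (Cfsg.thompsonSubgroupOf 2 (S : Subgroup G) : Set G) ≤ M)
    (T : Subgroup G) (hT : T ∈ Cfsg.maxStraddlingTwoSubgroups M)
    (L : Subgroup G) (hL2 : Cfsg.IsTwoLocal L) (hLM : ¬ L ≤ M) (T₀ : Subgroup G)
    (hT₀ : Cfsg.IsSylowTwoIn T₀ L) (hJT₀ : Cfsg.thompsonSubgroupOf 2 T ≤ T₀) :
    Cfsg.thompsonSubgroupOf 2 T = Cfsg.thompsonSubgroupOf 2 T₀ ∧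
      T₀ ∈ Cfsg.straddlingTwoSubgroups M ∧ L ∈ Cfsg.jOvergroups T₀ := by
  have : Fact (Nat.Prime 2) := ⟨Nat.prime_two⟩
  obtain ⟨hT2, hT1, hTM, -⟩ := hT.1
  have hB2 := normalizer_thompson_le S hMJ hT
  obtain ⟨hT₀L, hT₀2, hT₀odd⟩ := hT₀
  have hJT1 : Cfsg.thompsonSubgroupOf 2 T ≠ ⊥ := thompsonSubgroupOf_ne_bot hT2 hT1
  obtain ⟨T₁, hT₁def⟩ : ∃ T₁ : Subgroup G,
    T₁ = T₀ ⊓ normalizer (Cfsg.thompsonSubgroupOf 2 T : Set G) := ⟨_, rfl⟩
  have hJT₁ : Cfsg.thompsonSubgroupOf 2 T ≤ T₁ := by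
    rw [hT₁def]; exact le_inf hJT₀ le_normalizer
  have hT₁T₀ : T₁ ≤ T₀ := by rw [hT₁def]; exact inf_le_left
  have hT₁s : T₁ ∈ Cfsg.straddlingTwoSubgroups M := by
    refine ⟨hT₀2.to_le hT₁T₀, ?_, ?_, L, hL2, hT₁T₀.trans hT₀L, hLM⟩
    · intro h; apply hJT1; rw [eq_bot_iff, ← h]; exact hJT₁
    · rw [hT₁def]; exact inf_le_right.trans hB2
  obtain ⟨hJeq, -⟩ := max_props hT hT₁s hJT₁
  have hT₁eq : T₁ = T₀ := by
    by_contra hne
    obtain ⟨g, hgT₀, hgN, hgT₁⟩ :=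
      Cfsg.Agent.Helper22.exists_mem_normalizer_not_mem hT₀2 hT₁T₀ hne
    apply hgT₁
    rw [hT₁def]
    refine ⟨hgT₀, ?_⟩
    have := normalizer_le_normalizer_thompsonSubgroupOf 2 T₁ hgN
    rwa [hJeq] at this
  rw [hT₁eq] at hJeq hT₁s
  refine ⟨hJeq.symm, hT₁s, ⟨hT₀L, hT₀2, hT₀odd⟩, ?_, ?_⟩
  · -- `J(T₀)` is not inside `O₂(L)`
    intro hle
    apply hLM
    obtain ⟨TL, hTL⟩ := Cfsg.Agent.Helper10.JCompTr.exists_sylow ⟨hT₀L, hT₀2, hT₀odd⟩
    have hOT : Cfsg.pCoreOf 2 L ≤ T₀ := by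
      have h1 : Cfsg.pCore 2 ↥L ≤ (TL : Subgroup ↥L) := Cfsg.Agent.Helper54.pCore_le_sylow TL
      rw [hTL] at h1
      have := Subgroup.map_mono (f := L.subtype) h1
      rwa [Subgroup.map_subgroupOf_eq_of_le hT₀L] at this
    have h2 := thompsonSubgroupOf_eq_of_le (p := 2) hOT hle
    have h3 : L ≤ normalizer (Cfsg.thompsonSubgroupOf 2 (Cfsg.pCoreOf 2 L) : Set G) :=
      (le_normalizer_pCoreOf L).trans (normalizer_le_normalizer_thompsonSubgroupOf 2 _)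
    rw [h2, hJeq] at h3
    exact h3.trans hB2
  · -- `C_G(O₂(L)) ≤ O₂(L)`
    obtain ⟨U, hU2, hU1, rfl⟩ := hL2
    have hUO : U ≤ Cfsg.pCoreOf 2 (normalizer (U : Set G)) :=
      le_pCoreOf_of_normal_pgroup le_normalizer hU2 le_rfl
    have hchar := hL.2 U hU2 hU1
    intro x hx
    have hxL : x ∈ normalizer (U : Set G) := by
      apply centralizer_le_normalizer' U
      exact Subgroup.centralizer_le (SetLike.coe_subset_coe.mpr hUO) hx
    have hx' : (⟨x, hxL⟩ : ↥(normalizer (U : Set G))) ∈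
        centralizer (Cfsg.pCore 2 ↥(normalizer (U : Set G)) :
          Set ↥(normalizer (U : Set G))) := by
      rw [mem_centralizer_iff]
      intro y hy
      apply Subtype.ext
      exact mem_centralizer_iff.mp hx y.1 ⟨y, hy, rfl⟩
    exact ⟨⟨x, hxL⟩, hchar hx', rfl⟩

set_option linter.unusedVariables false in
/-- Parts 1-3 of S2948, with exactly the hypotheses of the S2948 template. -/
theorem straddle_parts (hL : Cfsg.IsCharacteristicTwoType G)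
    (hN : ∀ N : Subgroup G, Cfsg.IsTwoLocal N → Group.IsSolvable ↥N)
    (hZ : ∀ S : Sylow 2 G, Subgroup.centralizer (Cfsg.omegaCenterOf (S : Subgroup G) : Set G) ≤
      Subgroup.normalizer ((S : Subgroup G) : Set G)) (hO : Cfsg.pCore 2 G = ⊥) (S : Sylow 2 G)
    (M : Subgroup G) (hM : Cfsg.IsTwoLocal M)
    (hMJ : Subgroup.normalizer (Cfsg.thompsonSubgroupOf 2 (S : Subgroup G) : Set G) ≤ M)
    (T : Subgroup G) (hT : T ∈ Cfsg.maxStraddlingTwoSubgroups M)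
    (L : Subgroup G) (hL2 : Cfsg.IsTwoLocal L) (hLM : ¬ L ≤ M) (T₀ : Subgroup G)
    (hT₀ : Cfsg.IsSylowTwoIn T₀ L) (hJT₀ : Cfsg.thompsonSubgroupOf 2 T ≤ T₀) :
    Cfsg.thompsonSubgroupOf 2 T = Cfsg.thompsonSubgroupOf 2 T₀ ∧
      T₀ ∈ Cfsg.straddlingTwoSubgroups M ∧ L ∈ Cfsg.jOvergroups T₀ ∧
      (T ≤ L → L ∈ Cfsg.jOvergroups T) := by
  obtain ⟨h1, h2, h3⟩ := parts123 hL S M hMJ T hT L hL2 hLM T₀ hT₀ hJT₀
  refine ⟨h1, h2, h3, fun hTL => ?_⟩
  obtain ⟨T', hT', hTT'⟩ := exists_sylowTwoIn_ge hTL hT.1.1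
  have hJT' := (Cfsg.Agent.Helper10.thompsonSubgroupOf_le (p := 2) T).trans hTT'
  obtain ⟨-, h5, h6⟩ := parts123 hL S M hMJ T hT L hL2 hLM T' hT' hJT'
  obtain ⟨-, hcard⟩ := max_props hT h5 hJT'
  have hTeq : T = T' := Subgroup.eq_of_le_of_card_ge hTT' hcard
  rw [hTeq]; exact h6

end Cfsg.Agent.Helper49.JStraddle
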