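import Mathlib
import Cfsg.Prelude.Def_JComponents
import Cfsg.Agent.Lib.Helper49.JStraddle
import Cfsg.Agent.Lib.Helper49.JConj
import Cfsg.Agent.Lib.Helper10.JCompNormTr
import Cfsg.Agent.S2942

/-!
# Uniqueness of the maximal 2-local subgroup containing `⟨K, J(T)⟩` (KS 12.3.3)

Global assembly.  For a maximal 2-local subgroup `L` containing `⟨K, J(T)⟩` the subgroup `W(L)`
generated by the four-groups `W_{K'}` of all `J(T)`-components `K' ≤ L` is a nontrivial normal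
2-subgroup of `L`, so `L = N_G(W(L))`; and `W(L)` does not depend on `L`.
-/

set_option autoImplicit false

namespace Cfsg.Agent.Helper49.JUnique

open Subgroup
open Cfsg.Agent.Helper23 (cj mem_cj cj_mono cj_cj cj_one cj_eq_of_mem_normalizer
  pCoreOf_isPGroup le_normalizer_pCoreOf)
open Cfsg.Agent.Helper49.JConj (isJComponent_congr isJComponent_cj_of_mem_normalizer wOf_cj
  sup_le_normalizer_wOf wOf_props)
open Cfsg.Agent.Helper49.JStraddle (parts123 straddle_parts exists_sylowTwoIn_ge)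
open Cfsg.Agent.Helper50.JComp (le_normalizer_sSup')

variable {G : Type*} [Group G] [Finite G]

/-- the four-groups of the `J(T)`-components contained in `L` -/
def wSet (T L : Subgroup G) : Set (Subgroup G) :=
  {W | ∃ K' : Subgroup G, Cfsg.IsJComponent T K' ∧ K' ≤ L ∧ W = Cfsg.wOf K'}

/-- the subgroup `W(L)` -/
def WW (T L : Subgroup G) : Subgroup G := sSup (wSet T L)

/-- every 2-local subgroup lies in a maximal 2-local subgroup -/
theorem exists_maximal_ge {N : Subgroup G} (hN : Cfsg.IsTwoLocal N) :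
    ∃ L : Subgroup G, Cfsg.IsMaximalTwoLocal L ∧ N ≤ L := by
  classical
  have : Nonempty {L : Subgroup G // Cfsg.IsTwoLocal L ∧ N ≤ L} := ⟨⟨N, hN, le_rfl⟩⟩
  obtain ⟨L, hLmax⟩ :=
    Finite.exists_max (fun L : {L : Subgroup G // Cfsg.IsTwoLocal L ∧ N ≤ L} => Nat.card L.1)
  refine ⟨L.1, ⟨L.2.1, ?_⟩, L.2.2⟩
  intro N' hN' hLN'
  have h1 := hLmax ⟨N', hN', L.2.2.trans hLN'⟩
  exact (Subgroup.eq_of_le_of_card_ge hLN' h1).symm

section setup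

variable (hL : Cfsg.IsCharacteristicTwoType G)
  (hN : ∀ N : Subgroup G, Cfsg.IsTwoLocal N → Group.IsSolvable ↥N)
  (hZ : ∀ S : Sylow 2 G, Subgroup.centralizer (Cfsg.omegaCenterOf (S : Subgroup G) : Set G) ≤
    Subgroup.normalizer ((S : Subgroup G) : Set G))
  (S : Sylow 2 G) {M : Subgroup G}
  (hMJ : Subgroup.normalizer (Cfsg.thompsonSubgroupOf 2 (S : Subgroup G) : Set G) ≤ M)
  {T : Subgroup G} (hT : T ∈ Cfsg.maxStraddlingTwoSubgroups M)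

include hL S hMJ hT in
/-- a Sylow 2-subgroup `T_L` of `L` over `J(T)`, with `L` in the family attached to it -/
theorem exists_TL {L : Subgroup G} (hL2 : Cfsg.IsTwoLocal L) (hLM : ¬ L ≤ M)
    (hJL : Cfsg.thompsonSubgroupOf 2 T ≤ L) :
    ∃ TL : Subgroup G, TL ≠ ⊥ ∧ L ∈ Cfsg.jOvergroups TL ∧
      Cfsg.thompsonSubgroupOf 2 T = Cfsg.thompsonSubgroupOf 2 TL := by
  have hT2 : IsPGroup 2 ↥T := hT.1.1
  have hJ2 : IsPGroup 2 ↥(Cfsg.thompsonSubgroupOf 2 T) :=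
    hT2.to_le (Cfsg.Agent.Helper10.thompsonSubgroupOf_le T)
  obtain ⟨TL, hTL, hJTL⟩ := exists_sylowTwoIn_ge hJL hJ2
  obtain ⟨h1, h2, h3⟩ := parts123 hL S M hMJ T hT L hL2 hLM TL hTL hJTL
  exact ⟨TL, h2.2.1, h3, h1⟩

include hL S hMJ hT in
/-- a 2-local subgroup not inside `M` that contains `T` belongs to the family attached to `T` -/
theorem mem_jOvergroups_of_le {L : Subgroup G} (hL2 : Cfsg.IsTwoLocal L) (hLM : ¬ L ≤ M)
    (hTL : T ≤ L) : L ∈ Cfsg.jOvergroups T := by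
  obtain ⟨T', hT', hTT'⟩ := exists_sylowTwoIn_ge hTL hT.1.1
  have hJT' := (Cfsg.Agent.Helper10.thompsonSubgroupOf_le (p := 2) T).trans hTT'
  obtain ⟨-, h5, h6⟩ := parts123 hL S M hMJ T hT L hL2 hLM T' hT' hJT'
  obtain ⟨-, hcard⟩ := Cfsg.Agent.Helper49.JStraddle.max_props hT h5 hJT'
  have hTeq : T = T' := Subgroup.eq_of_le_of_card_ge hTT' hcard
  rw [hTeq]; exact h6

include hL hN hZ S hMJ hT in
/-- `J(T)`-components contained in a 2-local subgroup normalize each other's four-groups -/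
theorem normalizes_wOf {L : Subgroup G} (hL2 : Cfsg.IsTwoLocal L) (hLM : ¬ L ≤ M)
    (hJL : Cfsg.thompsonSubgroupOf 2 T ≤ L) {K₁ K₂ : Subgroup G}
    (h₁ : Cfsg.IsJComponent T K₁) (h₁L : K₁ ≤ L) (h₂ : Cfsg.IsJComponent T K₂) (h₂L : K₂ ≤ L) :
    K₁ ≤ normalizer (Cfsg.wOf K₂ : Set G) := by
  obtain ⟨TL, hTL1, hLTL, hJeq⟩ := exists_TL hL S hMJ hT hL2 hLM hJL
  exact Cfsg.Agent.Helper10.JCompNorm.comp_normalizes_wOf hN hZ hTL1 hLTL
    ((isJComponent_congr hJeq).mp h₁) h₁L ((isJComponent_congr hJeq).mp h₂) h₂L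

include hL hN hZ S hMJ hT in
/-- `W(L) ≤ O₂(L)` -/
theorem WW_le_pCoreOf {L : Subgroup G} (hL2 : Cfsg.IsTwoLocal L) (hLM : ¬ L ≤ M)
    (hJL : Cfsg.thompsonSubgroupOf 2 T ≤ L) : WW T L ≤ Cfsg.pCoreOf 2 L := by
  obtain ⟨TL, hTL1, hLTL, hJeq⟩ := exists_TL hL S hMJ hT hL2 hLM hJL
  apply sSup_le
  rintro W ⟨K', hK', hK'L, rfl⟩
  exact Cfsg.Agent.Helper10.JCompNorm.wOf_le_pCoreOf hN hZ hTL1 hLTL
    ((isJComponent_congr hJeq).mp hK') hK'L

include hL hN hZ S hMJ hT in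
/-- `L` normalizes `W(L)` -/
theorem le_normalizer_WW {L : Subgroup G} (hL2 : Cfsg.IsTwoLocal L) (hLM : ¬ L ≤ M)
    (hJL : Cfsg.thompsonSubgroupOf 2 T ≤ L) : L ≤ normalizer (WW T L : Set G) := by
  obtain ⟨TL, hTL1, hLTL, hJeq⟩ := exists_TL hL S hMJ hT hL2 hLM hJL
  obtain ⟨N₀, -, hfac, hN₀⟩ := Cfsg.Agent.Helper10.JCompNorm.exists_factor hN hZ hTL1 hLTL
  apply le_normalizer_sSup'
  rintro x hx W ⟨K', hK', hK'L, rfl⟩
  obtain ⟨n, hn, m, hm, rfl⟩ := hfac x hx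
  obtain ⟨hmL, hmJ⟩ := Subgroup.mem_inf.mp hm
  rw [← hJeq] at hmJ
  -- the conjugate component
  have hK'' : Cfsg.IsJComponent T (cj K' m) := isJComponent_cj_of_mem_normalizer hK' hmJ
  have hK''L : cj K' m ≤ L := by
    intro y hy
    rw [mem_cj] at hy
    have h1 := L.mul_mem (L.mul_mem hmL (hK'L hy)) (L.inv_mem hmL)
    have h2 : m * (m⁻¹ * y * m) * m⁻¹ = y := by group
    rwa [h2] at h1
  have hn' : n ∈ normalizer (Cfsg.wOf (cj K' m) : Set G) :=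
    hN₀ _ ((isJComponent_congr hJeq).mp hK'') hK''L hn
  have e : (Cfsg.wOf K').map (MulAut.conj (n * m)).toMonoidHom = Cfsg.wOf (cj K' m) := by
    have h1 : cj (Cfsg.wOf K') (n * m) = cj (cj (Cfsg.wOf K') m) n := (cj_cj _ m n).symm
    have h2 : cj (cj (Cfsg.wOf K') m) n = Cfsg.wOf (cj K' m) := by
      rw [← wOf_cj]
      exact cj_eq_of_mem_normalizer hn'
    exact h1.trans h2
  rw [e]
  exact ⟨cj K' m, hK'', hK''L, rfl⟩

include hL hN hZ S hMJ hT in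
/-- a maximal 2-local subgroup containing a `J(T)`-component and `J(T)` is `N_G(W(L))` -/
theorem eq_normalizer_WW {L : Subgroup G} (hLmax : Cfsg.IsMaximalTwoLocal L) (hLM : ¬ L ≤ M)
    (hJL : Cfsg.thompsonSubgroupOf 2 T ≤ L) {K : Subgroup G} (hK : Cfsg.IsJComponent T K)
    (hKL : K ≤ L) : normalizer (WW T L : Set G) = L := by
  have : Fact (Nat.Prime 2) := ⟨Nat.prime_two⟩
  have h1 := WW_le_pCoreOf hL hN hZ S hMJ hT hLmax.1 hLM hJL
  have h2 : IsPGroup 2 ↥(WW T L) := (pCoreOf_isPGroup L).to_le h1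
  have h3 : WW T L ≠ ⊥ := by
    intro hbot
    apply (wOf_props hK).2
    rw [eq_bot_iff, ← hbot]
    exact le_sSup ⟨K, hK, hKL, rfl⟩
  exact hLmax.2 _ ⟨WW T L, h2, h3, rfl⟩ (le_normalizer_WW hL hN hZ S hMJ hT hLmax.1 hLM hJL)

include hL hN hZ S hMJ hT in
/-- if every `J(T)`-component of `L` lies in `L'` then `L = L'` -/
theorem eq_of_comps_subset {L L' : Subgroup G} (hLmax : Cfsg.IsMaximalTwoLocal L)
    (hL'max : Cfsg.IsMaximalTwoLocal L') (hLM : ¬ L ≤ M) (hL'M : ¬ L' ≤ M)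
    (hJL : Cfsg.thompsonSubgroupOf 2 T ≤ L) (hJL' : Cfsg.thompsonSubgroupOf 2 T ≤ L')
    {K : Subgroup G} (hK : Cfsg.IsJComponent T K) (hKL : K ≤ L) (hKL' : K ≤ L')
    (hsub : ∀ K' : Subgroup G, Cfsg.IsJComponent T K' → K' ≤ L → K' ≤ L') : L = L' := by
  have hE := eq_normalizer_WW hL hN hZ S hMJ hT hLmax hLM hJL hK hKL
  have hE' := eq_normalizer_WW hL hN hZ S hMJ hT hL'max hL'M hJL' hK hKL'
  -- every component of `L'` lies in `L`
  have hsub' : ∀ K'' : Subgroup G, Cfsg.IsJComponent T K'' → K'' ≤ L' → K'' ≤ L := by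
    intro K'' hK'' hK''L'
    rw [← hE]
    unfold WW
    apply le_normalizer_sSup'
    rintro x hx W ⟨K', hK', hK'L, rfl⟩
    have h1 := normalizes_wOf hL hN hZ S hMJ hT hL'max.1 hL'M hJL' hK'' hK''L' hK'
      (hsub K' hK' hK'L) hx
    have h2 : (Cfsg.wOf K').map (MulAut.conj x).toMonoidHom = Cfsg.wOf K' :=
      cj_eq_of_mem_normalizer h1
    rw [h2]
    exact ⟨K', hK', hK'L, rfl⟩
  have hset : wSet T L = wSet T L' := by
    ext W
    constructor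
    · rintro ⟨K', hK', hK'L, rfl⟩
      exact ⟨K', hK', hsub K' hK' hK'L, rfl⟩
    · rintro ⟨K', hK', hK'L', rfl⟩
      exact ⟨K', hK', hsub' K' hK' hK'L', rfl⟩
  have hWW : WW T L = WW T L' := by unfold WW; rw [hset]
  rw [← hE, ← hE', hWW]

include hL hN hZ S hMJ hT in
/-- **KS 12.3.3.** -/
theorem unique_maximal {K : Subgroup G} (hK : K ∈ Cfsg.jComponentsOutside M T) :
    ∃ L : Subgroup G, Cfsg.IsMaximalTwoLocal L ∧ K ⊔ Cfsg.thompsonSubgroupOf 2 T ≤ L ∧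
      (∀ L' : Subgroup G, Cfsg.IsMaximalTwoLocal L' → K ⊔ Cfsg.thompsonSubgroupOf 2 T ≤ L' →
        L' = L) ∧
      (K.subgroupOf L).IsSubnormal ∧ Cfsg.IsSylowTwoIn T L := by
  have : Fact (Nat.Prime 2) := ⟨Nat.prime_two⟩
  obtain ⟨⟨hKJ, -⟩, hKM, hD1⟩ := hK
  have hT2 : IsPGroup 2 ↥T := hT.1.1
  have hT1 : T ≠ ⊥ := hT.1.2.1
  have hJT : Cfsg.thompsonSubgroupOf 2 T ≤ T := Cfsg.Agent.Helper10.thompsonSubgroupOf_le T
  -- the reference maximal 2-local subgroup `L₂`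
  have hW := wOf_props hKJ
  obtain ⟨L₂, hL₂max, hNL₂⟩ := exists_maximal_ge (G := G) ⟨Cfsg.wOf K, hW.1, hW.2, rfl⟩
  have hKJL₂ : K ⊔ Cfsg.thompsonSubgroupOf 2 T ≤ L₂ := (sup_le_normalizer_wOf hKJ hT2).trans hNL₂
  have hnotM : ∀ L : Subgroup G, K ≤ L → ¬ L ≤ M := fun L hKL hLM => hKM (hKL.trans hLM)
  have key : ∀ L : Subgroup G, Cfsg.IsMaximalTwoLocal L →
      K ⊔ Cfsg.thompsonSubgroupOf 2 T ≤ L → L = L₂ := by
    intro L hLmax hKJL
    have hKL : K ≤ L := le_sup_left.trans hKJL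
    have hJL : Cfsg.thompsonSubgroupOf 2 T ≤ L := le_sup_right.trans hKJL
    apply eq_of_comps_subset hL hN hZ S hMJ hT hLmax hL₂max (hnotM L hKL)
      (hnotM L₂ (le_sup_left.trans hKJL₂)) hJL (le_sup_right.trans hKJL₂) hKJ hKL
      (le_sup_left.trans hKJL₂)
    intro K' hK' hK'L
    exact (normalizes_wOf hL hN hZ S hMJ hT hLmax.1 (hnotM L hKL) hJL hK' hK'L hKJ hKL).trans hNL₂
  -- existence
  have hD2 : IsPGroup 2 ↥(Cfsg.pCoreOf 2 (K ⊔ T)) := pCoreOf_isPGroup _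
  obtain ⟨L₁, hL₁max, hNL₁⟩ :=
    exists_maximal_ge (G := G) ⟨Cfsg.pCoreOf 2 (K ⊔ T), hD2, hD1, rfl⟩
  have hKTL₁ : K ⊔ T ≤ L₁ := (le_normalizer_pCoreOf (K ⊔ T)).trans hNL₁
  have hKL₁ : K ≤ L₁ := le_sup_left.trans hKTL₁
  have hTL₁ : T ≤ L₁ := le_sup_right.trans hKTL₁
  have hKJL₁ : K ⊔ Cfsg.thompsonSubgroupOf 2 T ≤ L₁ := sup_le hKL₁ (hJT.trans hTL₁)
  have hL₁T : L₁ ∈ Cfsg.jOvergroups T :=
    mem_jOvergroups_of_le hL S hMJ hT hL₁max.1 (hnotM L₁ hKL₁) hTL₁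
  refine ⟨L₁, hL₁max, hKJL₁, ?_, ?_, hL₁T.1⟩
  · intro L' hL'max hKJL'
    rw [key L' hL'max hKJL', key L₁ hL₁max hKJL₁]
  · exact Cfsg.Agent.S2942.result hL hN hZ T hT2 hT1 L₁ hL₁T K hKJ hKL₁

end setup

end Cfsg.Agent.Helper49.JUnique
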