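import Cfsg.Agent.Lib.Helper92.MultAbs10

/-!
M12-C for helper92's S2035 lemma server: if no finite stem extension of `G` has a kernel of odd prime
order or of order four, the kernel of every finite stem extension is a quotient of `Z/2`.
-/

set_option autoImplicit false

namespace Cfsg.Agent.Helper49.M12Mult

open Cfsg.Agent.Helper92.Mult

universe u

theorem card_eq_card_mul_card_ker {Γ G : Type*} [Group Γ] [Group G] [Finite Γ] (σ : Γ →* G)
    (hs : Function.Surjective σ) : Nat.card Γ = Nat.card G * Nat.card σ.ker := by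
  rw [Subgroup.card_eq_card_quotient_mul_card_subgroup σ.ker,
    Nat.card_congr (QuotientGroup.quotientKerEquivOfSurjective σ hs).toEquiv]

theorem card_ker_lift {Γ G : Type*} [Group Γ] [Group G] [Finite Γ] (σ : Γ →* G)
    (hs : Function.Surjective σ) (Z₀ : Subgroup Γ) [Z₀.Normal] (hZ : Z₀ ≤ σ.ker) :
    Nat.card σ.ker = Nat.card Z₀ * Nat.card (QuotientGroup.lift Z₀ σ hZ).ker := by
  have h1 := card_eq_card_mul_card_ker σ hs
  have hs' : Function.Surjective (QuotientGroup.lift Z₀ σ hZ) := by
    intro g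
    obtain ⟨γ, rfl⟩ := hs g
    exact ⟨QuotientGroup.mk γ, rfl⟩
  have h2 := card_eq_card_mul_card_ker (QuotientGroup.lift Z₀ σ hZ) hs'
  have h3 := Subgroup.card_eq_card_quotient_mul_card_subgroup Z₀
  have : Finite G := Finite.of_surjective σ hs
  have hG : 0 < Nat.card G := Nat.card_pos
  apply Nat.eq_of_mul_eq_mul_left hG
  rw [← h1, h3, h2]
  ring

theorem normal_of_le_center' {Γ : Type*} [Group Γ] (W : Subgroup Γ)
    (h : W ≤ Subgroup.center Γ) : W.Normal := by
  constructor
  intro w hw g
  have hwc := Subgroup.mem_center_iff.1 (h hw) g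
  rw [hwc, mul_inv_cancel_right]
  exact hw

theorem card_ker_le_two {G : Type u} [Group G] [Finite G]
    (hodd : ∀ (Γ : Type u) [Group Γ] [Finite Γ] (σ : Γ →* G) (z : Γ) (p : ℕ), p.Prime → p ≠ 2 →
      Function.Surjective σ → σ.ker = Subgroup.zpowers z → orderOf z = p →
      (∀ g : Γ, g * z = z * g) → z ∈ commutator Γ → False)
    (hfour : ∀ (Γ : Type u) [Group Γ] [Finite Γ] (σ : Γ →* G), Cfsg.IsStemExtension σ →
      Nat.card σ.ker = 4 → False) :
    ∀ (n : ℕ) (Γ : Type u) [Group Γ] [Finite Γ] (σ : Γ →* G),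
      Cfsg.IsStemExtension σ → Nat.card Γ = n → Nat.card σ.ker ≤ 2 := by
  intro n
  induction n using Nat.strong_induction_on with
  | _ n ih =>
    intro Γ _ _ σ hσ hn
    by_contra hgt
    have hgt' : 3 ≤ Nat.card σ.ker := by omega
    have hne' : σ.ker ≠ ⊥ := by
      intro e
      rw [e, Subgroup.card_bot] at hgt'
      omega
    rw [Subgroup.ne_bot_iff_exists_ne_one] at hne'
    obtain ⟨⟨k, hk⟩, hk1⟩ := hne'
    have hk1' : k ≠ 1 := fun e => hk1 (Subtype.ext e)
    have hord1 : orderOf k ≠ 1 := fun e => hk1' (orderOf_eq_one_iff.1 e)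
    have hord0 : orderOf k ≠ 0 := (orderOf_pos k).ne'
    have hp : (orderOf k).minFac.Prime := Nat.minFac_prime hord1
    have hpd : (orderOf k).minFac ∣ orderOf k := Nat.minFac_dvd _
    have hz : orderOf (k ^ (orderOf k / (orderOf k).minFac)) = (orderOf k).minFac :=
      orderOf_pow_orderOf_div hord0 hpd
    generalize hzdef : k ^ (orderOf k / (orderOf k).minFac) = z at hz
    generalize (orderOf k).minFac = p at hp hz
    have hzk : z ∈ σ.ker := by rw [← hzdef]; exact Subgroup.pow_mem _ hk _
    obtain ⟨hsurj, hcen, hcomm⟩ := hσ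
    have hzc : ∀ g : Γ, g * z = z * g := fun g => Subgroup.mem_center_iff.1 (hcen hzk) g
    have hZ : Subgroup.zpowers z ≤ σ.ker := by
      rw [Subgroup.zpowers_le]; exact hzk
    have hnorm : (Subgroup.zpowers z).Normal := normal_of_le_center' _ (hZ.trans hcen)
    have hstem := stem_quotient σ ⟨hsurj, hcen, hcomm⟩ (Subgroup.zpowers z) hZ
    have hcard := Subgroup.card_eq_card_quotient_mul_card_subgroup (Subgroup.zpowers z)
    rw [Nat.card_zpowers, hz, hn] at hcard
    have hpos : 0 < Nat.card (Γ ⧸ Subgroup.zpowers z) := Nat.card_pos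
    have hp2 := hp.two_le
    have hlt : Nat.card (Γ ⧸ Subgroup.zpowers z) < n := by
      rw [hcard]
      nlinarith
    have hle := ih _ hlt (Γ ⧸ Subgroup.zpowers z) _ hstem rfl
    have hck := card_ker_lift σ hsurj (Subgroup.zpowers z) hZ
    rw [Nat.card_zpowers, hz] at hck
    have hpos' : 0 < Nat.card (QuotientGroup.lift (Subgroup.zpowers z) σ hZ).ker := Nat.card_pos
    obtain hc1 | hc2 : Nat.card (QuotientGroup.lift (Subgroup.zpowers z) σ hZ).ker = 1 ∨
        Nat.card (QuotientGroup.lift (Subgroup.zpowers z) σ hZ).ker = 2 := by omega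
    · -- the kernel has order `p`, an odd prime
      rw [hc1, mul_one] at hck
      have hker : σ.ker = Subgroup.zpowers z :=
        (Subgroup.eq_of_le_of_card_ge hZ (by rw [Nat.card_zpowers, hz]; omega)).symm
      exact hodd Γ σ z p hp (by omega) hsurj hker hz hzc (hcomm hzk)
    · rw [hc2] at hck
      by_cases hp2' : p = 2
      · exact hfour Γ σ ⟨hsurj, hcen, hcomm⟩ (by rw [hck, hp2'])
      · -- the kernel has order `2 * p`, `p` odd: divide out an element of order two
        have : Fact (Nat.Prime 2) := ⟨Nat.prime_two⟩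
        have h2dvd : 2 ∣ Nat.card σ.ker := by rw [hck]; exact Dvd.intro_left p rfl
        obtain ⟨⟨w, hwk⟩, hw⟩ := exists_prime_orderOf_dvd_card' (G := σ.ker) 2 h2dvd
        rw [Subgroup.orderOf_mk] at hw
        have hW : Subgroup.zpowers w ≤ σ.ker := by
          rw [Subgroup.zpowers_le]; exact hwk
        have hnormW : (Subgroup.zpowers w).Normal := normal_of_le_center' _ (hW.trans hcen)
        have hstemW := stem_quotient σ ⟨hsurj, hcen, hcomm⟩ (Subgroup.zpowers w) hW
        have hckW := card_ker_lift σ hsurj (Subgroup.zpowers w) hW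
        rw [Nat.card_zpowers, hw, hck] at hckW
        have hcardW : Nat.card (QuotientGroup.lift (Subgroup.zpowers w) σ hW).ker = p := by
          omega
        have : Fact p.Prime := ⟨hp⟩
        have hzp : z ^ p = 1 := by rw [← hz]; exact pow_orderOf_eq_one z
        have hz'1 : (QuotientGroup.mk z : Γ ⧸ Subgroup.zpowers w) ≠ 1 := by
          intro e
          rw [QuotientGroup.eq_one_iff] at e
          have hd := orderOf_dvd_of_mem_zpowers e
          rw [hz, hw] at hd
          have := Nat.le_of_dvd (by norm_num) hd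
          omega
        have hz'p : (QuotientGroup.mk z : Γ ⧸ Subgroup.zpowers w) ^ p = 1 := by
          rw [← QuotientGroup.mk_pow, hzp]
          rfl
        have hordz' : orderOf (QuotientGroup.mk z : Γ ⧸ Subgroup.zpowers w) = p :=
          orderOf_eq_prime hz'p hz'1
        have hz'k : (QuotientGroup.mk z : Γ ⧸ Subgroup.zpowers w) ∈
            (QuotientGroup.lift (Subgroup.zpowers w) σ hW).ker := by
          rw [MonoidHom.mem_ker]
          exact MonoidHom.mem_ker.1 hzk
        have hZ' : Subgroup.zpowers (QuotientGroup.mk z : Γ ⧸ Subgroup.zpowers w) ≤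
            (QuotientGroup.lift (Subgroup.zpowers w) σ hW).ker := by
          rw [Subgroup.zpowers_le]; exact hz'k
        have hker' : (QuotientGroup.lift (Subgroup.zpowers w) σ hW).ker =
            Subgroup.zpowers (QuotientGroup.mk z : Γ ⧸ Subgroup.zpowers w) :=
          (Subgroup.eq_of_le_of_card_ge hZ' (by rw [Nat.card_zpowers, hordz', hcardW])).symm
        have hz'c : ∀ g : Γ ⧸ Subgroup.zpowers w,
            g * (QuotientGroup.mk z : Γ ⧸ Subgroup.zpowers w) = QuotientGroup.mk z * g := by
          intro g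
          obtain ⟨γ, rfl⟩ := QuotientGroup.mk_surjective g
          rw [← QuotientGroup.mk_mul, ← QuotientGroup.mk_mul, hzc γ]
        exact hodd (Γ ⧸ Subgroup.zpowers w) (QuotientGroup.lift (Subgroup.zpowers w) σ hW)
          (QuotientGroup.mk z) p hp hp2' hstemW.1 hker' hordz' hz'c (hstemW.2.2 hz'k)

/-- (C) If no finite stem extension of `G` has a kernel of odd prime order or of order four, the
kernel of every finite stem extension is a quotient of `Z/2`. -/
theorem exists_surj_zmod_two {G : Type u} [Group G] [Finite G]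
    (hodd : ∀ (Γ : Type u) [Group Γ] [Finite Γ] (σ : Γ →* G) (z : Γ) (p : ℕ), p.Prime → p ≠ 2 →
      Function.Surjective σ → σ.ker = Subgroup.zpowers z → orderOf z = p →
      (∀ g : Γ, g * z = z * g) → z ∈ commutator Γ → False)
    (hfour : ∀ (Γ : Type u) [Group Γ] [Finite Γ] (σ : Γ →* G), Cfsg.IsStemExtension σ →
      Nat.card σ.ker = 4 → False) :
    ∀ (Γ : Type u) [Group Γ] [Finite Γ] (σ : Γ →* G), Cfsg.IsStemExtension σ →
      ∃ π : Multiplicative (ZMod 2) →* σ.ker, Function.Surjective π := by
  intro Γ _ _ σ hσ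
  have hle := card_ker_le_two hodd hfour _ Γ σ hσ rfl
  have hpos : 0 < Nat.card σ.ker := Nat.card_pos
  obtain h1 | h2 : Nat.card σ.ker = 1 ∨ Nat.card σ.ker = 2 := by omega
  · refine ⟨1, ?_⟩
    intro y
    refine ⟨1, ?_⟩
    have : Subsingleton σ.ker := (Nat.card_eq_one_iff_unique.1 h1).1
    exact Subsingleton.elim _ _
  · haveI : Fact (Nat.Prime 2) := ⟨Nat.prime_two⟩
    have hc : Nat.card (Multiplicative (ZMod 2)) = 2 := by
      rw [Nat.card_congr Multiplicative.toAdd, Nat.card_zmod]
    exact ⟨(mulEquivOfPrimeCardEq hc h2).toMonoidHom, (mulEquivOfPrimeCardEq hc h2).surjective⟩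

end Cfsg.Agent.Helper49.M12Mult
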