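import Mathlib
import Cfsg.Prelude.Def_OddOrderLocal
import Cfsg.Agent.Lib.Helper53.MC3Defs

/-!
Piece (A7) `omData_of_parts` of helper53's server MC3 (S4079): assembly of `OmData`.
-/

set_option autoImplicit false

namespace Cfsg.Agent.Helper49.MC3

open Cfsg.Agent.Helper53.MC3
open Subgroup

universe u

section A
variable {L : Type u} [Group L] [Finite L] {p : ℕ} [Fact p.Prime]

theorem omData_of_parts {c : L}
    (h1 : ∀ x y : L, x ^ p = 1 → y ^ p = 1 → (x * y) ^ p = 1 ∧ x * y = y * x)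
    (hc1 : Nat.card {x : L // x ^ p = 1} = p ^ 2)
    (hreg : ∀ x y : L, ∃ k : ℕ, (x * y) ^ p = x ^ p * y ^ p * ((y * x * y⁻¹ * x⁻¹) ^ p) ^ k)
    (hcp : ∀ x y : L, (x * y * x⁻¹ * y⁻¹) ^ p = 1 → x * y ^ p = y ^ p * x)
    (h2 : ∀ x y : L, x ^ p ^ 2 = 1 → y ^ p ^ 2 = 1 → (x * y) ^ p ^ 2 = 1)
    (hc2 : Nat.card {x : L // x ^ p ^ 2 = 1} = p ^ 4)
    (hq2 : ∀ x y : L, x ^ p ^ 2 = 1 → y ^ p ^ 2 = 1 → (y * x * y⁻¹ * x⁻¹) ^ p = 1)
    (hcyc : ∀ x y : L, x * y * x⁻¹ * y⁻¹ ∈ Subgroup.zpowers c) : OmData p L := by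
  classical
  have hp : p.Prime := Fact.out
  have hinv2 : ∀ y : L, y ^ p ^ 2 = 1 → (y⁻¹) ^ p ^ 2 = 1 := by
    intro y hy; rw [inv_pow, hy, inv_one]
  have hpm : ∀ x y : L, x ^ p ^ 2 = 1 → y ^ p ^ 2 = 1 → (x * y) ^ p = x ^ p * y ^ p := by
    intro x y hx hy
    obtain ⟨k, hk⟩ := hreg x y
    rw [hk, hq2 x y hx hy, one_pow, mul_one]
  have hpp : ∀ x : L, (x ^ p) ^ p = x ^ p ^ 2 := by
    intro x; rw [← pow_mul, ← pow_two]
  -- surjectivity of the p-power map Ω₂ → Ω₁ by counting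
  have hsurj : ∀ w : L, w ^ p = 1 → ∃ y : L, y ^ p = w := by
    by_contra hne
    push Not at hne
    obtain ⟨w₀, hw₀, hw₀'⟩ := hne
    letI : Fintype L := Fintype.ofFinite L
    set Ω₁ : Finset L := Finset.univ.filter (fun x => x ^ p = 1) with hΩ₁
    set Ω₂ : Finset L := Finset.univ.filter (fun x => x ^ p ^ 2 = 1) with hΩ₂
    have hcard1 : Ω₁.card = p ^ 2 := by
      rw [← hc1, Nat.card_eq_fintype_card, Fintype.card_subtype]
    have hcard2 : Ω₂.card = p ^ 4 := by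
      rw [← hc2, Nat.card_eq_fintype_card, Fintype.card_subtype]
    have hfib : ∀ a ∈ Ω₂.image (fun x => x ^ p),
        (Ω₂.filter (fun x => x ^ p = a)).card ≤ p ^ 2 := by
      intro a ha
      obtain ⟨y₀, hy₀, rfl⟩ := Finset.mem_image.mp ha
      have hy₀2 : y₀ ^ p ^ 2 = 1 := (Finset.mem_filter.mp hy₀).2
      rw [← hcard1]
      apply Finset.card_le_card_of_injOn (fun x => x * y₀⁻¹)
      · intro x hx
        have hx' := Finset.mem_filter.mp (Finset.mem_coe.mp hx)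
        have hx2 : x ^ p ^ 2 = 1 := (Finset.mem_filter.mp hx'.1).2
        have hxp : x ^ p = y₀ ^ p := hx'.2
        apply Finset.mem_coe.mpr
        apply Finset.mem_filter.mpr
        refine ⟨Finset.mem_univ _, ?_⟩
        show (x * y₀⁻¹) ^ p = 1
        rw [hpm x y₀⁻¹ hx2 (hinv2 y₀ hy₀2), hxp, inv_pow, mul_inv_cancel]
      · intro x _ y _ hxy
        exact mul_right_cancel hxy
    have hle := Finset.card_le_mul_card_image Ω₂ (p ^ 2) hfib
    have himg : Ω₂.image (fun x => x ^ p) ⊆ Ω₁.erase w₀ := by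
      intro a ha
      obtain ⟨y₀, hy₀, rfl⟩ := Finset.mem_image.mp ha
      have hy₀2 : y₀ ^ p ^ 2 = 1 := (Finset.mem_filter.mp hy₀).2
      apply Finset.mem_erase.mpr
      refine ⟨hw₀' y₀, ?_⟩
      apply Finset.mem_filter.mpr
      exact ⟨Finset.mem_univ _, by rw [hpp]; exact hy₀2⟩
    have hw₀mem : w₀ ∈ Ω₁ := Finset.mem_filter.mpr ⟨Finset.mem_univ _, hw₀⟩
    have hlt : (Ω₂.image (fun x => x ^ p)).card ≤ p ^ 2 - 1 := by
      have := Finset.card_le_card himg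
      rw [Finset.card_erase_of_mem hw₀mem, hcard1] at this
      exact this
    rw [hcard2] at hle
    have hp2 : 1 ≤ p ^ 2 := Nat.one_le_pow _ _ hp.pos
    have h4 : p ^ 4 = p ^ 2 * p ^ 2 := by ring
    have : p ^ 2 * (Ω₂.image (fun x => x ^ p)).card ≤ p ^ 2 * (p ^ 2 - 1) :=
      Nat.mul_le_mul_left _ hlt
    have h5 : p ^ 2 * (p ^ 2 - 1) < p ^ 2 * p ^ 2 := by
      apply Nat.mul_lt_mul_of_pos_left
      · omega
      · omega
    omega
  refine
    { mul1 := fun x y hx hy => (h1 x y hx hy).1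
      card1 := hc1
      mul2 := h2
      card2 := hc2
      central := ?_
      pow_mul := hpm
      surj := hsurj
      comm_cyc := ⟨c, hcyc⟩ }
  intro w y hw hy
  obtain ⟨g, hg⟩ := hsurj w hw
  have hg2 : g ^ p ^ 2 = 1 := by rw [← hpp, hg, hw]
  have hc := hq2 g y hg2 hy
  have := hcp y g hc
  rw [hg] at this
  exact this.symm

end A

end Cfsg.Agent.Helper49.MC3
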