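import Mathlib
import Cfsg.Prelude.Def_Blocks
import Cfsg.Agent.Lib.Helper55.O2520Defs

/-!
# O2520 lemma server (row S0984), piece (SUMU) `sum_U` - helper49
-/

set_option autoImplicit false

namespace Cfsg.Agent.Helper49.O2520

open Cfsg Cfsg.Agent.Helper55.O2520
open scoped Classical

universe u

section sums
variable {G : Type u} [Group G] [Fintype G] (P : Subgroup G) (u w : G) (hc : Config P u w)
  (χ : G → ℂ) (hcl : ∀ g x : G, χ (g * x * g⁻¹) = χ x)
include hc hcl

/-- (SUMU) [S] `⟨u⟩ = {1,u,u²,u³}`, `⟨u²⟩ = {1,u²}`. -/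
theorem sum_U :
    Nat.card (Subgroup.zpowers u) = 4 ∧ Nat.card (Subgroup.zpowers (u ^ 2)) = 2 ∧
    ∑ g : G, (if g ∈ Subgroup.zpowers u then χ g else 0) = χ 1 + χ u + χ (u ^ 2) + χ (u ^ 3) ∧
    ∑ g : G, (if g ∈ Subgroup.zpowers (u ^ 2) then χ g else 0) = χ 1 + χ (u ^ 2) := by
  have h4 : orderOf u = 4 := hc.ordu
  have h2 : orderOf (u ^ 2) = 2 := by
    rw [orderOf_pow' u (by norm_num : (2 : ℕ) ≠ 0), h4]; norm_num
  have key : ∀ (v : G) (m : ℕ), orderOf v = m →
      ∑ g : G, (if g ∈ Subgroup.zpowers v then χ g else 0) = ∑ k ∈ Finset.range m, χ (v ^ k) := by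
    intro v m hm
    rw [← Finset.sum_filter]
    have hf : Finset.univ.filter (fun g => g ∈ Subgroup.zpowers v)
        = (Finset.range m).image (v ^ ·) := by
      ext g
      simp only [Finset.mem_filter, Finset.mem_univ, true_and]
      rw [mem_zpowers_iff_mem_range_orderOf, hm]
    rw [hf, Finset.sum_image]
    intro a ha b hb hab
    have ha' : a ∈ Set.Iio (orderOf v) := by
      rw [hm]; simpa using ha
    have hb' : b ∈ Set.Iio (orderOf v) := by
      rw [hm]; simpa using hb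
    exact pow_injOn_Iio_orderOf ha' hb' hab
  refine ⟨by rw [Nat.card_zpowers, h4], by rw [Nat.card_zpowers, h2], ?_, ?_⟩
  · rw [key u 4 h4]
    simp [Finset.sum_range_succ]
  · rw [key (u ^ 2) 2 h2]
    simp [Finset.sum_range_succ]

end sums

end Cfsg.Agent.Helper49.O2520
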