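import Cfsg.Agent.Lib.Helper93.OR0

/-! # OR3 (LU), helper49: LU factorisation with prescribed diagonals -/

set_option autoImplicit false

namespace Cfsg.Agent.Helper49.OR

open Matrix Cfsg.Agent.Helper93.OR

local notation "SL3" => Matrix.SpecialLinearGroup (Fin 3)

/-- (LU) LU factorisation with prescribed diagonals. -/
theorem lu_of_schur {F : Type*} [Field F] (M : Matrix (Fin 3) (Fin 3) F) (β γ : Fin 3 → F)
    (hβ : ∀ i, β i ≠ 0) (hγ : ∀ i, γ i ≠ 0)
    (h0 : M 0 0 = β 0 * γ 0) (h1 : schur M 0 0 = β 1 * γ 1)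
    (hdet : M.det = (β 0 * γ 0) * (β 1 * γ 1) * (β 2 * γ 2)) :
    ∃ L U : Matrix (Fin 3) (Fin 3) F, M = L * U ∧
      (∀ i j, i < j → L i j = 0) ∧ (∀ i, L i i = β i) ∧
      (∀ i j, j < i → U i j = 0) ∧ (∀ i, U i i = γ i) := by
  have hb0 := hβ 0
  have hb1 := hβ 1
  have hb2 := hβ 2
  have hg0 := hγ 0
  have hg1 := hγ 1
  have hg2 := hγ 2
  have hM00 : M 0 0 ≠ 0 := by rw [h0]; exact mul_ne_zero hb0 hg0
  -- the Schur complement entries
  have hS00 : schur M 0 0 = M 1 1 - M 1 0 * M 0 1 / M 0 0 := rfl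
  have hS01 : schur M 0 1 = M 1 2 - M 1 0 * M 0 2 / M 0 0 := rfl
  have hS10 : schur M 1 0 = M 2 1 - M 2 0 * M 0 1 / M 0 0 := rfl
  have hS11 : schur M 1 1 = M 2 2 - M 2 0 * M 0 2 / M 0 0 := rfl
  set s00 := schur M 0 0 with hs00
  set s01 := schur M 0 1 with hs01
  set s10 := schur M 1 0 with hs10
  set s11 := schur M 1 1 with hs11
  have e11 : M 1 1 = s00 + M 1 0 * M 0 1 / M 0 0 := by rw [hS00]; ring
  have e12 : M 1 2 = s01 + M 1 0 * M 0 2 / M 0 0 := by rw [hS01]; ring
  have e21 : M 2 1 = s10 + M 2 0 * M 0 1 / M 0 0 := by rw [hS10]; ring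
  have e22 : M 2 2 = s11 + M 2 0 * M 0 2 / M 0 0 := by rw [hS11]; ring
  -- det M = M00 * det S
  have hdetS : M 0 0 * (s00 * s11 - s01 * s10) = M.det := by
    rw [Matrix.det_fin_three, e11, e12, e21, e22]
    field_simp
    ring
  have hdS : s00 * s11 - s01 * s10 = (β 1 * γ 1) * (β 2 * γ 2) := by
    have h2 : M 0 0 * (s00 * s11 - s01 * s10) = M 0 0 * ((β 1 * γ 1) * (β 2 * γ 2)) := by
      rw [hdetS, hdet, h0]; ring
    exact mul_left_cancel₀ hM00 h2
  have hs00ne : s00 ≠ 0 := by rw [h1]; exact mul_ne_zero hb1 hg1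
  refine ⟨!![β 0, 0, 0; M 1 0 / γ 0, β 1, 0; M 2 0 / γ 0, s10 / γ 1, β 2],
    !![γ 0, M 0 1 / β 0, M 0 2 / β 0; 0, γ 1, s01 / β 1; 0, 0, γ 2], ?_, ?_, ?_, ?_, ?_⟩
  · ext i j
    fin_cases i <;> fin_cases j
    · simp [Matrix.mul_apply, Fin.sum_univ_three, h0]
    · simp [Matrix.mul_apply, Fin.sum_univ_three]; field_simp
    · simp [Matrix.mul_apply, Fin.sum_univ_three]; field_simp
    · simp [Matrix.mul_apply, Fin.sum_univ_three]; field_simp
    · simp only [Matrix.mul_apply, Fin.sum_univ_three]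
      simp
      rw [e11, h1, h0]; field_simp; ring
    · simp only [Matrix.mul_apply, Fin.sum_univ_three]
      simp
      rw [e12, h0]; field_simp; ring
    · simp [Matrix.mul_apply, Fin.sum_univ_three]; field_simp
    · simp only [Matrix.mul_apply, Fin.sum_univ_three]
      simp
      rw [e21, h0]; field_simp; ring
    · simp only [Matrix.mul_apply, Fin.sum_univ_three]
      simp
      have h3 : s11 = s10 * s01 / s00 + β 2 * γ 2 := by
        have : s00 * s11 = s01 * s10 + s00 * (β 2 * γ 2) := by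
          linear_combination hdS - (β 2 * γ 2) * h1
        field_simp
        linear_combination this
      rw [e22, h3, h1, h0]; field_simp; ring
  · intro i j hij
    fin_cases i <;> fin_cases j <;> first | rfl | (exfalso; revert hij; decide)
  · intro i; fin_cases i <;> rfl
  · intro i j hij
    fin_cases i <;> fin_cases j <;> first | rfl | (exfalso; revert hij; decide)
  · intro i; fin_cases i <;> rfl

end Cfsg.Agent.Helper49.OR
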