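import Mathlib

set_option autoImplicit false

namespace Cfsg.Agent.Helper49.SL2Torus

open Matrix

variable {F : Type*} [Field F]

lemma sum_two_sq [Fintype F] (hF : Fintype.card F % 2 = 1) (c : F) :
    ∃ a b : F, a ^ 2 + b ^ 2 = c := by
  obtain ⟨a, b, hab⟩ := FiniteField.exists_root_sum_quadratic (R := F)
    (f := Polynomial.X ^ 2) (g := Polynomial.X ^ 2 - Polynomial.C c)
    (Polynomial.degree_X_pow 2) (Polynomial.degree_X_pow_sub_C (by norm_num) c) hF
  refine ⟨a, b, ?_⟩
  simp at hab
  linear_combination hab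

lemma invol_entries (h2 : (2 : F) ≠ 0) (a b c d : F) (hdet : a * d - b * c = 1)
    (e00 : a * a + b * c = 1) (e01 : a * b + b * d = 0) (e10 : c * a + d * c = 0) :
    (a = 1 ∧ b = 0 ∧ c = 0 ∧ d = 1) ∨ (a = -1 ∧ b = 0 ∧ c = 0 ∧ d = -1) := by
  by_cases hs : a + d = 0
  · exfalso
    apply h2
    have hd' : d = -a := by linear_combination hs
    subst hd'
    linear_combination (-1 : F) * e00 + (-1 : F) * hdet
  · have hb0 : b = 0 := by
      have : b * (a + d) = 0 := by linear_combination e01
      exact (mul_eq_zero.mp this).resolve_right hs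
    have hc0 : c = 0 := by
      have : c * (a + d) = 0 := by linear_combination e10
      exact (mul_eq_zero.mp this).resolve_right hs
    subst hb0 hc0
    have haa : a * a = 1 := by linear_combination e00
    have had : a * d = 1 := by linear_combination hdet
    have ha0 : a ≠ 0 := by
      intro h
      rw [h] at haa
      simp at haa
    have hda : d = a := by
      have : a * (d - a) = 0 := by linear_combination had - haa
      have := (mul_eq_zero.mp this).resolve_left ha0
      linear_combination this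
    subst hda
    rcases mul_self_eq_one_iff.mp haa with h1 | h1
    · exact Or.inl ⟨h1, rfl, rfl, h1⟩
    · exact Or.inr ⟨h1, rfl, rfl, h1⟩

/-- `SL₂(F)` has at most one involution when `2 ≠ 0`. -/
lemma eq_one_or_neg_one (h2 : (2 : F) ≠ 0) (x : SpecialLinearGroup (Fin 2) F)
    (hx : x * x = 1) : x = 1 ∨ x.1 = -1 := by
  have hm : x.1 * x.1 = 1 := congrArg Subtype.val hx
  have hdet : x.1 0 0 * x.1 1 1 - x.1 0 1 * x.1 1 0 = 1 := by
    rw [← Matrix.det_fin_two]
    exact x.2
  have e00 := congrFun (congrFun hm 0) 0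
  have e01 := congrFun (congrFun hm 0) 1
  have e10 := congrFun (congrFun hm 1) 0
  simp [Matrix.mul_apply, Fin.sum_univ_two] at e00 e01 e10
  rcases invol_entries h2 _ _ _ _ hdet e00 e01 e10 with ⟨h1, h2', h3, h4⟩ | ⟨h1, h2', h3, h4⟩
  · left
    apply Subtype.ext
    ext i j
    fin_cases i <;> fin_cases j <;> simp [h1, h2', h3, h4]
  · right
    ext i j
    fin_cases i <;> fin_cases j <;> simp [h1, h2', h3, h4]

lemma exists_y [Fintype F] (hF : Fintype.card F % 2 = 1) (p q r : F)
    (hpqr : p * p + q * r = -1) :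
    ∃ y1 y2 y3 : F, 2 * p * y1 + q * y3 + r * y2 = 0 ∧ y1 * y1 + y2 * y3 = -1 := by
  by_cases hq : q = 0
  · by_cases hr : r = 0
    · refine ⟨0, 1, -1, ?_, ?_⟩
      · rw [hq, hr]; ring
      · ring
    · obtain ⟨α, β, hαβ⟩ := sum_two_sq hF (-(r * r))
      refine ⟨(α + p * β) / r, -(2 * p * ((α + p * β) / r) + q * β) / r, β, ?_, ?_⟩
      · field_simp
        ring
      · field_simp
        rw [hq] at hpqr ⊢
        linear_combination hαβ - (β ^ 2) * hpqr
  · obtain ⟨α, β, hαβ⟩ := sum_two_sq hF (-(q * q))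
    refine ⟨(α + p * β) / q, β, -(2 * p * ((α + p * β) / q) + r * β) / q, ?_, ?_⟩
    · field_simp
      ring
    · field_simp
      linear_combination hαβ - (β ^ 2) * hpqr

lemma target_zero (h2 : (2 : F) ≠ 0) (p q r a b c d y1 y2 y3 : F) (hpqr : p * p + q * r = -1)
    (h1 : b * r = q * c) (h2' : q * (a - d) = 2 * p * b) (h3 : r * (a - d) = 2 * p * c)
    (hy : 2 * p * y1 + q * y3 + r * y2 = 0) : y1 * (a - d) + y2 * c + y3 * b = 0 := by
  by_cases hq : q = 0
  · by_cases hr : r = 0
    · subst hq hr
      have hp0 : p ≠ 0 := by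
        intro h
        rw [h] at hpqr
        simp at hpqr
      have h2p : (2 : F) * p ≠ 0 := mul_ne_zero h2 hp0
      have hb : b = 0 := by
        have : 2 * p * b = 0 := by linear_combination (-1 : F) * h2'
        exact (mul_eq_zero.mp this).resolve_left h2p
      have hc : c = 0 := by
        have : 2 * p * c = 0 := by linear_combination (-1 : F) * h3
        exact (mul_eq_zero.mp this).resolve_left h2p
      have hy1 : y1 = 0 := by
        have : 2 * p * y1 = 0 := by linear_combination hy
        exact (mul_eq_zero.mp this).resolve_left h2p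
      rw [hb, hc, hy1]
      ring
    · have : r * (y1 * (a - d) + y2 * c + y3 * b) = 0 := by
        linear_combination y1 * h3 + y3 * h1 + c * hy
      exact (mul_eq_zero.mp this).resolve_left hr
  · have : q * (y1 * (a - d) + y2 * c + y3 * b) = 0 := by
      linear_combination y1 * h2' - y2 * h1 + b * hy
    exact (mul_eq_zero.mp this).resolve_left hq

/-- For `x ∈ SL₂(F)` with `x² = -1` there is `y ∈ SL₂(F)` with `y² = -1` inverting the whole
centralizer of `x`. -/
lemma exists_inverting [Fintype F] (hF : Fintype.card F % 2 = 1) (h2 : (2 : F) ≠ 0)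
    (x : SpecialLinearGroup (Fin 2) F) (hx : x.1 * x.1 = -1) :
    ∃ y : SpecialLinearGroup (Fin 2) F, y.1 * y.1 = -1 ∧
      ∀ t : SpecialLinearGroup (Fin 2) F, t * x = x * t → y * t * y⁻¹ = t⁻¹ := by
  have hdet : x.1 0 0 * x.1 1 1 - x.1 0 1 * x.1 1 0 = 1 := by
    rw [← Matrix.det_fin_two]
    exact x.2
  have e00 := congrFun (congrFun hx 0) 0
  have e01 := congrFun (congrFun hx 0) 1
  simp [Matrix.mul_apply, Fin.sum_univ_two] at e00 e01
  have e00' : x.1 0 0 * x.1 0 0 + x.1 0 1 * x.1 1 0 = -1 := by linear_combination e00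
  have hs : x.1 1 1 = - x.1 0 0 := by
    by_contra hne
    have hsum : x.1 0 0 + x.1 1 1 ≠ 0 := fun h => hne (by linear_combination h)
    have hq0 : x.1 0 1 = 0 := by
      have : x.1 0 1 * (x.1 0 0 + x.1 1 1) = 0 := by linear_combination e01
      exact (mul_eq_zero.mp this).resolve_right hsum
    have hpp : x.1 0 0 * x.1 0 0 = -1 := by rw [hq0] at e00'; linear_combination e00'
    have hps : x.1 0 0 * x.1 1 1 = 1 := by rw [hq0] at hdet; linear_combination hdet
    have : x.1 0 0 * (x.1 0 0 + x.1 1 1) = 0 := by linear_combination hpp + hps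
    rcases mul_eq_zero.mp this with h | h
    · rw [h] at hps
      simp at hps
    · exact hsum h
  obtain ⟨y1, y2, y3, hy, hyy⟩ := exists_y hF (x.1 0 0) (x.1 0 1) (x.1 1 0) e00'
  have hydet : (!![y1, y2; y3, -y1] : Matrix (Fin 2) (Fin 2) F).det = 1 := by
    rw [Matrix.det_fin_two_of]
    linear_combination (-1 : F) * hyy
  obtain ⟨y, hyv⟩ : ∃ y : SpecialLinearGroup (Fin 2) F, y.1 = !![y1, y2; y3, -y1] :=
    ⟨⟨_, hydet⟩, rfl⟩
  refine ⟨y, ?_, ?_⟩
  · rw [hyv, Matrix.mul_fin_two]
    ext i j
    fin_cases i <;> fin_cases j <;> simp <;> first | linear_combination hyy | ring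
  · intro t htx
    have htm : t.1 * x.1 = x.1 * t.1 := congrArg Subtype.val htx
    have c00 := congrFun (congrFun htm 0) 0
    have c01 := congrFun (congrFun htm 0) 1
    have c10 := congrFun (congrFun htm 1) 0
    simp [Matrix.mul_apply, Fin.sum_univ_two] at c00 c01 c10
    rw [hs] at c01 c10
    have hT := target_zero h2 (x.1 0 0) (x.1 0 1) (x.1 1 0) (t.1 0 0) (t.1 0 1) (t.1 1 0)
      (t.1 1 1) y1 y2 y3 e00' (by linear_combination c00) (by linear_combination c01)
      (by linear_combination (-1 : F) * c10) hy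
    rw [mul_inv_eq_iff_eq_mul]
    apply Subtype.ext
    have hinv : (t⁻¹).1 = Matrix.adjugate t.1 := Matrix.SpecialLinearGroup.coe_inv t
    show y.1 * t.1 = (t⁻¹).1 * y.1
    rw [hinv, Matrix.adjugate_fin_two, hyv]
    ext i j
    fin_cases i <;> fin_cases j <;> simp [Matrix.mul_apply, Fin.sum_univ_two]
    · linear_combination hT
    · ring
    · ring
    · linear_combination hT

end Cfsg.Agent.Helper49.SL2Torus
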