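import Mathlib
import Cfsg.Prelude.Def_Local
import Cfsg.Agent.Lib.Helper22.SLQuasi
import Cfsg.Agent.Lib.Helper22.Components
import Cfsg.Agent.Lib.Helper49.BlkLast

set_option autoImplicit false

namespace Cfsg.Agent.Helper49.SLStd

open Matrix Cfsg.Agent.Helper49.BlkLast

variable {F : Type*} [Field F] {m : ℕ}

/-- the block embedding `SL_m → SL_{m+1}`, `A ↦ diag(A, 1)`. -/
def emb (F : Type*) [Field F] (m : ℕ) :
    SpecialLinearGroup (Fin m) F →* SpecialLinearGroup (Fin (m + 1)) F where
  toFun A := ⟨blk A.1 1, by rw [det_blk, A.2, one_mul]⟩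
  map_one' := by
    apply Subtype.ext
    simp [blk_one]
  map_mul' A B := by
    apply Subtype.ext
    show blk (A.1 * B.1) 1 = blk A.1 1 * blk B.1 1
    rw [blk_mul, one_mul]

lemma emb_coe (A : SpecialLinearGroup (Fin m) F) :
    (emb F m A).1 = blk A.1 1 := rfl

lemma emb_injective : Function.Injective (emb F m) := by
  intro A B h
  have := congrArg Subtype.val h
  rw [emb_coe, emb_coe] at this
  exact Subtype.ext (blk_injective this).1

/-- off-block entries vanish -/
def OffZero (g : Matrix (Fin (m + 1)) (Fin (m + 1)) F) : Prop :=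
  (∀ j : Fin m, g (Fin.last m) j.castSucc = 0) ∧ (∀ i : Fin m, g i.castSucc (Fin.last m) = 0)

lemma mem_range_emb_iff (g : SpecialLinearGroup (Fin (m + 1)) F) :
    g ∈ (emb F m).range ↔ OffZero g.1 ∧ g.1 (Fin.last m) (Fin.last m) = 1 := by
  constructor
  · rintro ⟨A, rfl⟩
    refine ⟨⟨fun j => ?_, fun i => ?_⟩, ?_⟩ <;> simp [emb_coe]
  · rintro ⟨⟨h1, h2⟩, h3⟩
    have hg := eq_blk g.1 h1 h2
    rw [h3] at hg
    have hdet : (g.1.submatrix Fin.castSucc Fin.castSucc).det = 1 := by
      have := g.2
      rw [hg, det_blk, mul_one] at this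
      exact this
    exact ⟨⟨_, hdet⟩, Subtype.ext hg.symm⟩

section cent

variable (t : SpecialLinearGroup (Fin (m + 1)) F) (h2 : (2 : F) ≠ 0)
  (ht : t.1 = blk (-1 : Matrix (Fin m) (Fin m) F) 1)

include h2 ht in
lemma mem_centralizer_iff (g : SpecialLinearGroup (Fin (m + 1)) F) :
    g ∈ Subgroup.centralizer ({t} : Set (SpecialLinearGroup (Fin (m + 1)) F)) ↔ OffZero g.1 := by
  rw [Subgroup.mem_centralizer_singleton_iff]
  constructor
  · intro h
    have hm : g.1 * t.1 = t.1 * g.1 := by
      have := congrArg Subtype.val h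
      simpa using this
    rw [ht] at hm
    constructor
    · intro j
      have := congrFun (congrFun hm (Fin.last m)) j.castSucc
      simp [Matrix.mul_apply, Fin.sum_univ_castSucc, Matrix.one_apply] at this
      have h3 : (2 : F) * g.1 (Fin.last m) j.castSucc = 0 := by linear_combination (-1 : F) * this
      exact (mul_eq_zero.mp h3).resolve_left h2
    · intro i
      have := congrFun (congrFun hm i.castSucc) (Fin.last m)
      simp [Matrix.mul_apply, Fin.sum_univ_castSucc, Matrix.one_apply] at this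
      have h3 : (2 : F) * g.1 i.castSucc (Fin.last m) = 0 := by linear_combination (1 : F) * this
      exact (mul_eq_zero.mp h3).resolve_left h2
  · rintro ⟨h1, h2'⟩
    apply Subtype.ext
    show g.1 * t.1 = t.1 * g.1
    rw [ht, eq_blk g.1 h1 h2', blk_mul, blk_mul]
    simp

/-- the corner entry as a monoid hom on `C(t)`. -/
def cornerHom (t : SpecialLinearGroup (Fin (m + 1)) F) (h2 : (2 : F) ≠ 0)
    (ht : t.1 = blk (-1 : Matrix (Fin m) (Fin m) F) 1) :
    ↥(Subgroup.centralizer ({t} : Set (SpecialLinearGroup (Fin (m + 1)) F))) →* F where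
  toFun g := g.1.1 (Fin.last m) (Fin.last m)
  map_one' := by simp
  map_mul' g h := by
    have hg := (mem_centralizer_iff t h2 ht g.1).1 g.2
    simp [Matrix.mul_apply, Fin.sum_univ_castSucc, hg.1]

lemma cornerHom_apply (g : ↥(Subgroup.centralizer ({t} : Set (SpecialLinearGroup (Fin (m + 1)) F)))) :
    cornerHom t h2 ht g = g.1.1 (Fin.last m) (Fin.last m) := rfl

include h2 ht in
lemma range_le_centralizer :
    (emb F m).range ≤ Subgroup.centralizer ({t} : Set (SpecialLinearGroup (Fin (m + 1)) F)) := by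
  intro g hg
  exact (mem_centralizer_iff t h2 ht g).2 ((mem_range_emb_iff g).1 hg).1

lemma subgroupOf_eq_ker :
    (emb F m).range.subgroupOf
      (Subgroup.centralizer ({t} : Set (SpecialLinearGroup (Fin (m + 1)) F))) =
      (cornerHom t h2 ht).toHomUnits.ker := by
  ext g
  rw [Subgroup.mem_subgroupOf, MonoidHom.mem_ker, mem_range_emb_iff, Units.ext_iff,
    MonoidHom.coe_toHomUnits, cornerHom_apply, Units.val_one]
  constructor
  · rintro ⟨_, h⟩
    exact h
  · intro h
    exact ⟨(mem_centralizer_iff t h2 ht g.1).1 g.2, h⟩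

include h2 ht in
lemma layer_eq [Fintype F] (hm6 : 6 ≤ m) :
    (Cfsg.layer ↥(Subgroup.centralizer ({t} : Set (SpecialLinearGroup (Fin (m + 1)) F)))).map
      (Subgroup.centralizer ({t} : Set (SpecialLinearGroup (Fin (m + 1)) F))).subtype =
      (emb F m).range := by
  have hle := range_le_centralizer t h2 ht
  have hker := subgroupOf_eq_ker t h2 ht
  have hqs : Cfsg.IsQuasisimple ↥(emb F m).range :=
    Cfsg.Agent.Helper22.IsQuasisimple.of_mulEquiv (MonoidHom.ofInjective emb_injective)
      (Cfsg.Agent.Helper22.SLQuasi.sl_isQuasisimple m (by omega) (Or.inl (by omega)))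
  have hcomp : Cfsg.IsComponent ((emb F m).range.subgroupOf
      (Subgroup.centralizer ({t} : Set (SpecialLinearGroup (Fin (m + 1)) F)))) := by
    refine ⟨?_, ?_⟩
    · rw [hker]
      exact (MonoidHom.normal_ker _).isSubnormal
    · exact Cfsg.Agent.Helper22.IsQuasisimple.of_mulEquiv
        (Subgroup.subgroupOfEquivOfLe hle).symm hqs
  have hlayer : Cfsg.layer ↥(Subgroup.centralizer
      ({t} : Set (SpecialLinearGroup (Fin (m + 1)) F))) = (emb F m).range.subgroupOf
      (Subgroup.centralizer ({t} : Set (SpecialLinearGroup (Fin (m + 1)) F))) := by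
    apply le_antisymm
    · apply sSup_le
      intro K hK
      have hperf := Cfsg.Agent.Helper22.IsQuasisimple.commutator_eq hK.2
      rw [hker, ← hperf]
      exact (Subgroup.commutator_mono le_top le_top).trans
        (Abelianization.commutator_subset_ker _)
    · exact Cfsg.Agent.Helper22.IsComponent.le_layer hcomp
  rw [hlayer, Subgroup.map_subgroupOf_eq_of_le hle]

end cent

section cl0

variable (t : SpecialLinearGroup (Fin (m + 1)) F) (h2 : (2 : F) ≠ 0)
  (ht : t.1 = blk (-1 : Matrix (Fin m) (Fin m) F) 1)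

include ht in
lemma t_mem_range : t ∈ (emb F m).range := by
  rw [mem_range_emb_iff, ht]
  refine ⟨⟨fun j => ?_, fun i => ?_⟩, ?_⟩ <;> simp

include h2 ht in
lemma centralizer_range_form (x : SpecialLinearGroup (Fin (m + 1)) F)
    (hx : x ∈ Subgroup.centralizer
      (((emb F m).range : Subgroup (SpecialLinearGroup (Fin (m + 1)) F)) :
        Set (SpecialLinearGroup (Fin (m + 1)) F))) :
    ∃ a b : F, x.1 = blk (Matrix.scalar (Fin m) a) b ∧ a ^ m * b = 1 := by
  have hxt : x ∈ Subgroup.centralizer ({t} : Set (SpecialLinearGroup (Fin (m + 1)) F)) := by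
    rw [Subgroup.mem_centralizer_singleton_iff]
    exact (hx t (t_mem_range t ht)).symm
  have hoff := (mem_centralizer_iff t h2 ht x).1 hxt
  have hblk := eq_blk x.1 hoff.1 hoff.2
  obtain ⟨B, hB⟩ : ∃ B, B = x.1.submatrix Fin.castSucc Fin.castSucc := ⟨_, rfl⟩
  obtain ⟨b, hb⟩ : ∃ b, b = x.1 (Fin.last m) (Fin.last m) := ⟨_, rfl⟩
  rw [← hB, ← hb] at hblk
  have hcomm : ∀ ts : TransvectionStruct (Fin m) F, Commute ts.toMatrix B := by
    intro ts
    obtain ⟨Y, hY⟩ : ∃ Y : SpecialLinearGroup (Fin m) F, Y.1 = ts.toMatrix :=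
      ⟨⟨ts.toMatrix, ts.det⟩, rfl⟩
    have hy : emb F m Y ∈ (emb F m).range := ⟨_, rfl⟩
    have h := hx _ hy
    have h' : (emb F m Y).1 * x.1 = x.1 * (emb F m Y).1 :=
      congrArg Subtype.val h
    rw [emb_coe, hblk, blk_mul, blk_mul, hY] at h'
    exact (blk_injective h').1
  obtain ⟨a, ha⟩ := Matrix.mem_range_scalar_of_commute_transvectionStruct hcomm
  refine ⟨a, b, by rw [hblk, ha], ?_⟩
  have hdet := x.2
  rw [hblk, det_blk, ← ha] at hdet
  simpa [Matrix.scalar_apply, Matrix.det_diagonal] using hdet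

include h2 ht in
lemma invol_unique (hme : Even m) (hm1 : 1 ≤ m) (x : SpecialLinearGroup (Fin (m + 1)) F)
    (hx : x ∈ Subgroup.centralizer
      (((emb F m).range : Subgroup (SpecialLinearGroup (Fin (m + 1)) F)) :
        Set (SpecialLinearGroup (Fin (m + 1)) F)))
    (hxx : x * x = 1) (hx1 : x ≠ 1) : x = t := by
  obtain ⟨a, b, hab, hdet⟩ := centralizer_range_form t h2 ht x hx
  have h' : x.1 * x.1 = 1 := congrArg Subtype.val hxx
  rw [hab, blk_mul, ← blk_one, ← map_mul] at h'
  obtain ⟨hA, hbb⟩ := blk_injective h'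
  have haa : a * a = 1 := by
    have := congrFun (congrFun hA ⟨0, hm1⟩) ⟨0, hm1⟩
    simpa using this
  have ham : a ^ m = 1 := by
    obtain ⟨k, hk⟩ := hme
    rw [hk, ← two_mul, pow_mul, pow_two, haa, one_pow]
  have hb1 : b = 1 := by rw [ham, one_mul] at hdet; exact hdet
  rcases mul_self_eq_one_iff.mp haa with ha | ha
  · exfalso
    apply hx1
    apply Subtype.ext
    show x.1 = 1
    rw [hab, ha, hb1, map_one, blk_one]
  · apply Subtype.ext
    rw [hab, ht, ha, hb1, map_neg, map_one]

include h2 ht in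
lemma centralizer_range_comm (x y : SpecialLinearGroup (Fin (m + 1)) F)
    (hx : x ∈ Subgroup.centralizer
      (((emb F m).range : Subgroup (SpecialLinearGroup (Fin (m + 1)) F)) :
        Set (SpecialLinearGroup (Fin (m + 1)) F)))
    (hy : y ∈ Subgroup.centralizer
      (((emb F m).range : Subgroup (SpecialLinearGroup (Fin (m + 1)) F)) :
        Set (SpecialLinearGroup (Fin (m + 1)) F))) : x * y = y * x := by
  obtain ⟨a, b, hab, -⟩ := centralizer_range_form t h2 ht x hx
  obtain ⟨a', b', hab', -⟩ := centralizer_range_form t h2 ht y hy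
  apply Subtype.ext
  show x.1 * y.1 = y.1 * x.1
  rw [hab, hab', blk_mul, blk_mul, ← map_mul, ← map_mul, mul_comm a, mul_comm b]

end cl0

theorem normalizer_le_normalizer_centralizer {G : Type*} [Group G] (Q : Subgroup G) :
    Subgroup.normalizer (Q : Set G) ≤
      Subgroup.normalizer ((Subgroup.centralizer (Q : Set G) : Subgroup G) : Set G) :=
  (Subgroup.normal_subgroupOf_iff_le_normalizer (Subgroup.centralizer_le_normalizer (Q : Set G))).mp
    (Subgroup.normal_subgroupOf_centralizer_normalizer (Q : Set G))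

lemma range_quasisimple [Fintype F] (hm6 : 6 ≤ m) : Cfsg.IsQuasisimple ↥(emb F m).range :=
  Cfsg.Agent.Helper22.IsQuasisimple.of_mulEquiv (MonoidHom.ofInjective emb_injective)
    (Cfsg.Agent.Helper22.SLQuasi.sl_isQuasisimple m (by omega) (Or.inl (by omega)))


theorem standard [Fintype F] (h2 : (2 : F) ≠ 0) (hm6 : 6 ≤ m) (hme : Even m)
    (t : SpecialLinearGroup (Fin (m + 1)) F)
    (ht : t.1 = blk (-1 : Matrix (Fin m) (Fin m) F) 1) :
    Cfsg.IsStandardSubgroup
      ((Cfsg.layer ↥(Subgroup.centralizer ({t} : Set (SpecialLinearGroup (Fin (m + 1)) F)))).map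
        (Subgroup.centralizer ({t} : Set (SpecialLinearGroup (Fin (m + 1)) F))).subtype) := by
  rw [layer_eq t h2 ht hm6]
  have hle := range_le_centralizer t h2 ht
  have hqs : Cfsg.IsQuasisimple ↥(emb F m).range := range_quasisimple hm6
  have htH : t ∈ Subgroup.centralizer
      (((emb F m).range : Subgroup (SpecialLinearGroup (Fin (m + 1)) F)) :
        Set (SpecialLinearGroup (Fin (m + 1)) F)) := by
    rw [Subgroup.mem_centralizer_iff]
    intro y hy
    have := hle hy
    rw [Subgroup.mem_centralizer_singleton_iff] at this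
    exact this
  have ht1 : t ≠ 1 := by
    intro h
    have h' : t.1 = 1 := congrArg Subtype.val h
    rw [ht, ← blk_one] at h'
    have h3 := (blk_injective h').1
    have h00 := congrFun (congrFun h3 ⟨0, by omega⟩) ⟨0, by omega⟩
    simp at h00
    apply h2
    linear_combination (-1 : F) * h00
  have htt : t * t = 1 := by
    apply Subtype.ext
    show t.1 * t.1 = 1
    rw [ht, blk_mul, ← blk_one]
    simp
  have hCN : Subgroup.centralizer ({t} : Set (SpecialLinearGroup (Fin (m + 1)) F)) ≤
      Subgroup.normalizer (((emb F m).range : Subgroup (SpecialLinearGroup (Fin (m + 1)) F)) :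
        Set (SpecialLinearGroup (Fin (m + 1)) F)) := by
    have hnorm : ((emb F m).range.subgroupOf
        (Subgroup.centralizer ({t} : Set (SpecialLinearGroup (Fin (m + 1)) F)))).Normal := by
      rw [subgroupOf_eq_ker t h2 ht]
      exact MonoidHom.normal_ker _
    exact (Subgroup.normal_subgroupOf_iff_le_normalizer hle).mp hnorm
  have hNN := normalizer_le_normalizer_centralizer ((emb F m).range)
  -- conjugates of `t` inside `C(L)` are `t`
  have hkey : ∀ g : SpecialLinearGroup (Fin (m + 1)) F,
      g * t * g⁻¹ ∈ Subgroup.centralizer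
        (((emb F m).range : Subgroup (SpecialLinearGroup (Fin (m + 1)) F)) :
          Set (SpecialLinearGroup (Fin (m + 1)) F)) →
      g ∈ Subgroup.centralizer ({t} : Set (SpecialLinearGroup (Fin (m + 1)) F)) := by
    intro g hg
    have h1 : g * t * g⁻¹ * (g * t * g⁻¹) = 1 := by
      have : g * t * g⁻¹ * (g * t * g⁻¹) = g * (t * t) * g⁻¹ := by group
      rw [this, htt]
      group
    have h3 : g * t * g⁻¹ ≠ 1 := by
      intro h
      apply ht1
      have : t = g⁻¹ * (g * t * g⁻¹) * g := by group
      rw [this, h]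
      group
    have h4 := invol_unique t h2 ht hme (by omega) _ hg h1 h3
    rw [Subgroup.mem_centralizer_singleton_iff]
    calc g * t = g * t * g⁻¹ * g := by group
      _ = t * g := by rw [h4]
  have hNC : Subgroup.normalizer ((Subgroup.centralizer
      (((emb F m).range : Subgroup (SpecialLinearGroup (Fin (m + 1)) F)) :
        Set (SpecialLinearGroup (Fin (m + 1)) F)) : Subgroup _) : Set _) ≤
      Subgroup.centralizer ({t} : Set (SpecialLinearGroup (Fin (m + 1)) F)) := by
    intro g hg
    exact hkey g ((Subgroup.mem_normalizer_iff.mp hg t).mp htH)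
  refine ⟨hqs, ⟨?_, ?_⟩, ?_, ?_⟩
  · have ho : orderOf t = 2 := orderOf_eq_prime (by rw [pow_two]; exact htt) ht1
    have hd := Subgroup.orderOf_dvd_natCard _ htH
    rw [ho] at hd
    exact even_iff_two_dvd.mpr hd
  · intro g hg
    by_contra hodd
    rw [Nat.not_odd_iff_even, even_iff_two_dvd] at hodd
    have : Fact (Nat.Prime 2) := ⟨Nat.prime_two⟩
    obtain ⟨x, hx⟩ := exists_prime_orderOf_dvd_card' 2 hodd
    have hx2 : x.1 * x.1 = 1 := by
      have := pow_orderOf_eq_one x
      rw [hx, pow_two] at this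
      exact congrArg Subtype.val this
    have hx1 : x.1 ≠ 1 := by
      intro h
      have : x = 1 := Subtype.ext h
      rw [this, orderOf_one] at hx
      omega
    have hxt : x.1 = t := invol_unique t h2 ht hme (by omega) x.1 x.2.1 hx2 hx1
    obtain ⟨y, hyH, hy⟩ := x.2.2
    have hy' : g * y * g⁻¹ = t := by
      rw [← hxt, ← hy]
      rfl
    have hyy : y = g⁻¹ * t * g := by
      rw [← hy']
      group
    apply hg
    apply hNN
    apply hCN
    have hginv : g⁻¹ ∈ Subgroup.centralizer ({t} : Set (SpecialLinearGroup (Fin (m + 1)) F)) := by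
      apply hkey
      rw [inv_inv, ← hyy]
      exact hyH
    exact inv_inv g ▸ Subgroup.inv_mem _ hginv
  · intro g _ hbot
    have hle' : (emb F m).range.map (MulAut.conj g).toMonoidHom ≤ Subgroup.centralizer
        (((emb F m).range : Subgroup (SpecialLinearGroup (Fin (m + 1)) F)) :
          Set (SpecialLinearGroup (Fin (m + 1)) F)) := by
      rw [Subgroup.commutator_comm] at hbot
      exact Subgroup.commutator_eq_bot_iff_le_centralizer.mp hbot
    apply Cfsg.Agent.Helper22.IsQuasisimple.not_commutator_eq_bot hqs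
    rw [Subgroup.commutator_eq_bot_iff_le_centralizer]
    intro x hx
    rw [Subgroup.mem_centralizer_iff]
    intro y hy
    have h1 := hle' (Subgroup.mem_map_of_mem _ hx)
    have h2' := hle' (Subgroup.mem_map_of_mem _ hy)
    have h3 := centralizer_range_comm t h2 ht _ _ h2' h1
    rw [← map_mul, ← map_mul] at h3
    exact (MulAut.conj g).injective h3
  · exact le_antisymm hNN (hNC.trans hCN)


end Cfsg.Agent.Helper49.SLStd
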