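import Mathlib
import Cfsg.Prelude.Def_SylowChains
import Cfsg.Agent.Lib.Helper33.Syl

set_option autoImplicit false
open Pointwise

namespace Cfsg.Agent.Helper49

open Cfsg.Agent.Helper33

variable {G : Type*} [Group G]

theorem subgroupConjRight_eq (g : G) (X : Subgroup G) :
    Cfsg.subgroupConjRight g X = MulAut.conj g⁻¹ • X := rfl

theorem mem_sylowMembers_iff [Finite G] {p : ℕ} [Fact p.Prime] (𝓕 : Set (Subgroup G))
    (S X : Subgroup G) :
    X ∈ Cfsg.sylowMembers p 𝓕 S ↔ X ∈ 𝓕 ∧ IsSylIn p (S ⊓ X) X := by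
  constructor
  · rintro ⟨hX, P, hP⟩
    refine ⟨hX, ?_⟩
    rw [← hP]
    exact isSylIn_of_sylow X P
  · rintro ⟨hX, hS⟩
    refine ⟨hX, hS.toSylow, ?_⟩
    rw [hS.coe_toSylow, Subgroup.subgroupOf_map_subtype]
    exact inf_eq_left.mpr inf_le_right

theorem sylowMembers_conj [Finite G] {p : ℕ} [Fact p.Prime] (𝓕 : Set (Subgroup G))
    (h𝓕 : Cfsg.IsNormalSet 𝓕) (S X : Subgroup G) (a : G)
    (hX : X ∈ Cfsg.sylowMembers p 𝓕 S) :
    MulAut.conj a • X ∈ Cfsg.sylowMembers p 𝓕 (MulAut.conj a • S) := by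
  rw [mem_sylowMembers_iff] at hX ⊢
  refine ⟨?_, ?_⟩
  · have := h𝓕 X hX.1 a⁻¹
    rwa [subgroupConjRight_eq, inv_inv] at this
  · rw [← conj_smul_inf]
    exact hX.2.conj a

end Cfsg.Agent.Helper49
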