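import Mathlib
import Cfsg.Prelude.Def_SylowChains
import Cfsg.Agent.Lib.Helper33.Syl
import Cfsg.Agent.Lib.Helper49.SylCtl

set_option autoImplicit false
open Pointwise

namespace Cfsg.Agent.Helper49

open Cfsg.Agent.Helper33

theorem rtg_lift {α β : Type*} {r : α → α → Prop} {q : β → β → Prop} (f : α → β)
    (h : ∀ a b, r a b → q (f a) (f b)) {a b : α} (hab : Relation.ReflTransGen r a b) :
    Relation.ReflTransGen q (f a) (f b) := by
  induction hab with
  | refl => exact Relation.ReflTransGen.refl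
  | tail _ hbc ih => exact ih.tail (h _ _ hbc)

section generic

variable {H : Type*} [Group H] [Finite H] {p : ℕ} [Fact p.Prime]

/-- The Sylow subgroup attached to a subgroup that is Sylow in `⊤`. -/
noncomputable def sylOfTop {c : Subgroup H} (h : IsSylIn p c ⊤) : Sylow p H :=
  IsPGroup.toSylow h.2.1 (by have := h.2.2; rwa [Subgroup.relIndex_top_right] at this)

theorem coe_sylOfTop {c : Subgroup H} (h : IsSylIn p c ⊤) :
    ((sylOfTop h : Sylow p H) : Subgroup H) = c := rfl

/-- One link of a Sylow chain, at the level of subgroups. -/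
def Link (p : ℕ) (𝓖 : Set (Subgroup H)) (D c c' : Subgroup H) : Prop :=
  IsSylIn p c ⊤ ∧ IsSylIn p c' ⊤ ∧ ∃ (X : Subgroup H) (x : H), X ∈ 𝓖 ∧ IsSylIn p (c ⊓ X) X ∧
    IsSylIn p (c' ⊓ X) X ∧ x ∈ X ∧ c' = MulAut.conj x • c ∧ D ≤ c' ⊓ X

theorem Link.mono {𝓖 : Set (Subgroup H)} {D D' c c' : Subgroup H} (h : Link p 𝓖 D c c')
    (hD : D' ≤ D) : Link p 𝓖 D' c c' := by
  obtain ⟨h1, h2, X, x, h3, h4, h5, h6, h7, h8⟩ := h
  exact ⟨h1, h2, X, x, h3, h4, h5, h6, h7, hD.trans h8⟩

theorem linked_mono {𝓖 : Set (Subgroup H)} {D D' c c' : Subgroup H}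
    (h : Relation.ReflTransGen (Link p 𝓖 D) c c') (hD : D' ≤ D) :
    Relation.ReflTransGen (Link p 𝓖 D') c c' :=
  rtg_lift id (fun _ _ (hl : Link p 𝓖 D _ _) => hl.mono hD) h

/-- From a Fin-indexed chain to `ReflTransGen`. -/
theorem linked_of_controls {𝓖 : Set (Subgroup H)} (hc : Cfsg.ControlsSylowIntersections p 𝓖)
    (c d : Subgroup H) (hcS : IsSylIn p c ⊤) (hdS : IsSylIn p d ⊤) (hne : c ≠ d)
    (hint : c ⊓ d ≠ ⊥) : Relation.ReflTransGen (Link p 𝓖 (c ⊓ d)) c d := by
  have hne' : sylOfTop hcS ≠ sylOfTop hdS := by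
    intro h
    apply hne
    have := congrArg (fun P : Sylow p H => (P : Subgroup H)) h
    exact this
  obtain ⟨n, e, X, x, he0, hen, hstep⟩ := hc (sylOfTop hcS) (sylOfTop hdS) hne' hint
  have hall : ∀ i : Fin (n + 1), Relation.ReflTransGen (Link p 𝓖 (c ⊓ d)) c (e i : Subgroup H) := by
    intro i
    induction i using Fin.induction with
    | zero => rw [he0]; exact Relation.ReflTransGen.refl
    | succ i ih =>
      obtain ⟨hX1, hX2, hx, hconj, hle⟩ := hstep i
      rw [mem_sylowMembers_iff] at hX1 hX2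
      refine Relation.ReflTransGen.tail ih ⟨isSylIn_top _, isSylIn_top _, X i, x i, hX1.1, hX1.2,
        hX2.2, hx, ?_, hle⟩
      rw [← hconj, subgroupConjRight_eq, conj_smul_inv_smul]
  have := hall (Fin.last n)
  rw [hen] at this
  exact this

/-- From `ReflTransGen` to a Fin-indexed chain. -/
theorem chain_of_linked {𝓖 : Set (Subgroup H)} (D₀ : Subgroup H) (S : Sylow p H) (d : Subgroup H)
    (h : Relation.ReflTransGen (Link p 𝓖 D₀) (S : Subgroup H) d) :
    ∃ (n : ℕ) (e : Fin (n + 1) → Sylow p H) (X : Fin n → Subgroup H) (x : Fin n → H),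
      e 0 = S ∧ ((e (Fin.last n) : Sylow p H) : Subgroup H) = d ∧
      ∀ i : Fin n,
        X i ∈ Cfsg.sylowMembers p 𝓖 (e i.castSucc : Subgroup H) ∧
        X i ∈ Cfsg.sylowMembers p 𝓖 (e i.succ : Subgroup H) ∧
        x i ∈ X i ∧ Cfsg.subgroupConjRight (x i) (e i.succ : Subgroup H) = (e i.castSucc : Subgroup H) ∧
        D₀ ≤ (e i.succ : Subgroup H) ⊓ X i := by
  induction h with
  | refl =>
    exact ⟨0, fun _ => S, Fin.elim0, Fin.elim0, rfl, rfl, fun i => i.elim0⟩
  | tail hab hbc ih =>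
    rename_i b c'
    obtain ⟨n, e, X, x, he0, hen, hstep⟩ := ih
    obtain ⟨hb, hc', X₀, x₀, hX₀, hs1, hs2, hx₀, hconj, hD⟩ := hbc
    refine ⟨n + 1, Fin.snoc (α := fun _ => Sylow p H) e (sylOfTop hc'),
      Fin.snoc (α := fun _ => Subgroup H) X X₀, Fin.snoc (α := fun _ => H) x x₀, ?_, ?_, ?_⟩
    · have : (0 : Fin (n + 1 + 1)) = (0 : Fin (n + 1)).castSucc := rfl
      rw [this, Fin.snoc_castSucc]
      exact he0
    · rw [Fin.snoc_last]; rfl
    · intro i
      refine Fin.lastCases ?_ (fun j => ?_) i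
      · -- the new link
        have e1 : Fin.snoc (α := fun _ => Sylow p H) e (sylOfTop hc') (Fin.last n).castSucc
            = e (Fin.last n) := Fin.snoc_castSucc (α := fun _ => Sylow p H) _ _ _
        have e2 : Fin.snoc (α := fun _ => Sylow p H) e (sylOfTop hc') (Fin.last n).succ
            = sylOfTop hc' := by
          rw [Fin.succ_last]; exact Fin.snoc_last (α := fun _ => Sylow p H) _ _
        have e3 : Fin.snoc (α := fun _ => Subgroup H) X X₀ (Fin.last n) = X₀ :=
          Fin.snoc_last (α := fun _ => Subgroup H) _ _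
        have e4 : Fin.snoc (α := fun _ => H) x x₀ (Fin.last n) = x₀ :=
          Fin.snoc_last (α := fun _ => H) _ _
        rw [e1, e2, e3, e4, hen, coe_sylOfTop]
        refine ⟨(mem_sylowMembers_iff _ _ _).mpr ⟨hX₀, hs1⟩,
          (mem_sylowMembers_iff _ _ _).mpr ⟨hX₀, hs2⟩, hx₀, ?_, hD⟩
        rw [subgroupConjRight_eq, hconj, conj_inv_smul_smul]
      · -- an old link
        have e1 : Fin.snoc (α := fun _ => Sylow p H) e (sylOfTop hc') j.castSucc.castSucc
            = e j.castSucc := Fin.snoc_castSucc (α := fun _ => Sylow p H) _ _ _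
        have e2 : Fin.snoc (α := fun _ => Sylow p H) e (sylOfTop hc') j.castSucc.succ
            = e j.succ := by
          rw [← Fin.castSucc_succ]; exact Fin.snoc_castSucc (α := fun _ => Sylow p H) _ _ _
        have e3 : Fin.snoc (α := fun _ => Subgroup H) X X₀ j.castSucc = X j :=
          Fin.snoc_castSucc (α := fun _ => Subgroup H) _ _ _
        have e4 : Fin.snoc (α := fun _ => H) x x₀ j.castSucc = x j :=
          Fin.snoc_castSucc (α := fun _ => H) _ _ _
        rw [e1, e2, e3, e4]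
        exact hstep j

theorem controls_of_linked {𝓖 : Set (Subgroup H)}
    (h : ∀ c d : Subgroup H, IsSylIn p c ⊤ → IsSylIn p d ⊤ → c ≠ d → c ⊓ d ≠ ⊥ →
      Relation.ReflTransGen (Link p 𝓖 (c ⊓ d)) c d) :
    Cfsg.ControlsSylowIntersections p 𝓖 := by
  intro S T hne hint
  have hne' : (S : Subgroup H) ≠ (T : Subgroup H) := fun h' => hne (Sylow.ext h')
  obtain ⟨n, e, X, x, he0, hen, hstep⟩ :=
    chain_of_linked _ S _ (h S T (isSylIn_top S) (isSylIn_top T) hne' hint)
  exact ⟨n, e, X, x, he0, Sylow.ext hen, hstep⟩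

end generic

section functor

variable {G : Type*} [Group G] [Finite G] {p : ℕ} [Fact p.Prime]

theorem isSylIn_subgroupOf_top {c M : Subgroup G} (h : IsSylIn p c M) :
    IsSylIn p (c.subgroupOf M) ⊤ := by
  refine ⟨le_top, h.2.1.comap_subtype, ?_⟩
  rw [Subgroup.relIndex_top_right]
  exact h.2.2

theorem isSylIn_map_of_top {M : Subgroup G} {c' : Subgroup M} (h : IsSylIn p c' ⊤) :
    IsSylIn p (c'.map M.subtype) M :=
  isSylIn_of_sylow M (sylOfTop h)

theorem map_subtype_subgroupOf_of_le {c M : Subgroup G} (h : c ≤ M) :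
    (c.subgroupOf M).map M.subtype = c := by
  rw [Subgroup.subgroupOf_map_subtype]; exact inf_eq_left.mpr h

theorem subgroupOf_map_subtype' {M : Subgroup G} (c' : Subgroup M) :
    (c'.map M.subtype).subgroupOf M = c' :=
  Subgroup.comap_map_eq_self_of_injective M.subtype_injective c'

omit [Finite G] [Fact p.Prime] in
theorem map_subtype_conj_smul {M : Subgroup G} (x : M) (c' : Subgroup M) :
    (MulAut.conj x • c').map M.subtype = MulAut.conj (x : G) • (c'.map M.subtype) := by
  ext y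
  constructor
  · rintro ⟨z, hz, rfl⟩
    have hz' : z ∈ MulAut.conj x • c' := hz
    rw [mem_conj_smul] at hz' ⊢
    exact ⟨x⁻¹ * z * x, hz', by simp⟩
  · intro hy
    rw [mem_conj_smul] at hy
    obtain ⟨z, hz, hzy⟩ := hy
    refine ⟨x * z * x⁻¹, ?_, ?_⟩
    · show x * z * x⁻¹ ∈ MulAut.conj x • c'
      rw [mem_conj_smul]
      have : x⁻¹ * (x * z * x⁻¹) * x = z := by group
      rw [this]; exact hz
    · have : M.subtype (x * z * x⁻¹) = (x : G) * M.subtype z * (x : G)⁻¹ := by simp
      rw [this, hzy]; group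

/-- One step of an `f`-chain inside `M`, at the level of subgroups of the ambient group. -/
def FStep (p : ℕ) (f : Subgroup G → Set (Subgroup G)) (M D c c' : Subgroup G) : Prop :=
  IsSylIn p c M ∧ ∃ F ∈ f c, ∃ x ∈ M ⊓ Subgroup.normalizer (F : Set G),
    c' = MulAut.conj x • c ∧ D ≤ c'

omit [Finite G] [Fact p.Prime] in
theorem FStep.isSylIn_right {f : Subgroup G → Set (Subgroup G)} {M D c c' : Subgroup G}
    (h : FStep p f M D c c') : IsSylIn p c' M := by
  obtain ⟨hc, F, -, x, hx, rfl, -⟩ := h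
  have := hc.conj x
  rwa [conj_smul_eq_self_of_mem hx.1] at this

omit [Finite G] [Fact p.Prime] in
theorem FStep.mono {f : Subgroup G → Set (Subgroup G)} {M D D' c c' : Subgroup G}
    (h : FStep p f M D c c') (hD : D' ≤ D) : FStep p f M D' c c' := by
  obtain ⟨hc, F, hF, x, hx, h1, h2⟩ := h
  exact ⟨hc, F, hF, x, hx, h1, hD.trans h2⟩

/-- The family `𝓕₁` of subgroups of `↥M` in the definition of `IsFunctorRegular`. -/
def famIn (p : ℕ) (f : Subgroup G → Set (Subgroup G)) (M : Subgroup G) : Set (Subgroup M) :=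
  (fun X : Subgroup G => X.subgroupOf M) '' Cfsg.functorFamily p f M

theorem fstep_of_link {f : Subgroup G → Set (Subgroup G)} (hf : Cfsg.IsNormalizerFunctor p f)
    (M : Subgroup G) (D' c' d' : Subgroup M) (h : Link p (famIn p f M) D' c' d') :
    FStep p f M (D'.map M.subtype) (c'.map M.subtype) (d'.map M.subtype) := by
  obtain ⟨hc', hd', X', x', ⟨X, ⟨P, F, hF, rfl⟩, rfl⟩, hs1, hs2, hx', hconj, hD⟩ := h
  set PG : Subgroup G := (P : Subgroup M).map M.subtype with hPG
  have hPGp : IsPGroup p PG := P.isPGroup'.map _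
  obtain ⟨hfP1, hfP2⟩ := hf PG hPGp
  obtain ⟨hFPG, hNPG⟩ := hfP1 F hF
  have hPGM : PG ≤ M := Subgroup.map_subtype_le _
  have hPGX : PG ≤ M ⊓ Subgroup.normalizer (F : Set G) :=
    le_inf hPGM (Subgroup.le_normalizer.trans hNPG)
  have hPX' : (P : Subgroup M) ≤ (M ⊓ Subgroup.normalizer (F : Set G)).subgroupOf M := by
    intro y hy
    rw [Subgroup.mem_subgroupOf]
    exact hPGX ⟨y, hy, rfl⟩
  have hPsyl : IsSylIn p (P : Subgroup M) ((M ⊓ Subgroup.normalizer (F : Set G)).subgroupOf M) :=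
    (isSylIn_top P).of_le hPX' le_top
  have hcard1 : Nat.card (c' ⊓ (M ⊓ Subgroup.normalizer (F : Set G)).subgroupOf M : Subgroup M) =
      Nat.card (P : Subgroup M) := hs1.card_eq hPsyl
  have hcard2 : Nat.card c' = Nat.card (P : Subgroup M) := hc'.card_eq (isSylIn_top P)
  have hc'X : c' ≤ (M ⊓ Subgroup.normalizer (F : Set G)).subgroupOf M := by
    have : c' ⊓ (M ⊓ Subgroup.normalizer (F : Set G)).subgroupOf M = c' := by
      apply Subgroup.eq_of_le_of_card_ge inf_le_left
      rw [hcard1, hcard2]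
    rw [← this]; exact inf_le_right
  set c : Subgroup G := c'.map M.subtype with hc
  have hcX : c ≤ M ⊓ Subgroup.normalizer (F : Set G) := by
    rintro _ ⟨y, hy, rfl⟩
    exact Subgroup.mem_subgroupOf.mp (hc'X hy)
  have hcM : IsSylIn p c M := isSylIn_map_of_top hc'
  have hPM : IsSylIn p PG M := isSylIn_of_sylow M P
  obtain ⟨t, ht, htc⟩ := (hcM.of_le hcX inf_le_left).exists_conj_eq (hPM.of_le hPGX inf_le_left)
  have hFc : F ∈ f c := by
    have h1 := hfP2 t
    rw [map_conj_eq_smul, htc] at h1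
    rw [h1]
    refine ⟨F, hF, ?_⟩
    show Subgroup.map (MulEquiv.toMonoidHom (MulAut.conj t)) F = F
    rw [map_conj_eq_smul]
    exact smul_eq_of_mem_normalizer ht.2
  refine ⟨hcM, F, hFc, (x' : G), ?_, ?_, ?_⟩
  · exact Subgroup.mem_subgroupOf.mp hx'
  · rw [hconj, map_subtype_conj_smul]
  · exact Subgroup.map_mono (hD.trans inf_le_left)

theorem link_of_fstep {f : Subgroup G → Set (Subgroup G)} (hf : Cfsg.IsNormalizerFunctor p f)
    (M : Subgroup G) (D c d : Subgroup G) (h : FStep p f M D c d) :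
    Link p (famIn p f M) (D.subgroupOf M) (c.subgroupOf M) (d.subgroupOf M) := by
  have hd := h.isSylIn_right
  obtain ⟨hc, F, hF, x, hx, hconj, hD⟩ := h
  have hc' := isSylIn_subgroupOf_top hc
  have hd' := isSylIn_subgroupOf_top hd
  obtain ⟨hfc1, -⟩ := hf c hc.2.1
  obtain ⟨hFc, hNc⟩ := hfc1 F hF
  set X : Subgroup G := M ⊓ Subgroup.normalizer (F : Set G) with hX
  have hcX : c ≤ X := le_inf hc.1 (Subgroup.le_normalizer.trans hNc)
  have hdX : d ≤ X := by
    rw [hconj]
    have := conj_smul_le_conj_smul (g := x) hcX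
    rwa [conj_smul_eq_self_of_mem hx] at this
  have hXfam : X.subgroupOf M ∈ famIn p f M := by
    refine ⟨X, ⟨sylOfTop hc', F, ?_, rfl⟩, rfl⟩
    rw [coe_sylOfTop, map_subtype_subgroupOf_of_le hc.1]
    exact hF
  have hc'X : c.subgroupOf M ≤ X.subgroupOf M := Subgroup.comap_mono hcX
  have hd'X : d.subgroupOf M ≤ X.subgroupOf M := Subgroup.comap_mono hdX
  refine ⟨hc', hd', X.subgroupOf M, ⟨x, hx.1⟩, hXfam, ?_, ?_, ?_, ?_, ?_⟩
  · rw [inf_eq_left.mpr hc'X]
    exact hc'.of_le hc'X le_top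
  · rw [inf_eq_left.mpr hd'X]
    exact hd'.of_le hd'X le_top
  · exact Subgroup.mem_subgroupOf.mpr hx
  · apply Subgroup.map_injective M.subtype_injective
    rw [map_subtype_conj_smul, map_subtype_subgroupOf_of_le hd.1,
      map_subtype_subgroupOf_of_le hc.1]
    exact hconj
  · exact le_inf (Subgroup.comap_mono hD) (Subgroup.comap_mono (hD.trans hdX))

/-- Ambient-level characterization of `IsFunctorRegular`. -/
theorem regular_iff {f : Subgroup G → Set (Subgroup G)} (hf : Cfsg.IsNormalizerFunctor p f)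
    (M : Subgroup G) :
    Cfsg.IsFunctorRegular p f M ↔
      ∀ c d : Subgroup G, IsSylIn p c M → IsSylIn p d M → c ≠ d → c ⊓ d ≠ ⊥ →
        Relation.ReflTransGen (FStep p f M (c ⊓ d)) c d := by
  constructor
  · intro hr c d hc hd hne hint
    have hc' := isSylIn_subgroupOf_top hc
    have hd' := isSylIn_subgroupOf_top hd
    have hne' : c.subgroupOf M ≠ d.subgroupOf M := by
      intro h
      apply hne
      rw [← map_subtype_subgroupOf_of_le hc.1, ← map_subtype_subgroupOf_of_le hd.1, h]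
    have hinf : c.subgroupOf M ⊓ d.subgroupOf M = (c ⊓ d).subgroupOf M := by
      ext y; simp [Subgroup.mem_subgroupOf]
    have hint' : c.subgroupOf M ⊓ d.subgroupOf M ≠ ⊥ := by
      rw [hinf]
      intro h
      apply hint
      rw [← map_subtype_subgroupOf_of_le (inf_le_left.trans hc.1 : c ⊓ d ≤ M), h, Subgroup.map_bot]
    have h1 := linked_of_controls (p := p) hr _ _ hc' hd' hne' hint'
    have h2 := rtg_lift (fun c' : Subgroup M => c'.map M.subtype)
      (fun a b hab => fstep_of_link hf M _ a b hab) h1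
    rw [map_subtype_subgroupOf_of_le hc.1, map_subtype_subgroupOf_of_le hd.1, hinf,
      map_subtype_subgroupOf_of_le (inf_le_left.trans hc.1 : c ⊓ d ≤ M)] at h2
    exact h2
  · intro h
    apply controls_of_linked
    intro c' d' hc' hd' hne hint
    have hc := isSylIn_map_of_top hc'
    have hd := isSylIn_map_of_top hd'
    have hne' : c'.map M.subtype ≠ d'.map M.subtype := by
      intro h'
      exact hne (Subgroup.map_injective M.subtype_injective h')
    have hinf : c'.map M.subtype ⊓ d'.map M.subtype = (c' ⊓ d').map M.subtype :=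
      (Subgroup.map_inf c' d' M.subtype M.subtype_injective).symm
    have hint' : c'.map M.subtype ⊓ d'.map M.subtype ≠ ⊥ := by
      rw [hinf]
      intro h'
      exact hint ((Subgroup.map_eq_bot_iff_of_injective _ M.subtype_injective).mp h')
    have h1 := h _ _ hc hd hne' hint'
    have h2 := rtg_lift (fun c : Subgroup G => c.subgroupOf M)
      (fun a b hab => link_of_fstep hf M _ a b hab) h1
    rw [subgroupOf_map_subtype', subgroupOf_map_subtype', hinf, subgroupOf_map_subtype'] at h2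
    exact h2

/-- Enlarging the ambient subgroup of a step (the Sylow condition in the larger group being
supplied). -/
theorem FStep.to_top {f : Subgroup G → Set (Subgroup G)} {M D c c' : Subgroup G}
    (h : FStep p f M D c c') (hc : IsSylIn p c ⊤) : FStep p f ⊤ D c c' := by
  obtain ⟨-, F, hF, x, hx, h1, h2⟩ := h
  exact ⟨hc, F, hF, x, ⟨Subgroup.mem_top x, hx.2⟩, h1, h2⟩

/-- A Sylow subgroup of a subgroup `M` containing a Sylow subgroup of `G` is a Sylow subgroup
of `G`. -/
theorem isSylIn_top_of_isSylIn {c M : Subgroup G} (S : Sylow p G) (hSM : (S : Subgroup G) ≤ M)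
    (hc : IsSylIn p c M) : IsSylIn p c ⊤ := by
  have hS : IsSylIn p (S : Subgroup G) M := (isSylIn_top S).of_le hSM le_top
  exact (isSylIn_top S).of_card_le hc.2.1 le_top (hS.card_eq hc).le

theorem linked_to_top {f : Subgroup G → Set (Subgroup G)} {M D c c' : Subgroup G}
    (S : Sylow p G) (hSM : (S : Subgroup G) ≤ M)
    (h : Relation.ReflTransGen (FStep p f M D) c c') :
    Relation.ReflTransGen (FStep p f ⊤ D) c c' :=
  rtg_lift id (fun _ _ (hl : FStep p f M D _ _) =>
    hl.to_top (isSylIn_top_of_isSylIn S hSM hl.1)) h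

theorem flinked_mono {f : Subgroup G → Set (Subgroup G)} {M D D' c c' : Subgroup G}
    (h : Relation.ReflTransGen (FStep p f M D) c c') (hD : D' ≤ D) :
    Relation.ReflTransGen (FStep p f M D') c c' :=
  rtg_lift id (fun _ _ (hl : FStep p f M D _ _) => hl.mono hD) h

/-- Conjugating a step in `⊤`. -/
theorem FStep.conj_top {f : Subgroup G → Set (Subgroup G)} (hf : Cfsg.IsNormalizerFunctor p f)
    {D c c' : Subgroup G} (h : FStep p f ⊤ D c c') (g : G) :
    FStep p f ⊤ (MulAut.conj g • D) (MulAut.conj g • c) (MulAut.conj g • c') := by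
  obtain ⟨hc, F, hF, x, hx, h1, h2⟩ := h
  have hc' : IsSylIn p (MulAut.conj g • c) ⊤ := by
    have := hc.conj g
    rwa [conj_smul_top] at this
  refine ⟨hc', MulAut.conj g • F, ?_, g * x * g⁻¹, ⟨Subgroup.mem_top _, ?_⟩, ?_, ?_⟩
  · have := (hf c hc.2.1).2 g
    rw [map_conj_eq_smul] at this
    rw [this]
    exact ⟨F, hF, rfl⟩
  · rw [normalizer_conj_smul]
    exact conj_mem_conj_smul hx.2
  · rw [h1, ← conj_mul_smul, ← conj_mul_smul]
    congr 2
    group
  · exact conj_smul_le_conj_smul h2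

theorem flinked_conj_top {f : Subgroup G → Set (Subgroup G)} (hf : Cfsg.IsNormalizerFunctor p f)
    {D c c' : Subgroup G} (h : Relation.ReflTransGen (FStep p f ⊤ D) c c') (g : G) :
    Relation.ReflTransGen (FStep p f ⊤ (MulAut.conj g • D)) (MulAut.conj g • c)
      (MulAut.conj g • c') :=
  rtg_lift (fun c : Subgroup G => MulAut.conj g • c)
    (fun _ _ (hl : FStep p f ⊤ D _ _) => hl.conj_top hf g) h

end functor

end Cfsg.Agent.Helper49
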