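import Mathlib
import Cfsg.Prelude.Def_FischerSpaces
import Cfsg.Agent.Lib.Helper20.ZStarClass
import Cfsg.Agent.Lib.Helper88.ThreeTrans

set_option autoImplicit false

/-!
# Width one sets of 3-transpositions (helper49)

Conditional on `Helper20.ZStarHyp` (the statement of S0215): a conjugation-invariant set of
3-transpositions no two of whose distinct members commute has all its products `a * b` in `O_3`.
-/

namespace Cfsg.Agent.Helper49

open Cfsg Cfsg.Agent.Helper88

universe u

section width

variable {G : Type*} [Group G]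

theorem width_bddAbove [Finite G] (D : Set G) :
    BddAbove {n : ℕ | ∃ E : Set G, E ⊆ D ∧ E.Finite ∧ (∀ a ∈ E, ∀ b ∈ E, Commute a b) ∧ E.ncard = n} := by
  refine ⟨Nat.card G, ?_⟩
  rintro n ⟨E, -, -, -, rfl⟩
  rw [← Set.ncard_univ]
  exact Set.ncard_le_ncard (Set.subset_univ E) Set.finite_univ

/-- width one means that no two distinct members commute -/
theorem eq_of_commute_of_width_one [Finite G] {D : Set G} (hw : commutingWidth D = 1) {a b : G}
    (ha : a ∈ D) (hb : b ∈ D) (hab : Commute a b) : a = b := by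
  by_contra hne
  have hmem : 2 ∈ {n : ℕ | ∃ E : Set G, E ⊆ D ∧ E.Finite ∧ (∀ a ∈ E, ∀ b ∈ E, Commute a b) ∧
      E.ncard = n} := by
    refine ⟨{a, b}, ?_, Set.toFinite _, ?_, Set.ncard_pair hne⟩
    · intro x hx
      rcases hx with rfl | rfl
      · exact ha
      · exact hb
    · intro x hx y hy
      rcases hx with rfl | rfl <;> rcases hy with rfl | rfl
      · exact Commute.refl _
      · exact hab
      · exact hab.symm
      · exact Commute.refl _
  have := le_csSup (width_bddAbove D) hmem
  unfold commutingWidth at hw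
  omega

theorem width_one_of_eq_of_commute [Finite G] {D : Set G} {d : G} (hd : d ∈ D)
    (h : ∀ a ∈ D, ∀ b ∈ D, Commute a b → a = b) : commutingWidth D = 1 := by
  unfold commutingWidth
  apply IsGreatest.csSup_eq
  constructor
  · refine ⟨{d}, ?_, Set.finite_singleton d, ?_, Set.ncard_singleton d⟩
    · intro x hx; rw [Set.mem_singleton_iff] at hx; rw [hx]; exact hd
    · intro x hx y hy
      rw [Set.mem_singleton_iff] at hx hy
      rw [hx, hy]
  · rintro n ⟨E, hED, hEf, hEc, rfl⟩
    rw [Set.ncard_le_one hEf]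
    intro a ha b hb
    exact h a (hED ha) b (hED hb) (hEc a ha b hb)

end width

section core

/-- non-commuting members of a set of 3-transpositions are conjugate -/
theorem TT_conj_of_not_commute {G : Type*} [Group G] {D : Set G} (hT : TT D) {d e : G}
    (hd : d ∈ D) (he : e ∈ D) (hne : ¬ Commute d e) : (d * e) * d * (d * e)⁻¹ = e := by
  have h1 : e * d * e⁻¹ = d * e * d⁻¹ := hT.conj_swap hd he hne
  have hdi := hT.inv_eq hd
  calc (d * e) * d * (d * e)⁻¹ = d * (e * d * e⁻¹) * d⁻¹ := by group
    _ = d * (d * e * d⁻¹) * d⁻¹ := by rw [h1]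
    _ = (d * d) * e * (d * d)⁻¹ := by group
    _ = e := by rw [hT.sq d hd]; group

/-- the width one theorem, from the `Z*`-hypothesis: all products lie in `O_3(G)` -/
theorem width_one_core (h : Cfsg.Agent.Helper20.ZStarHyp.{u}) {G : Type u} [Group G] [Finite G]
    {D : Set G} (hT : TT D) (hne1 : ∀ d ∈ D, d ≠ 1)
    (hw : ∀ a ∈ D, ∀ b ∈ D, Commute a b → a = b) :
    ∀ a ∈ D, ∀ b ∈ D, a * b ∈ pCore 3 G := by
  intro a ha b hb
  have ha2 : orderOf a = 2 := by
    apply orderOf_eq_prime
    · rw [pow_two]; exact hT.sq a ha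
    · exact hne1 a ha
  have hconjD : ∀ x ∈ conjugatesOf a, x ∈ D := by
    intro x hx
    have hx' : IsConj a x := hx
    obtain ⟨g, rfl⟩ := isConj_iff.mp hx'
    exact hT.conj g a ha
  have hprod : ∀ x ∈ conjugatesOf a, ∀ y ∈ conjugatesOf a, ∃ k : ℕ, orderOf (x * y) = 3 ^ k := by
    intro x hx y hy
    have hxD := hconjD x hx
    have hyD := hconjD y hy
    rcases hT.commute_or_cube hxD hyD with hc | h3
    · refine ⟨0, ?_⟩
      have := hw x hxD y hyD hc
      rw [this, hT.sq y hyD, orderOf_one, pow_zero]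
    · have hdvd : orderOf (x * y) ∣ 3 := orderOf_dvd_of_pow_eq_one h3
      rcases (Nat.dvd_prime Nat.prime_three).mp hdvd with h1 | h1
      · exact ⟨0, by rw [h1, pow_zero]⟩
      · exact ⟨1, by rw [h1, pow_one]⟩
  have hb' : b ∈ conjugatesOf a := by
    by_cases hc : Commute a b
    · rw [← hw a ha b hb hc]; exact mem_conjugatesOf_self
    · show IsConj a b
      rw [isConj_iff]
      exact ⟨a * b, TT_conj_of_not_commute hT ha hb hc⟩
  exact Cfsg.Agent.Helper20.mul_mem_pCore_of_class h Nat.prime_three (by norm_num) a ha2 hprod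
    a mem_conjugatesOf_self b hb'

end core

section s5346

/-- the statement of S5346, from the `Z*`-hypothesis -/
theorem width_one_iff_of_zstar (h : Cfsg.Agent.Helper20.ZStarHyp.{u}) {G : Type u} [Group G]
    [Finite G] {D : Set G} (hD : Cfsg.IsThreeTranspositionGroup D) {d : G} (hd : d ∈ D) :
    Cfsg.commutingWidth D = 1 ↔ Subgroup.zpowers d ⊔ Cfsg.pCore 3 G = ⊤ := by
  have hT : TT D := TT.of_group hD
  have hne1 : ∀ e ∈ D, e ≠ 1 := by
    intro e he h1
    have := hD.1.1 e he
    rw [h1, orderOf_one] at this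
    omega
  have : Fact (Nat.Prime 3) := ⟨Nat.prime_three⟩
  constructor
  · intro hw
    have hcore := width_one_core h hT hne1
      (fun a ha b hb hab => eq_of_commute_of_width_one hw ha hb hab)
    rw [eq_top_iff, ← hD.2.2, Subgroup.closure_le]
    intro e he
    have h1 : e * d ∈ pCore 3 G := hcore e he d hd
    have h2 : e = (e * d) * d := by
      rw [mul_assoc, hT.sq d hd, mul_one]
    rw [h2]
    exact Subgroup.mul_mem _ (Subgroup.mem_sup_right h1)
      (Subgroup.mem_sup_left (Subgroup.mem_zpowers d))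
  · intro htop
    apply width_one_of_eq_of_commute hd
    intro a ha b hb hab
    -- images in the quotient by `O_3(G)`
    have hN : (pCore 3 G).Normal := pCore_normal 3 G
    have h3 : IsPGroup 3 (pCore 3 G) := pCore_isPGroup 3 G
    -- every element of `G` is `d^i * r`
    have hform : ∀ x : G, x ∈ pCore 3 G ∨ x * d ∈ pCore 3 G := by
      intro x
      have hx : x ∈ Subgroup.zpowers d ⊔ pCore 3 G := by rw [htop]; trivial
      rw [Subgroup.mem_sup_of_normal_right] at hx
      obtain ⟨y, hy, r, hr, rfl⟩ := hx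
      obtain ⟨i, rfl⟩ := Subgroup.mem_zpowers_iff.mp hy
      have hdd := hT.sq d hd
      rcases Int.even_or_odd i with ⟨k, hk⟩ | ⟨k, hk⟩
      · left
        have : d ^ i = 1 := by
          rw [hk, ← two_mul, zpow_mul, zpow_ofNat, pow_two, hdd, one_zpow]
        rw [this, one_mul]; exact hr
      · right
        have : d ^ i = d := by
          rw [hk, zpow_add, zpow_mul, zpow_ofNat, pow_two, hdd, one_zpow, one_mul, zpow_one]
        rw [this]
        have e : d * r * d = d * r * d⁻¹ := by rw [hT.inv_eq hd]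
        rw [e]
        exact hN.conj_mem r hr d
    have hinvol_not_mem : ∀ e ∈ D, e ∉ pCore 3 G := by
      intro e he hmem
      obtain ⟨k, hk⟩ := (IsPGroup.iff_orderOf.mp h3) ⟨e, hmem⟩
      rw [Subgroup.orderOf_mk, hD.1.1 e he] at hk
      have : (2 : ℕ) ∣ 3 ^ k := by rw [← hk]
      have := Nat.Prime.dvd_of_dvd_pow Nat.prime_two this
      omega
    have had : a * d ∈ pCore 3 G := (hform a).resolve_left (hinvol_not_mem a ha)
    have hbd : b * d ∈ pCore 3 G := (hform b).resolve_left (hinvol_not_mem b hb)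
    have hab' : a * b ∈ pCore 3 G := by
      have e : a * b = (a * d) * (b * d)⁻¹ := by
        rw [mul_inv_rev, hT.inv_eq hd, hT.inv_eq hb]
        calc a * b = a * (d * d) * b := by rw [hT.sq d hd, mul_one]
          _ = a * d * (d * b) := by group
      rw [e]
      exact Subgroup.mul_mem _ had (Subgroup.inv_mem _ hbd)
    have hsq : (a * b) * (a * b) = 1 := sq_eq_one_of_commute (hT.sq a ha) (hT.sq b hb) hab
    obtain ⟨k, hk⟩ := (IsPGroup.iff_orderOf.mp h3) ⟨a * b, hab'⟩
    rw [Subgroup.orderOf_mk] at hk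
    have hdvd : orderOf (a * b) ∣ 2 := orderOf_dvd_of_pow_eq_one (by rw [pow_two]; exact hsq)
    have h1 : orderOf (a * b) = 1 := by
      rcases (Nat.dvd_prime Nat.prime_two).mp hdvd with h1 | h2
      · exact h1
      · exfalso
        rw [h2] at hk
        have : (2 : ℕ) ∣ 3 ^ k := by rw [← hk]
        have := Nat.Prime.dvd_of_dvd_pow Nat.prime_two this
        omega
    rw [orderOf_eq_one_iff] at h1
    have : a = b⁻¹ := eq_inv_of_mul_eq_one_left h1
    rw [this, hT.inv_eq hb]

end s5346

end Cfsg.Agent.Helper49
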