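import Mathlib
import Cfsg.Agent.Lib.Helper49.TTWidth

set_option autoImplicit false

/-!
# The relation `D_a = D_b` on a class of 3-transpositions (helper49)

`Dm D a` is the set of members of `D` other than `a` that commute with `a`. For `p, p'` with
`Dm D p = Dm D p'` the product `p * p'` fixes every class of this relation (elementary).
-/

namespace Cfsg.Agent.Helper49

open Cfsg Cfsg.Agent.Helper88

universe u

section theta

variable {G : Type*} [Group G]

/-- members of `D` other than `a` commuting with `a` -/
def Dm (D : Set G) (a : G) : Set G := {y | y ∈ D ∧ y ≠ a ∧ Commute a y}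

theorem mem_Dm_conj {D : Set G} (hT : TT D) (g a y : G) :
    y ∈ Dm D (g * a * g⁻¹) ↔ g⁻¹ * y * g ∈ Dm D a := by
  unfold Dm
  simp only [Set.mem_ofPred_eq]
  constructor
  · rintro ⟨hy, hne, hc⟩
    refine ⟨hT.conj' hy g, ?_, ?_⟩
    · intro h; apply hne; rw [← h]; group
    · exact (commute_conj_iff g a y).mp hc
  · rintro ⟨hy, hne, hc⟩
    refine ⟨?_, ?_, ?_⟩
    · have := hT.conj g _ hy
      have e : g * (g⁻¹ * y * g) * g⁻¹ = y := by group
      rwa [e] at this
    · intro h; apply hne; rw [h]; group
    · exact (commute_conj_iff g a y).mpr hc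

theorem Dm_conj_eq {D : Set G} (hT : TT D) {a b : G} (h : Dm D a = Dm D b) (g : G) :
    Dm D (g * a * g⁻¹) = Dm D (g * b * g⁻¹) := by
  ext y
  rw [mem_Dm_conj hT, mem_Dm_conj hT, h]

theorem eq_of_Dm_eq_of_commute {D : Set G} {a b : G} (hb : b ∈ D)
    (h : Dm D a = Dm D b) (hc : Commute a b) : a = b := by
  by_contra hne
  have h1 : b ∈ Dm D a := ⟨hb, fun h => hne h.symm, hc⟩
  rw [h] at h1
  exact h1.2.1 rfl

theorem commute_invol_conj {s a b : G} (hs : s * s = 1) (h : Commute a b) :
    Commute (s * a * s) (s * b * s) := by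
  show s * a * s * (s * b * s) = s * b * s * (s * a * s)
  calc s * a * s * (s * b * s) = s * a * (s * s) * b * s := by group
    _ = s * (a * b) * s := by rw [hs]; group
    _ = s * (b * a) * s := by rw [h.eq]
    _ = s * b * (s * s) * a * s := by rw [hs]; group
    _ = s * b * s * (s * a * s) := by group

theorem invol_conj_conj {s a : G} (hs : s * s = 1) : s * (s * a * s) * s = a := by
  calc s * (s * a * s) * s = (s * s) * a * (s * s) := by group
    _ = a := by rw [hs, one_mul, mul_one]

/-- the key computation in `S_4` -/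
theorem key_commute {D : Set G} (hT : TT D) {p p' q f : G} (hp : p ∈ D) (hp' : p' ∈ D)
    (hq : q ∈ D) (hf : f ∈ D) (hθ : Dm D p = Dm D p') (hqf : Commute q f) (hne : q ≠ f)
    (hpf : ¬ Commute p f) (hp'f : ¬ Commute p' f) :
    Commute ((p * p') * q * (p * p')⁻¹) f := by
  have hpp := hT.sq p hp
  have hp'p' := hT.sq p' hp'
  have hqq := hT.sq q hq
  have hff := hT.sq f hf
  have hbr' : p' * f * p' = f * p' * f := hT.braid hp' hf hp'f
  have hbr : p * f * p = f * p * f := hT.braid hp hf hpf
  have hfqf : f * q * f = q := by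
    calc f * q * f = (q * f) * f := by rw [hqf.eq]
      _ = q := by rw [mul_assoc, hff, mul_one]
  set g' := f * (p' * q * p') * f with hg'
  have hr'D : p' * q * p' ∈ D := by
    have := hT.conj p' q hq
    rwa [hT.inv_eq hp'] at this
  have hg'D : g' ∈ D := by
    have := hT.conj f _ hr'D
    rwa [hT.inv_eq hf] at this
  have halt : (p' * f * p') * q * (p' * f * p') = g' := by
    rw [hbr', hg']
    calc f * p' * f * q * (f * p' * f) = f * p' * (f * q * f) * p' * f := by group
      _ = f * (p' * q * p') * f := by rw [hfqf]; group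
  have hconj' : p' * g' * p' = g' := by
    have : p' * g' * p' = (p' * f * p') * q * (p' * f * p') := by rw [hg']; group
    rw [this, halt]
  have hcomm' : Commute p' g' := by
    show p' * g' = g' * p'
    calc p' * g' = p' * g' * (p' * p') := by rw [hp'p', mul_one]
      _ = (p' * g' * p') * p' := by group
      _ = g' * p' := by rw [hconj']
  have hne' : g' ≠ p' := by
    intro h
    apply hne
    have h1 : p' * q * p' = f * p' * f := by
      have : f * g' * f = f * p' * f := by rw [h]
      rw [hg'] at this
      rw [← this]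
      calc p' * q * p' = (f * f) * (p' * q * p') * (f * f) := by rw [hff, one_mul, mul_one]
        _ = f * (f * (p' * q * p') * f) * f := by group
    rw [← hbr'] at h1
    calc q = p' * (p' * q * p') * p' := (invol_conj_conj hp'p').symm
      _ = p' * (p' * f * p') * p' := by rw [h1]
      _ = f := invol_conj_conj hp'p'
  have hmem : g' ∈ Dm D p := by
    rw [hθ]
    exact ⟨hg'D, hne', hcomm'⟩
  have hcp : Commute p g' := hmem.2.2
  -- conjugate by `f`
  have h1 : Commute (f * p * f) (f * g' * f) := commute_invol_conj hff hcp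
  have h2 : f * g' * f = p' * q * p' := by
    rw [hg']
    calc f * (f * (p' * q * p') * f) * f = (f * f) * (p' * q * p') * (f * f) := by group
      _ = p' * q * p' := by rw [hff, one_mul, mul_one]
  rw [h2, ← hbr] at h1
  -- conjugate by `p`
  have h3 : Commute (p * (p * f * p) * p) (p * (p' * q * p') * p) := commute_invol_conj hpp h1
  rw [invol_conj_conj hpp] at h3
  have h4 : (p * p') * q * (p * p')⁻¹ = p * (p' * q * p') * p := by
    rw [mul_inv_rev, hT.inv_eq hp, hT.inv_eq hp']; group
  rw [h4]
  exact h3.symm

/-- the second computation in `S_4` -/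
theorem key_ne {D : Set G} (hT : TT D) {p p' q : G} (hp : p ∈ D) (hp' : p' ∈ D) (hq : q ∈ D)
    (hθ : Dm D p = Dm D p') (hp'q : ¬ Commute p' q)
    (hc : Commute q ((p * p') * q * (p * p')⁻¹)) : (p * p') * q * (p * p')⁻¹ = q := by
  have hpp := hT.sq p hp
  have hp'p' := hT.sq p' hp'
  have hqq := hT.sq q hq
  have h4 : (p * p') * q * (p * p')⁻¹ = p * (p' * q * p') * p := by
    rw [mul_inv_rev, hT.inv_eq hp, hT.inv_eq hp']; group
  rw [h4] at hc ⊢
  set r := p' * q * p' with hr
  have hrD : r ∈ D := by
    have := hT.conj p' q hq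
    rwa [hT.inv_eq hp'] at this
  have hrr := hT.sq r hrD
  have hbr : p' * q * p' = q * p' * q := hT.braid hp' hq hp'q
  -- `p' = r q r`
  have hp'eq : p' = r * q * r := by
    have h1 : r = q * p' * q := by rw [hr, hbr]
    calc p' = q * (q * p' * q) * q := (invol_conj_conj hqq).symm
      _ = q * r * q := by rw [← h1]
      _ = r * q * r := by
        have hnc : ¬ Commute q r := by
          intro h
          apply hp'q
          have := commute_invol_conj hqq h
          rw [h1, invol_conj_conj hqq] at this
          have h2 : q * q * q = q := by rw [hqq, one_mul]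
          rw [h2] at this
          exact this.symm
        exact hT.braid hq hrD hnc
  by_cases hpr : Commute p r
  · -- then `q₁ = r`
    have h5 : p * r * p = r := by
      calc p * r * p = r * p * p := by rw [hpr.eq]
        _ = r := by rw [mul_assoc, hpp, mul_one]
    rw [h5] at hc ⊢
    exfalso
    apply hp'q
    have h1 : r = q * p' * q := by rw [hr, hbr]
    have := commute_invol_conj hqq hc
    rw [h1, invol_conj_conj hqq] at this
    have h2 : q * q * q = q := by rw [hqq, one_mul]
    rw [h2] at this
    exact this.symm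
  · -- then `q₁ = r p r`, `p = r q₁ r`, and `p`, `p'` commute
    have hbr2 : p * r * p = r * p * r := hT.braid hp hrD hpr
    set q₁ := p * r * p with hq₁
    have hpeq : p = r * q₁ * r := by
      rw [hbr2]
      exact (invol_conj_conj hrr).symm
    have hcomm : Commute p p' := by
      show p * p' = p' * p
      have e1 : p * p' = r * (q₁ * q) * r := by
        conv_lhs => rw [hpeq, hp'eq]
        calc r * q₁ * r * (r * q * r) = r * q₁ * (r * r) * q * r := by group
          _ = r * (q₁ * q) * r := by rw [hrr]; group
      have e2 : p' * p = r * (q * q₁) * r := by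
        conv_lhs => rw [hpeq, hp'eq]
        calc r * q * r * (r * q₁ * r) = r * q * (r * r) * q₁ * r := by group
          _ = r * (q * q₁) * r := by rw [hrr]; group
      rw [e1, e2, hc.eq]
    have hpeq' : p = p' := eq_of_Dm_eq_of_commute hp' hθ hcomm
    have h6 : q₁ = q := by
      rw [hq₁, hr, hpeq']
      exact invol_conj_conj hp'p'
    exact h6

/-- the commuting sets only grow under conjugation by `p * p'` -/
theorem Dm_subset_conj {D : Set G} (hT : TT D) {p p' q : G} (hp : p ∈ D) (hp' : p' ∈ D)
    (hq : q ∈ D) (hθ : Dm D p = Dm D p') :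
    Dm D q ⊆ Dm D ((p * p') * q * (p * p')⁻¹) := by
  rintro f ⟨hfD, hfne, hqf⟩
  -- if `p`, `p'` both commute with `q` then nothing moves
  have hfix : Commute p q → Commute p' q → (p * p') * q * (p * p')⁻¹ = q := by
    intro h1 h2
    have : Commute (p * p') q := h1.mul_left h2
    rw [this.eq, mul_inv_cancel_right]
  by_cases h1 : Commute p f
  · by_cases h2 : Commute p' f
    · have hy : Commute (p * p') f := h1.mul_left h2
      have hyf : (p * p')⁻¹ * f * (p * p') = f := by
        rw [mul_assoc, ← hy.eq, inv_mul_cancel_left]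
      refine ⟨hfD, ?_, ?_⟩
      · intro h
        apply hfne
        have : (p * p')⁻¹ * f * (p * p') = q := by rw [h]; group
        rw [← this, hyf]
      · rw [commute_conj_iff, hyf]; exact hqf
    · -- `f = p`
      have hfp : f = p := by
        by_contra hne
        apply h2
        have : f ∈ Dm D p := ⟨hfD, hne, h1⟩
        rw [hθ] at this
        exact this.2.2
      subst hfp
      have hq1 : q ∈ Dm D f := ⟨hq, fun h => hfne h.symm, hqf.symm⟩
      have hq2 := hq1
      rw [hθ] at hq2
      rw [hfix hq1.2.2 hq2.2.2]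
      exact ⟨hfD, hfne, hqf⟩
  · by_cases h2 : Commute p' f
    · have hfp : f = p' := by
        by_contra hne
        apply h1
        have : f ∈ Dm D p' := ⟨hfD, hne, h2⟩
        rw [← hθ] at this
        exact this.2.2
      subst hfp
      have hq1 : q ∈ Dm D f := ⟨hq, fun h => hfne h.symm, hqf.symm⟩
      have hq2 := hq1
      rw [← hθ] at hq2
      rw [hfix hq2.2.2 hq1.2.2]
      exact ⟨hfD, hfne, hqf⟩
    · have hcomm := key_commute hT hp hp' hq hfD hθ hqf (fun h => hfne h.symm) h1 h2
      refine ⟨hfD, ?_, hcomm⟩
      intro hfeq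
      by_cases h3 : Commute p' q
      · by_cases hqp' : q = p'
        · apply h1
          have : f ∈ Dm D p' := by rw [← hqp']; exact ⟨hfD, hfne, hqf⟩
          rw [← hθ] at this
          exact this.2.2
        · have hq1 : q ∈ Dm D p' := ⟨hq, hqp', h3⟩
          have hq2 := hq1
          rw [← hθ] at hq2
          apply hfne
          rw [hfeq, hfix hq2.2.2 h3]
      · have hc : Commute q ((p * p') * q * (p * p')⁻¹) := by rw [← hfeq]; exact hqf
        apply hfne
        rw [hfeq]
        exact key_ne hT hp hp' hq hθ h3 hc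

/-- `p * p'` fixes the class of every member of `D` -/
theorem Dm_conj_mul_eq {D : Set G} (hT : TT D) {p p' q : G} (hp : p ∈ D) (hp' : p' ∈ D)
    (hq : q ∈ D) (hθ : Dm D p = Dm D p') :
    Dm D ((p * p') * q * (p * p')⁻¹) = Dm D q := by
  apply Set.Subset.antisymm
  · have hq₁ : (p * p') * q * (p * p')⁻¹ ∈ D := hT.conj _ q hq
    have := Dm_subset_conj hT hp' hp hq₁ hθ.symm
    have e : (p' * p) * ((p * p') * q * (p * p')⁻¹) * (p' * p)⁻¹ = q := by
      have h1 : (p' * p) = (p * p')⁻¹ := by
        rw [mul_inv_rev, hT.inv_eq hp, hT.inv_eq hp']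
      rw [h1]; group
    rwa [e] at this
  · exact Dm_subset_conj hT hp hp' hq hθ

end theta

end Cfsg.Agent.Helper49
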