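import Mathlib
import Cfsg.Agent.Lib.Helper49.TTTheta

set_option autoImplicit false

/-!
# The classes of `D_a = D_b` are the orbits of `O_3(G)` (helper49)

Conditional on `Helper20.ZStarHyp` (the statement of S0215).
-/

namespace Cfsg.Agent.Helper49

open Cfsg Cfsg.Agent.Helper88

universe u

section sub

/-- elements of the closure of a set of involutions closed under mutual conjugation stabilise it -/
theorem conj_mem_iff_of_mem_closure {G : Type*} [Group G] {E : Set G} (hsq : ∀ a ∈ E, a * a = 1)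
    (hconj : ∀ a ∈ E, ∀ e ∈ E, a * e * a⁻¹ ∈ E) {k : G} (hk : k ∈ Subgroup.closure E) :
    ∀ e : G, k * e * k⁻¹ ∈ E ↔ e ∈ E := by
  induction hk using Subgroup.closure_induction with
  | mem a ha =>
    intro e
    constructor
    · intro h
      have := hconj a ha _ h
      have hai : a⁻¹ = a := inv_eq_self_of_mul_self (hsq a ha)
      have e1 : a * (a * e * a⁻¹) * a⁻¹ = e := by
        rw [hai]
        calc a * (a * e * a) * a = (a * a) * e * (a * a) := by group
          _ = e := by rw [hsq a ha, one_mul, mul_one]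
      rwa [e1] at this
    · exact hconj a ha e
  | one => intro e; simp
  | mul x y _ _ ihx ihy =>
    intro e
    have : x * y * e * (x * y)⁻¹ = x * (y * e * y⁻¹) * x⁻¹ := by group
    rw [this, ihx, ihy]
  | inv x _ ih =>
    intro e
    have := ih (x⁻¹ * e * x⁻¹⁻¹)
    have e1 : x * (x⁻¹ * e * x⁻¹⁻¹) * x⁻¹ = e := by group
    rw [e1] at this
    exact this.symm

/-- the width one theorem inside a subgroup generated by 3-transpositions -/
theorem width_one_sub (h : Cfsg.Agent.Helper20.ZStarHyp.{u}) {G : Type u} [Group G] [Finite G]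
    {D E : Set G} (hT : TT D) (hED : E ⊆ D) (hne1 : ∀ e ∈ E, e ≠ 1)
    (hw : ∀ a ∈ E, ∀ b ∈ E, Commute a b → a = b)
    (hconj : ∀ a ∈ E, ∀ e ∈ E, a * e * a⁻¹ ∈ E) :
    ∃ Q : Subgroup G, IsPGroup 3 Q ∧ ∀ a ∈ E, ∀ b ∈ E, a * b ∈ Q := by
  have : Fact (Nat.Prime 3) := ⟨Nat.prime_three⟩
  set K := Subgroup.closure E with hK
  set E' : Set ↥K := {k | (k : G) ∈ E} with hE'
  have hsq : ∀ a ∈ E, a * a = 1 := fun a ha => hT.sq a (hED ha)
  have hT' : TT E' := by
    refine ⟨?_, ?_, ?_⟩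
    · intro a ha
      apply Subtype.ext
      exact hsq (a : G) ha
    · intro a ha b hb
      rcases hT.prod (a : G) (hED ha) (b : G) (hED hb) with h2 | h3
      · left; apply Subtype.ext; simpa using h2
      · right; apply Subtype.ext; simpa using h3
    · intro k e he
      show ((k * e * k⁻¹ : ↥K) : G) ∈ E
      have := (conj_mem_iff_of_mem_closure hsq hconj k.2 (e : G)).mpr he
      simpa using this
  have hne1' : ∀ e ∈ E', e ≠ 1 := by
    intro e he h1
    apply hne1 (e : G) he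
    rw [h1]; rfl
  have hw' : ∀ a ∈ E', ∀ b ∈ E', Commute a b → a = b := by
    intro a ha b hb hab
    apply Subtype.ext
    apply hw (a : G) ha (b : G) hb
    show (a : G) * (b : G) = (b : G) * (a : G)
    have := congrArg (Subtype.val) hab.eq
    simpa using this
  have hcore := width_one_core h hT' hne1' hw'
  refine ⟨(pCore 3 ↥K).map K.subtype, (pCore_isPGroup 3 ↥K).map _, ?_⟩
  intro a ha b hb
  have haK : a ∈ K := Subgroup.subset_closure ha
  have hbK : b ∈ K := Subgroup.subset_closure hb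
  exact ⟨⟨a, haK⟩ * ⟨b, hbK⟩, hcore ⟨a, haK⟩ ha ⟨b, hbK⟩ hb, rfl⟩

end sub

section main

/-- equivalent members of `D` differ by an element of `O_3(G)` -/
theorem theta_mul_mem_pCore (h : Cfsg.Agent.Helper20.ZStarHyp.{u}) {G : Type u} [Group G]
    [Finite G] {D : Set G} (hT : TT D) (hne1 : ∀ e ∈ D, e ≠ 1) {d w : G} (hd : d ∈ D)
    (hw : w ∈ D) (hθ : Dm D d = Dm D w) : d * w ∈ pCore 3 G := by
  have : Fact (Nat.Prime 3) := ⟨Nat.prime_three⟩
  set W : G → Set G := fun a => {x | x ∈ D ∧ Dm D a = Dm D x} with hW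
  have hWconj : ∀ a : G, ∀ x ∈ W a, ∀ y ∈ W a, x * y * x⁻¹ ∈ W a := by
    intro a x hx y hy
    refine ⟨hT.conj x y hy.1, ?_⟩
    have h1 : Dm D (x * y * x⁻¹) = Dm D (x * x * x⁻¹) := Dm_conj_eq hT (hy.2.symm.trans hx.2) x
    rw [h1, mul_inv_cancel_right]
    exact hx.2
  have hWw : ∀ a : G, ∀ x ∈ W a, ∀ y ∈ W a, Commute x y → x = y := by
    intro a x hx y hy hc
    exact eq_of_Dm_eq_of_commute hy.1 (hx.2.symm.trans hy.2) hc
  have hQ : ∀ a : G, ∃ Q : Subgroup G, IsPGroup 3 Q ∧ ∀ x ∈ W a, ∀ y ∈ W a, x * y ∈ Q := by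
    intro a
    exact width_one_sub h hT (fun x hx => hx.1) (fun x hx => hne1 x hx.1) (hWw a) (hWconj a)
  set S : Set G := {z | ∃ a ∈ D, ∃ x ∈ W a, ∃ y ∈ W a, z = x * y} with hS
  set N := Subgroup.closure S with hN
  -- elements of `N` fix every class
  have hfix : ∀ n ∈ N, ∀ q ∈ D, Dm D (n * q * n⁻¹) = Dm D q := by
    intro n hn
    induction hn using Subgroup.closure_induction with
    | mem z hz =>
      obtain ⟨a, -, x, hx, y, hy, rfl⟩ := hz
      intro q hq
      exact Dm_conj_mul_eq hT hx.1 hy.1 hq (hx.2.symm.trans hy.2)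
    | one => intro q _; simp
    | mul m n _ _ ihm ihn =>
      intro q hq
      have e : m * n * q * (m * n)⁻¹ = m * (n * q * n⁻¹) * m⁻¹ := by group
      rw [e, ihm _ (hT.conj n q hq), ihn q hq]
    | inv m _ ih =>
      intro q hq
      have hq' : m⁻¹ * q * m⁻¹⁻¹ ∈ D := hT.conj m⁻¹ q hq
      have := ih _ hq'
      have e : m * (m⁻¹ * q * m⁻¹⁻¹) * m⁻¹ = q := by group
      rw [e] at this
      exact this.symm
  have hWN : ∀ n ∈ N, ∀ b : G, ∀ x ∈ W b, n * x * n⁻¹ ∈ W b := by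
    intro n hn b x hx
    refine ⟨hT.conj n x hx.1, ?_⟩
    rw [hfix n hn x hx.1]
    exact hx.2
  -- the subgroups `N_b`
  set Nb : G → Subgroup G := fun b => Subgroup.closure {z | ∃ x ∈ W b, ∃ y ∈ W b, z = x * y}
    with hNb
  have hNbN : ∀ b ∈ D, Nb b ≤ N := by
    intro b hb
    apply Subgroup.closure_mono
    rintro z ⟨x, hx, y, hy, rfl⟩
    exact ⟨b, hb, x, hx, y, hy, rfl⟩
  have hNbp : ∀ b : G, IsPGroup 3 (Nb b) := by
    intro b
    obtain ⟨Q, hQp, hQm⟩ := hQ b
    apply hQp.to_le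
    rw [hNb, Subgroup.closure_le]
    rintro z ⟨x, hx, y, hy, rfl⟩
    exact hQm x hx y hy
  have hNbconj : ∀ n ∈ N, ∀ b : G, ∀ z ∈ Nb b, n * z * n⁻¹ ∈ Nb b := by
    intro n hn b z hz
    induction hz using Subgroup.closure_induction with
    | mem z hz =>
      obtain ⟨x, hx, y, hy, rfl⟩ := hz
      apply Subgroup.subset_closure
      refine ⟨n * x * n⁻¹, hWN n hn b x hx, n * y * n⁻¹, hWN n hn b y hy, ?_⟩
      group
    | one => simp
    | mul u v _ _ ihu ihv =>
      have e : n * (u * v) * n⁻¹ = (n * u * n⁻¹) * (n * v * n⁻¹) := by group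
      rw [e]; exact Subgroup.mul_mem _ ihu ihv
    | inv u _ ih =>
      have e : n * u⁻¹ * n⁻¹ = (n * u * n⁻¹)⁻¹ := by group
      rw [e]; exact Subgroup.inv_mem _ ih
  have hNbcore : ∀ b ∈ D, (Nb b).subgroupOf N ≤ pCore 3 ↥N := by
    intro b hb
    apply le_pCore
    · constructor
      intro z hz n
      rw [Subgroup.mem_subgroupOf] at hz ⊢
      have := hNbconj (n : G) n.2 b _ hz
      simpa using this
    · exact (hNbp b).comap_subtype
  set M := (pCore 3 ↥N).map N.subtype with hM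
  have hMp : IsPGroup 3 M := (pCore_isPGroup 3 ↥N).map _
  have hSM : S ⊆ (M : Set G) := by
    rintro z ⟨a, ha, x, hx, y, hy, rfl⟩
    have hzNb : x * y ∈ Nb a := Subgroup.subset_closure ⟨x, hx, y, hy, rfl⟩
    have hzN : x * y ∈ N := hNbN a ha hzNb
    refine ⟨⟨x * y, hzN⟩, hNbcore a ha ?_, rfl⟩
    rw [Subgroup.mem_subgroupOf]
    exact hzNb
  have hNM : N ≤ M := by
    rw [hN, Subgroup.closure_le]; exact hSM
  have hNp : IsPGroup 3 N := hMp.to_le hNM
  -- `N` is normal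
  have hSconj : ∀ g : G, ∀ z ∈ S, g * z * g⁻¹ ∈ S := by
    rintro g z ⟨a, ha, x, hx, y, hy, rfl⟩
    refine ⟨g * a * g⁻¹, hT.conj g a ha, g * x * g⁻¹, ⟨hT.conj g x hx.1, Dm_conj_eq hT hx.2 g⟩,
      g * y * g⁻¹, ⟨hT.conj g y hy.1, Dm_conj_eq hT hy.2 g⟩, ?_⟩
    group
  have hNn : N.Normal := by
    constructor
    intro n hn g
    induction hn using Subgroup.closure_induction with
    | mem z hz => exact Subgroup.subset_closure (hSconj g z hz)
    | one => simp
    | mul u v _ _ ihu ihv =>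
      have e : g * (u * v) * g⁻¹ = (g * u * g⁻¹) * (g * v * g⁻¹) := by group
      rw [e]; exact Subgroup.mul_mem _ ihu ihv
    | inv u _ ih =>
      have e : g * u⁻¹ * g⁻¹ = (g * u * g⁻¹)⁻¹ := by group
      rw [e]; exact Subgroup.inv_mem _ ih
  apply le_pCore hNn hNp
  apply Subgroup.subset_closure
  exact ⟨d, hd, d, ⟨hd, rfl⟩, w, ⟨hw, hθ⟩, rfl⟩

/-- members of `D` in the same coset of `O_3(G)` are equivalent -/
theorem Dm_eq_of_mul_mem_pCore {G : Type*} [Group G] [Finite G] {D : Set G} (hT : TT D)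
    {d w : G} (hd : d ∈ D) (hw : w ∈ D) (hmem : d * w ∈ pCore 3 G) :
    Dm D d = Dm D w := by
  have : Fact (Nat.Prime 3) := ⟨Nat.prime_three⟩
  have hRn : (pCore 3 G).Normal := pCore_normal 3 G
  have hRp : IsPGroup 3 (pCore 3 G) := pCore_isPGroup 3 G
  have hinvol : ∀ x : G, x * x = 1 → x ∈ pCore 3 G → x = 1 := by
    intro x hxx hx
    obtain ⟨k, hk⟩ := (IsPGroup.iff_orderOf.mp hRp) ⟨x, hx⟩
    rw [Subgroup.orderOf_mk] at hk
    have hdvd : orderOf x ∣ 2 := orderOf_dvd_of_pow_eq_one (by rw [pow_two]; exact hxx)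
    rcases (Nat.dvd_prime Nat.prime_two).mp hdvd with h1 | h2
    · exact orderOf_eq_one_iff.mp h1
    · exfalso
      rw [h2] at hk
      have : (2 : ℕ) ∣ 3 ^ k := by rw [← hk]
      have := Nat.Prime.dvd_of_dvd_pow Nat.prime_two this
      omega
  have key : ∀ a ∈ D, ∀ b ∈ D, a * b ∈ pCore 3 G → Dm D a ⊆ Dm D b := by
    intro a ha b hb hab y ⟨hy, hya, hay⟩
    set x := y * a with hx
    have hxx : x * x = 1 := sq_eq_one_of_commute (hT.sq y hy) (hT.sq a ha) hay.symm
    have hx1 : x ≠ 1 := by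
      intro h1
      apply hya
      have : y = a⁻¹ := eq_inv_of_mul_eq_one_left h1
      rw [this, hT.inv_eq ha]
    have hxR : x ∉ pCore 3 G := fun hmem => hx1 (hinvol x hxx hmem)
    refine ⟨hy, ?_, ?_⟩
    · intro hyb
      apply hxR
      have e : x = (a * b)⁻¹ := by
        rw [hx, hyb, mul_inv_rev, hT.inv_eq ha, hT.inv_eq hb]
      rw [e]; exact Subgroup.inv_mem _ hab
    · rcases hT.commute_or_cube hy hb with hc | h3
      · exact hc.symm
      · exfalso
        apply hxR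
        have e : y * b = x * (a * b) := by
          rw [hx]
          calc y * b = y * (a * a) * b := by rw [hT.sq a ha, mul_one]
            _ = y * a * (a * b) := by group
        have hπ : (QuotientGroup.mk' (pCore 3 G)) (y * b) = (QuotientGroup.mk' (pCore 3 G)) x := by
          rw [e, map_mul]
          have : (QuotientGroup.mk' (pCore 3 G)) (a * b) = 1 := by
            rw [QuotientGroup.mk'_apply, QuotientGroup.eq_one_iff]; exact hab
          rw [this, mul_one]
        have h3' : (QuotientGroup.mk' (pCore 3 G)) x ^ 3 = 1 := by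
          rw [← hπ, ← map_pow, h3, map_one]
        have h2' : (QuotientGroup.mk' (pCore 3 G)) x ^ 2 = 1 := by
          rw [← map_pow, pow_two, hxx, map_one]
        have h1' : (QuotientGroup.mk' (pCore 3 G)) x = 1 := by
          calc (QuotientGroup.mk' (pCore 3 G)) x
              = (QuotientGroup.mk' (pCore 3 G)) x ^ 3 * ((QuotientGroup.mk' (pCore 3 G)) x ^ 2)⁻¹ := by
                group
            _ = 1 := by rw [h3', h2', inv_one, mul_one]
        rw [QuotientGroup.mk'_apply, QuotientGroup.eq_one_iff] at h1'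
        exact h1'
  apply Set.Subset.antisymm (key d hd w hw hmem)
  apply key w hw d hd
  have e : w * d = (d * w)⁻¹ := by rw [mul_inv_rev, hT.inv_eq hd, hT.inv_eq hw]
  rw [e]; exact Subgroup.inv_mem _ hmem

/-- the coset of `O_3(G)` meets `D` in an orbit of `O_3(G)` -/
theorem exists_conj_of_mul_mem_pCore {G : Type*} [Group G] [Finite G] {D : Set G} (hT : TT D)
    {d w : G} (hd : d ∈ D) (hw : w ∈ D) (hmem : d * w ∈ pCore 3 G) :
    ∃ g ∈ pCore 3 G, w = g * d * g⁻¹ := by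
  have : Fact (Nat.Prime 3) := ⟨Nat.prime_three⟩
  have hRp : IsPGroup 3 (pCore 3 G) := pCore_isPGroup 3 G
  set x := d * w with hx
  have hdi := hT.inv_eq hd
  have hwi := hT.inv_eq hw
  obtain ⟨k, hk⟩ := (IsPGroup.iff_orderOf.mp hRp) ⟨x, hmem⟩
  rw [Subgroup.orderOf_mk] at hk
  have hodd : Odd (orderOf x) := by rw [hk]; exact Odd.pow (by decide)
  obtain ⟨j, hj⟩ := hodd
  set m := x ^ (j + 1) with hm
  have hmm : m * m = x := by
    rw [hm, ← pow_add, show j + 1 + (j + 1) = orderOf x + 1 by omega, pow_succ,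
      pow_orderOf_eq_one, one_mul]
  have hxinv : d * x * d⁻¹ = x⁻¹ := by
    rw [hx, mul_inv_rev, hdi, hwi]
    calc d * (d * w) * d = (d * d) * w * d := by group
      _ = w * d := by rw [hT.sq d hd, one_mul]
  have hminv : d * m * d⁻¹ = m⁻¹ := by
    rw [hm, ← conj_pow, hxinv, inv_pow]
  refine ⟨m⁻¹, Subgroup.inv_mem _ (Subgroup.pow_mem _ hmem _), ?_⟩
  rw [inv_inv]
  have h1 : d * m = m⁻¹ * d := by
    calc d * m = (d * m * d⁻¹) * d := by group
      _ = m⁻¹ * d := by rw [hminv]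
  calc w = (d * d) * w := by rw [hT.sq d hd, one_mul]
    _ = d * x := by rw [hx]; group
    _ = (d * x * d⁻¹) * d := by group
    _ = x⁻¹ * d := by rw [hxinv]
    _ = (m * m)⁻¹ * d := by rw [hmm]
    _ = m⁻¹ * (m⁻¹ * d) := by group
    _ = m⁻¹ * (d * m) := by rw [h1]
    _ = m⁻¹ * d * m := by group

/-- the statement of S5350, from the `Z*`-hypothesis -/
theorem theta_class_of_zstar (h : Cfsg.Agent.Helper20.ZStarHyp.{u}) {G : Type u} [Group G]
    [Finite G] {D : Set G} (hD : Cfsg.IsThreeTranspositionClass D) {d : G} (hd : d ∈ D) :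
    {w : G | w ∈ D ∧ {y : G | y ∈ D ∧ y ≠ d ∧ Commute d y} = {y : G | y ∈ D ∧ y ≠ w ∧ Commute w y}} =
      {w : G | w ∈ D ∧ d⁻¹ * w ∈ Cfsg.pCore 3 G} ∧
    {w : G | w ∈ D ∧ {y : G | y ∈ D ∧ y ≠ d ∧ Commute d y} = {y : G | y ∈ D ∧ y ≠ w ∧ Commute w y}} =
      {w : G | ∃ g ∈ Cfsg.pCore 3 G, w = g * d * g⁻¹} := by
  have hT : TT D := TT.of_class hD
  have hne1 : ∀ e ∈ D, e ≠ 1 := by
    intro e he h1
    have := hD.1.1 e he
    rw [h1, orderOf_one] at this
    omega
  have hdi := hT.inv_eq hd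
  have hRn : (pCore 3 G).Normal := pCore_normal 3 G
  have h1 : {w : G | w ∈ D ∧ {y : G | y ∈ D ∧ y ≠ d ∧ Commute d y} =
      {y : G | y ∈ D ∧ y ≠ w ∧ Commute w y}} = {w : G | w ∈ D ∧ d⁻¹ * w ∈ Cfsg.pCore 3 G} := by
    ext w
    constructor
    · rintro ⟨hw, hθ⟩
      refine ⟨hw, ?_⟩
      rw [hdi]
      exact theta_mul_mem_pCore h hT hne1 hd hw hθ
    · rintro ⟨hw, hmem⟩
      rw [hdi] at hmem
      exact ⟨hw, Dm_eq_of_mul_mem_pCore hT hd hw hmem⟩
  refine ⟨h1, ?_⟩
  rw [h1]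
  ext w
  constructor
  · rintro ⟨hw, hmem⟩
    rw [hdi] at hmem
    exact exists_conj_of_mul_mem_pCore hT hd hw hmem
  · rintro ⟨g, hg, rfl⟩
    refine ⟨hT.conj g d hd, ?_⟩
    have e : d⁻¹ * (g * d * g⁻¹) = (d⁻¹ * g * d⁻¹⁻¹) * g⁻¹ := by group
    rw [e]
    exact Subgroup.mul_mem _ (hRn.conj_mem g hg d⁻¹) (Subgroup.inv_mem _ hg)

end main

end Cfsg.Agent.Helper49
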