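import Mathlib
import Cfsg.Prelude.Def_SporadicB
import Cfsg.Prelude.Def_Local
import Cfsg.Agent.Lib.Helper22.Bender
import Cfsg.Agent.Lib.Helper22.Fitting
import Cfsg.Agent.Lib.Helper22.Components
import Cfsg.Agent.Lib.Helper22.TwoGen
import Cfsg.Agent.Lib.Helper24.FStar
import Cfsg.Agent.Lib.Helper49.TTThetaCore
import Cfsg.Agent.S5347
import Cfsg.Agent.S5348
import Cfsg.Agent.S5349

/-!
# 3-transposition groups: the trichotomy `O_2 / O_3 / E(G)` (conditional on the Z*-theorem)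

For a class `D` of 3-transpositions generating `G` with `|D| ≥ 2`: `O_p(G) ≤ Z(G)` for `p > 3`, and
exactly one of `O_2(G) ≰ Z(G)`, `O_3(G) ≰ Z(G)`, `E(G) ≠ 1` holds.  Only the incompatibility of
`O_3(G) ≰ Z(G)` with `E(G) ≠ 1` uses the Z*-theorem.
-/

set_option autoImplicit false
set_option linter.style.haveILetI false
set_option linter.unusedSectionVars false

universe u

namespace Cfsg.Agent.Helper49.TTTri

open Cfsg Subgroup Cfsg.Agent.Helper88 Cfsg.Agent.Helper49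
open scoped commutatorElement

section basic

variable {G : Type*} [Group G] {D : Set G}

theorem exists_conj_of_class (hD : IsThreeTranspositionClass D) {d e : G} (hd : d ∈ D)
    (he : e ∈ D) : ∃ g : G, e = g * d * g⁻¹ := by
  obtain ⟨-, ⟨d₀, -, hDd⟩, -⟩ := hD
  rw [hDd] at hd he
  have h1 : IsConj d₀ d := hd
  have h2 : IsConj d₀ e := he
  obtain ⟨c, hc⟩ := isConj_iff.mp (h1.symm.trans h2)
  exact ⟨c, hc.symm⟩

/-- A normal subgroup centralized by one member of the class is central. -/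
theorem le_center_of_forall_commute (hD : IsThreeTranspositionClass D) {d : G} (hd : d ∈ D)
    (N : Subgroup G) [hN : N.Normal] (h : ∀ n ∈ N, Commute d n) : N ≤ center G := by
  have hall : ∀ e ∈ D, ∀ n ∈ N, Commute e n := by
    intro e he n hn
    obtain ⟨g, rfl⟩ := exists_conj_of_class hD hd he
    have hmem : g⁻¹ * n * g ∈ N := by
      have := hN.conj_mem n hn g⁻¹
      simpa using this
    exact (commute_conj_iff g d n).mpr (h _ hmem)
  have hle : (⊤ : Subgroup G) ≤ centralizer (N : Set G) := by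
    rw [← hD.2.2, closure_le]
    intro e he
    rw [SetLike.mem_coe, mem_centralizer_iff]
    intro n hn
    exact (hall e he n hn).symm
  intro n hn
  rw [mem_center_iff]
  intro g
  have := hle (mem_top g)
  rw [mem_centralizer_iff] at this
  exact (this n hn).symm

theorem le_normalizer_closure (E : Subgroup G) (T : Set G)
    (hT : ∀ z ∈ E, ∀ t ∈ T, z * t * z⁻¹ ∈ T) : E ≤ normalizer (closure T : Set G) := by
  have key : ∀ z ∈ E, ∀ c ∈ closure T, z * c * z⁻¹ ∈ closure T := by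
    intro z hz c hc
    induction hc using closure_induction with
    | mem t ht => exact subset_closure (hT z hz t ht)
    | one => simp
    | mul a b _ _ iha ihb =>
      have e : z * (a * b) * z⁻¹ = (z * a * z⁻¹) * (z * b * z⁻¹) := by group
      rw [e]; exact mul_mem iha ihb
    | inv a _ iha =>
      have e : z * a⁻¹ * z⁻¹ = (z * a * z⁻¹)⁻¹ := by group
      rw [e]; exact inv_mem iha
  intro z hz
  rw [mem_normalizer_iff]
  intro c
  constructor
  · intro hc; exact key z hz c hc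
  · intro hc
    have := key z⁻¹ (inv_mem hz) _ hc
    have e : z⁻¹ * (z * c * z⁻¹) * z⁻¹⁻¹ = c := by group
    rwa [e] at this

theorem comm_aux (x y a b : G) (hay : Commute a y) (hbx : Commute b x) (hab : Commute a b) :
    ⁅x * a, y * b⁆ = ⁅x, y⁆ := by
  rw [commutatorElement_def, commutatorElement_def]
  have e1 : (x * a)⁻¹ = a⁻¹ * x⁻¹ := mul_inv_rev x a
  have e2 : (y * b)⁻¹ = b⁻¹ * y⁻¹ := mul_inv_rev y b
  rw [e1, e2]
  have h1 : a * (y * b) * a⁻¹ = y * b := by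
    have hc : Commute a (y * b) := hay.mul_right hab
    rw [hc.eq]; group
  have h2 : b * x⁻¹ * b⁻¹ = x⁻¹ := by
    have hc : Commute b x⁻¹ := hbx.inv_right
    rw [hc.eq]; group
  calc x * a * (y * b) * (a⁻¹ * x⁻¹) * (b⁻¹ * y⁻¹)
      = x * (a * (y * b) * a⁻¹) * x⁻¹ * b⁻¹ * y⁻¹ := by group
    _ = x * (y * b) * x⁻¹ * b⁻¹ * y⁻¹ := by rw [h1]
    _ = x * y * (b * x⁻¹ * b⁻¹) * y⁻¹ := by group
    _ = x * y * x⁻¹ * y⁻¹ := by rw [h2]

/-- The S₄-configuration argument. -/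
theorem s4_contra {d v e : G} (hdd : d * d = 1) (hvv : v * v = 1) (hee : e * e = 1)
    (hbr1 : e * d * e = d * e * d) (hbr2 : e * v * e = v * e * v)
    (het : e * (d * v) * e = d * v) : d * v = 1 := by
  calc d * v = e * (d * v) * e := het.symm
    _ = e * d * (e * e) * v * e := by rw [hee]; group
    _ = (e * d * e) * (e * v * e) := by group
    _ = (d * e * d) * (v * e * v) := by rw [hbr1, hbr2]
    _ = d * (e * (d * v) * e) * v := by group
    _ = d * (d * v) * v := by rw [het]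
    _ = (d * d) * (v * v) := by group
    _ = 1 := by rw [hdd, hvv, one_mul]

/-- If all commutators `[x, d]`, `x ∈ E(G)`, centralize `E(G)`, then `d` centralizes `E(G)`. -/
theorem layer_le_centralizer_singleton {d : G}
    (hcomm : ∀ x ∈ layer G, x * d * x⁻¹ * d⁻¹ ∈ centralizer (layer G : Set G)) :
    layer G ≤ centralizer ({d} : Set G) := by
  have hEn : (layer G).Normal := Cfsg.Agent.Helper22.layer_normal
  have key : ⁅layer G, layer G⁆ ≤ centralizer ({d} : Set G) := by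
    rw [Subgroup.commutator_le]
    intro x hx y hy
    rw [mem_centralizer_iff]
    intro h hh
    rw [Set.mem_singleton_iff] at hh
    subst hh
    have hζ₁ : x⁻¹ * h * x * h⁻¹ ∈ centralizer (layer G : Set G) := by
      have := hcomm x⁻¹ (inv_mem hx)
      simpa using this
    have hζ₂ : y⁻¹ * h * y * h⁻¹ ∈ centralizer (layer G : Set G) := by
      have := hcomm y⁻¹ (inv_mem hy)
      simpa using this
    have hζ₂E : y⁻¹ * h * y * h⁻¹ ∈ layer G := by
      have e : y⁻¹ * h * y * h⁻¹ = y⁻¹ * (h * y * h⁻¹) := by group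
      rw [e]
      exact mul_mem (inv_mem hy) (hEn.conj_mem y hy h)
    have c1 : Commute (x⁻¹ * h * x * h⁻¹) y := (mem_centralizer_iff.mp hζ₁ y hy).symm
    have c2 : Commute (y⁻¹ * h * y * h⁻¹) x := (mem_centralizer_iff.mp hζ₂ x hx).symm
    have c3 : Commute (x⁻¹ * h * x * h⁻¹) (y⁻¹ * h * y * h⁻¹) :=
      (mem_centralizer_iff.mp hζ₁ _ hζ₂E).symm
    have e1 : h * ⁅x, y⁆ * h⁻¹ = ⁅x * (x⁻¹ * h * x * h⁻¹), y * (y⁻¹ * h * y * h⁻¹)⁆ := by
      simp only [commutatorElement_def]; group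
    have e2 := comm_aux x y _ _ c1 c2 c3
    calc h * ⁅x, y⁆ = (h * ⁅x, y⁆ * h⁻¹) * h := by group
      _ = ⁅x, y⁆ * h := by rw [e1, e2]
  rw [Cfsg.Agent.Helper22.TwoGen.layer_commutator_eq] at key
  exact key

end basic

section main

variable {G : Type*} [Group G] [Finite G] {D : Set G}

/-- If the products of two `E(G)`-conjugates of `d` all lie in a `p`-subgroup, then `d` centralizes
`E(G)`. -/
theorem layer_centralizes_of_pgroup {d : G} (hdd : d * d = 1) {p : ℕ} [Fact p.Prime]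
    (Q : Subgroup G) (hQ : IsPGroup p Q)
    (hQmem : ∀ x ∈ layer G, ∀ y ∈ layer G, (x * d * x⁻¹) * (y * d * y⁻¹) ∈ Q) :
    layer G ≤ centralizer ({d} : Set G) := by
  have hEn : (layer G).Normal := Cfsg.Agent.Helper22.layer_normal
  have hdi : d⁻¹ = d := inv_eq_of_mul_eq_one_left hdd
  obtain ⟨T, hTdef⟩ : ∃ T : Set G, T = {c | ∃ x ∈ layer G, ∃ y ∈ layer G,
      c = (x * d * x⁻¹) * (y * d * y⁻¹)} := ⟨_, rfl⟩
  have hTE : closure T ≤ layer G := by
    rw [closure_le, hTdef]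
    rintro c ⟨x, hx, y, hy, rfl⟩
    have e : (x * d * x⁻¹) * (y * d * y⁻¹) = x * (d * (x⁻¹ * y) * d⁻¹) * y⁻¹ := by
      rw [hdi]; group
    rw [SetLike.mem_coe, e]
    exact mul_mem (mul_mem hx (hEn.conj_mem _ (mul_mem (inv_mem hx) hy) d)) (inv_mem hy)
  have hTQ : closure T ≤ Q := by
    rw [closure_le, hTdef]
    rintro c ⟨x, hx, y, hy, rfl⟩
    exact hQmem x hx y hy
  have hnorm : layer G ≤ normalizer (closure T : Set G) := by
    apply le_normalizer_closure
    rw [hTdef]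
    rintro z hz c ⟨x, hx, y, hy, rfl⟩
    refine ⟨z * x, mul_mem hz hx, z * y, mul_mem hz hy, ?_⟩
    group
  have hnil : Group.IsNilpotent (closure T) := (hQ.to_le hTQ).isNilpotent
  have hF : closure T ≤ fittingSubgroup G :=
    Cfsg.Agent.Helper22.nilpotent_le_fittingSubgroup hEn.isSubnormal hTE hnorm hnil
  have hcen : closure T ≤ centralizer (layer G : Set G) := by
    rw [le_centralizer_iff]
    exact le_trans Cfsg.Agent.Helper22.layer_le_centralizer_fittingSubgroup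
      (centralizer_le (SetLike.coe_subset_coe.mpr hF))
  apply layer_le_centralizer_singleton
  intro x hx
  apply hcen
  apply Subgroup.subset_closure
  rw [hTdef]
  refine ⟨x, hx, 1, one_mem _, ?_⟩
  rw [hdi]; simp

theorem false_of_layer_le_centralizer (hD : IsThreeTranspositionClass D) {d : G} (hd : d ∈ D)
    (hL : layer G ≠ ⊥) (h : layer G ≤ centralizer ({d} : Set G)) : False := by
  haveI hEn : (layer G).Normal := Cfsg.Agent.Helper22.layer_normal
  have hc : layer G ≤ center G := le_center_of_forall_commute hD hd (layer G) (fun n hn => by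
    have := mem_centralizer_iff.mp (h hn) d (Set.mem_singleton d)
    exact this)
  apply hL
  have h1 : ⁅layer G, layer G⁆ = ⊥ := by
    rw [Subgroup.commutator_eq_bot_iff_le_centralizer]
    exact le_trans hc (center_le_centralizer _)
  rw [Cfsg.Agent.Helper22.TwoGen.layer_commutator_eq] at h1
  exact h1

theorem pCore_le_center_of_gt (hD : IsThreeTranspositionClass D) (hD2 : ∃ a ∈ D, ∃ b ∈ D, a ≠ b)
    (p : ℕ) (hp : p.Prime) (h3 : 3 < p) : pCore p G ≤ center G := by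
  obtain ⟨d, hd, -⟩ := hD2
  haveI : Fact p.Prime := ⟨hp⟩
  haveI := pCore_normal p G
  have hDg : IsThreeTranspositionGroup D := ⟨hD.1, (TT.of_class hD).conj, hD.2.2⟩
  apply le_center_of_forall_commute hD hd
  exact Cfsg.Agent.S5347.result hDg hp h3 (pCore p G) (pCore_isPGroup p G) hd
    (by rw [normalizer_eq_top]; exact mem_top d)

theorem false_of_all (hD : IsThreeTranspositionClass D) (hD2 : ∃ a ∈ D, ∃ b ∈ D, a ≠ b)
    (h2 : pCore 2 G ≤ center G) (h3 : pCore 3 G ≤ center G) (hL : layer G = ⊥) : False := by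
  have hF : fittingSubgroup G ≤ center G := by
    rw [Cfsg.Agent.Helper22.fittingSubgroup_eq_iSup_pCore]
    apply iSup_le
    rintro ⟨p, hp⟩
    show pCore p G ≤ center G
    rcases (by have := hp.two_le; omega : p = 2 ∨ p = 3 ∨ 3 < p) with rfl | rfl | h
    · exact h2
    · exact h3
    · exact pCore_le_center_of_gt hD hD2 p hp h
  have hFs : generalizedFittingSubgroup G ≤ center G := by
    rw [Cfsg.Agent.Helper24.generalizedFitting_eq_fitting_of_layer_eq_bot hL]; exact hF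
  have hcen : centralizer (generalizedFittingSubgroup G : Set G) = ⊤ :=
    centralizer_eq_top_iff_subset.mpr (SetLike.coe_subset_coe.mpr hFs)
  have htop : (⊤ : Subgroup G) ≤ center G := by
    rw [← hcen]
    exact le_trans Cfsg.Agent.Helper22.centralizer_generalizedFittingSubgroup_le hFs
  obtain ⟨a, ha, b, hb, hab⟩ := hD2
  obtain ⟨g, hg⟩ := exists_conj_of_class hD ha hb
  apply hab
  have hac : a ∈ center G := htop (mem_top a)
  rw [hg, mem_center_iff.mp hac g]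
  group

theorem exists_V (hD : IsThreeTranspositionClass D) (hD2 : ∃ a ∈ D, ∃ b ∈ D, a ≠ b) {d : G}
    (hd : d ∈ D) (h2 : ¬ pCore 2 G ≤ center G) :
    ∃ v ∈ D, v ≠ d ∧ (∀ e ∈ D, Commute v e ↔ Commute d e) ∧ d * v ∈ pCore 2 G := by
  have hT : TT D := TT.of_class hD
  have hdi := hT.inv_eq hd
  haveI := pCore_normal 2 G
  have hex : ∃ g ∈ pCore 2 G, ¬ Commute d g := by
    by_contra hcon
    push Not at hcon
    exact h2 (le_center_of_forall_commute hD hd _ hcon)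
  obtain ⟨g, hg, hgc⟩ := hex
  have hS := Cfsg.Agent.S5349.result hD hD2 hd
  have hv3 : g * d * g⁻¹ ∈ {v : G | ∃ g ∈ pCore 2 G, v = g * d * g⁻¹} := ⟨g, hg, rfl⟩
  rw [← hS.2] at hv3
  have hv2 := hv3
  rw [hS.1] at hv2
  refine ⟨g * d * g⁻¹, hv3.1, ?_, hv3.2, ?_⟩
  · intro heq
    apply hgc
    show d * g = g * d
    calc d * g = (g * d * g⁻¹) * g := by rw [heq]
      _ = g * d := by group
  · have := hv2.2
    rwa [hdi] at this

theorem exists_W (hD : IsThreeTranspositionClass D) {d : G}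
    (hd : d ∈ D) (h3 : ¬ pCore 3 G ≤ center G) :
    ∃ w ∈ D, w ≠ d ∧ d * w ∈ pCore 3 G ∧ Dm D d = Dm D w := by
  have hT : TT D := TT.of_class hD
  have hdi := hT.inv_eq hd
  haveI hn := pCore_normal 3 G
  have hex : ∃ g ∈ pCore 3 G, ¬ Commute d g := by
    by_contra hcon
    push Not at hcon
    exact h3 (le_center_of_forall_commute hD hd _ hcon)
  obtain ⟨g, hg, hgc⟩ := hex
  have hw : g * d * g⁻¹ ∈ D := hT.conj g d hd
  have hmem : d * (g * d * g⁻¹) ∈ pCore 3 G := by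
    have e : d * (g * d * g⁻¹) = (d * g * d⁻¹) * g⁻¹ := by rw [hdi]; group
    rw [e]
    exact mul_mem (hn.conj_mem g hg d) (inv_mem hg)
  refine ⟨g * d * g⁻¹, hw, ?_, hmem, Dm_eq_of_mul_mem_pCore hT hd hw hmem⟩
  intro heq
  apply hgc
  show d * g = g * d
  calc d * g = (g * d * g⁻¹) * g := by rw [heq]
    _ = g * d := by group

/-- `O_2(G) ≰ Z(G)`: every `E(G)`-conjugate of `d` commutes with `d`. -/
theorem commute_conj_of_V (hT : TT D) {d v : G} (hd : d ∈ D) (hv : v ∈ D) (hvd : v ≠ d)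
    (hsim : ∀ e ∈ D, Commute v e ↔ Commute d e) (ht : d * v ∈ pCore 2 G) :
    ∀ x ∈ layer G, Commute d (x * d * x⁻¹) := by
  haveI : Fact (Nat.Prime 2) := ⟨Nat.prime_two⟩
  intro x hx
  by_contra hne
  have he : x * d * x⁻¹ ∈ D := hT.conj x d hd
  have hdd := hT.sq d hd
  have hvv := hT.sq v hv
  have hee := hT.sq _ he
  have hdi := hT.inv_eq hd
  have hdv : Commute d v := ((hsim d hd).mpr (Commute.refl d)).symm
  have hve : ¬ Commute v (x * d * x⁻¹) := fun h => hne ((hsim _ he).mp h)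
  have ht2 : d * v ∈ fittingSubgroup G := Cfsg.Agent.Helper22.pCore_le_fittingSubgroup 2 ht
  have hxt : (d * v) * x = x * (d * v) :=
    mem_centralizer_iff.mp (Cfsg.Agent.Helper22.layer_le_centralizer_fittingSubgroup hx) _ ht2
  have hconj : x * (d * v) * x⁻¹ = d * v := by rw [← hxt]; group
  have hf : x * v * x⁻¹ = (x * d * x⁻¹) * (d * v) := by
    calc x * v * x⁻¹ = x * ((d * d) * v) * x⁻¹ := by rw [hdd, one_mul]
      _ = (x * d * x⁻¹) * (x * (d * v) * x⁻¹) := by group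
      _ = (x * d * x⁻¹) * (d * v) := by rw [hconj]
  have hfD : x * v * x⁻¹ ∈ D := hT.conj x v hv
  have hff := hT.sq _ hfD
  rw [hf] at hff
  have htt : (d * v) * (d * v) = 1 := sq_eq_one_of_commute hdd hvv hdv
  have hti : (d * v)⁻¹ = d * v := inv_eq_of_mul_eq_one_left htt
  have het : (x * d * x⁻¹) * (d * v) * (x * d * x⁻¹) = d * v := by
    calc (x * d * x⁻¹) * (d * v) * (x * d * x⁻¹)
        = ((x * d * x⁻¹) * (d * v) * ((x * d * x⁻¹) * (d * v))) * (d * v)⁻¹ := by group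
      _ = d * v := by rw [hff, one_mul, hti]
  have hbr1 : (x * d * x⁻¹) * d * (x * d * x⁻¹) = d * (x * d * x⁻¹) * d :=
    hT.braid he hd (fun h => hne h.symm)
  have hbr2 : (x * d * x⁻¹) * v * (x * d * x⁻¹) = v * (x * d * x⁻¹) * v :=
    hT.braid he hv (fun h => hve h.symm)
  have h1 := s4_contra hdd hvv hee hbr1 hbr2 het
  apply hvd
  calc v = d⁻¹ * (d * v) := by group
    _ = d := by rw [h1, mul_one, hdi]

/-- `O_3(G) ≰ Z(G)`: an `E(G)`-conjugate of `d` commuting with `d` equals `d`. -/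
theorem eq_of_commute_conj_of_W (hT : TT D) {d w : G} (hd : d ∈ D) (hw : w ∈ D) (hwd : w ≠ d)
    (hs : d * w ∈ pCore 3 G) (hDm : Dm D d = Dm D w) :
    ∀ x ∈ layer G, Commute d (x * d * x⁻¹) → x * d * x⁻¹ = d := by
  haveI : Fact (Nat.Prime 3) := ⟨Nat.prime_three⟩
  intro x hx hc
  by_contra hne
  have he : x * d * x⁻¹ ∈ D := hT.conj x d hd
  have hdd := hT.sq d hd
  have hee := hT.sq _ he
  have hdi := hT.inv_eq hd
  have hmem : x * d * x⁻¹ ∈ Dm D d := ⟨he, hne, hc⟩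
  rw [hDm] at hmem
  have hwe : Commute w (x * d * x⁻¹) := hmem.2.2
  have hs2 : d * w ∈ fittingSubgroup G := Cfsg.Agent.Helper22.pCore_le_fittingSubgroup 3 hs
  have hxs : (d * w) * x = x * (d * w) :=
    mem_centralizer_iff.mp (Cfsg.Agent.Helper22.layer_le_centralizer_fittingSubgroup hx) _ hs2
  have hconj : x * (d * w) * x⁻¹ = d * w := by rw [← hxs]; group
  have hf : x * w * x⁻¹ = (x * d * x⁻¹) * (d * w) := by
    calc x * w * x⁻¹ = x * ((d * d) * w) * x⁻¹ := by rw [hdd, one_mul]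
      _ = (x * d * x⁻¹) * (x * (d * w) * x⁻¹) := by group
      _ = (x * d * x⁻¹) * (d * w) := by rw [hconj]
  have hfD : x * w * x⁻¹ ∈ D := hT.conj x w hw
  have hff := hT.sq _ hfD
  rw [hf] at hff
  have hes : Commute (x * d * x⁻¹) (d * w) := (hc.mul_left hwe).symm
  have hss : (d * w) * (d * w) = 1 := by
    calc (d * w) * (d * w) = ((x * d * x⁻¹) * (x * d * x⁻¹)) * ((d * w) * (d * w)) := by
          rw [hee, one_mul]
      _ = (x * d * x⁻¹) * ((x * d * x⁻¹) * (d * w)) * (d * w) := by group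
      _ = (x * d * x⁻¹) * ((d * w) * (x * d * x⁻¹)) * (d * w) := by rw [hes.eq]
      _ = ((x * d * x⁻¹) * (d * w)) * ((x * d * x⁻¹) * (d * w)) := by group
      _ = 1 := hff
  have hs1 : d * w = 1 := by
    obtain ⟨k, hk⟩ := (pCore_isPGroup 3 G) ⟨d * w, hs⟩
    have hk' : (d * w) ^ 3 ^ k = 1 := by
      have := congrArg Subtype.val hk
      simpa using this
    have h3k : orderOf (d * w) ∣ 3 ^ k := orderOf_dvd_of_pow_eq_one hk'
    have h2 : orderOf (d * w) ∣ 2 := orderOf_dvd_of_pow_eq_one (by rw [pow_two]; exact hss)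
    have hcop : Nat.Coprime (orderOf (d * w)) (3 ^ k) :=
      Nat.Coprime.coprime_dvd_left h2 (Nat.Coprime.pow_right k (by norm_num))
    have h1 : orderOf (d * w) = 1 := Nat.Coprime.eq_one_of_dvd hcop h3k
    exact orderOf_eq_one_iff.mp h1
  apply hwd
  calc w = d⁻¹ * (d * w) := by group
    _ = d := by rw [hs1, mul_one, hdi]

theorem conj_set_commute_iff {d : G} (x y : G) :
    Commute (x * d * x⁻¹) (y * d * y⁻¹) ↔ Commute d ((x⁻¹ * y) * d * (x⁻¹ * y)⁻¹) := by
  rw [commute_conj_iff]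
  have e : x⁻¹ * (y * d * y⁻¹) * x = (x⁻¹ * y) * d * (x⁻¹ * y)⁻¹ := by group
  rw [e]

/-- `O_2(G) ≰ Z(G)` and `E(G) ≠ 1` are incompatible. -/
theorem false_of_two_layer (hD : IsThreeTranspositionClass D) (hD2 : ∃ a ∈ D, ∃ b ∈ D, a ≠ b)
    (h2 : ¬ pCore 2 G ≤ center G) (hL : layer G ≠ ⊥) : False := by
  haveI : Fact (Nat.Prime 2) := ⟨Nat.prime_two⟩
  have hT : TT D := TT.of_class hD
  have hD2' : ∃ a ∈ D, ∃ b ∈ D, a ≠ b := hD2
  obtain ⟨d, hd, -⟩ := hD2
  obtain ⟨v, hv, hvd, hsim, ht⟩ := exists_V hD hD2' hd h2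
  have hcomm := commute_conj_of_V hT hd hv hvd hsim ht
  have hdd := hT.sq d hd
  obtain ⟨SE, hSE⟩ : ∃ SE : Set G, SE = {e | ∃ x ∈ layer G, e = x * d * x⁻¹} := ⟨_, rfl⟩
  have hsq : ∀ a ∈ SE, a * a = 1 := by
    rw [hSE]; rintro a ⟨x, -, rfl⟩; exact hT.sq _ (hT.conj x d hd)
  have hcm : ∀ a ∈ SE, ∀ b ∈ SE, Commute a b := by
    rw [hSE]; rintro a ⟨x, hx, rfl⟩ b ⟨y, hy, rfl⟩
    rw [conj_set_commute_iff]
    exact hcomm _ (mul_mem (inv_mem hx) hy)
  have hQ : IsPGroup 2 (closure SE) := isPGroup_two_closure hsq hcm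
  apply false_of_layer_le_centralizer hD hd hL
  apply layer_centralizes_of_pgroup hdd (closure SE) hQ
  intro x hx y hy
  apply mul_mem
  · apply Subgroup.subset_closure; rw [hSE]; exact ⟨x, hx, rfl⟩
  · apply Subgroup.subset_closure; rw [hSE]; exact ⟨y, hy, rfl⟩

end main

/-- `O_3(G) ≰ Z(G)` and `E(G) ≠ 1` are incompatible (uses the Z*-theorem). -/
theorem false_of_three_layer (h : Cfsg.Agent.Helper20.ZStarHyp.{u}) {G : Type u} [Group G]
    [Finite G] {D : Set G} (hD : IsThreeTranspositionClass D) (hD2 : ∃ a ∈ D, ∃ b ∈ D, a ≠ b)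
    (h3 : ¬ pCore 3 G ≤ center G) (hL : layer G ≠ ⊥) : False := by
  haveI : Fact (Nat.Prime 3) := ⟨Nat.prime_three⟩
  have hT : TT D := TT.of_class hD
  obtain ⟨d, hd, -⟩ := hD2
  have hEn : (layer G).Normal := Cfsg.Agent.Helper22.layer_normal
  obtain ⟨w, hw, hwd, hs, hDm⟩ := exists_W hD hd h3
  have hkey := eq_of_commute_conj_of_W hT hd hw hwd hs hDm
  have hdd := hT.sq d hd
  have hdi := hT.inv_eq hd
  obtain ⟨SE, hSE⟩ : ∃ SE : Set G, SE = {e | ∃ x ∈ layer G, e = x * d * x⁻¹} := ⟨_, rfl⟩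
  have hED : SE ⊆ D := by
    rw [hSE]; rintro a ⟨x, -, rfl⟩; exact hT.conj x d hd
  have hne1 : ∀ e ∈ SE, e ≠ 1 := by
    intro e he h1
    have := hD.1.1 e (hED he)
    rw [h1, orderOf_one] at this
    omega
  have hw1 : ∀ a ∈ SE, ∀ b ∈ SE, Commute a b → a = b := by
    rw [hSE]; rintro a ⟨x, hx, rfl⟩ b ⟨y, hy, rfl⟩ hc
    rw [conj_set_commute_iff] at hc
    have h1 := hkey _ (mul_mem (inv_mem hx) hy) hc
    calc x * d * x⁻¹ = x * ((x⁻¹ * y) * d * (x⁻¹ * y)⁻¹) * x⁻¹ := by rw [h1]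
      _ = y * d * y⁻¹ := by group
  have hconj : ∀ a ∈ SE, ∀ e ∈ SE, a * e * a⁻¹ ∈ SE := by
    rw [hSE]; rintro a ⟨x, hx, rfl⟩ e ⟨y, hy, rfl⟩
    refine ⟨x * (d * (x⁻¹ * y) * d⁻¹), mul_mem hx (hEn.conj_mem _ (mul_mem (inv_mem hx) hy) d), ?_⟩
    rw [hdi]
    have e1 : (x * d * x⁻¹) * (y * d * y⁻¹) * (x * d * x⁻¹)⁻¹ =
        x * d * x⁻¹ * y * d * y⁻¹ * x * d⁻¹ * x⁻¹ := by group
    have e2 : x * (d * (x⁻¹ * y) * d) * d * (x * (d * (x⁻¹ * y) * d))⁻¹ =
        x * d * x⁻¹ * y * (d * d) * d⁻¹ * y⁻¹ * x * d⁻¹ * x⁻¹ := by group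
    rw [e1, e2, hdd, hdi]; group
  obtain ⟨Q, hQ, hQmem⟩ := width_one_sub h hT hED hne1 hw1 hconj
  apply false_of_layer_le_centralizer hD hd hL
  apply layer_centralizes_of_pgroup hdd Q hQ
  intro x hx y hy
  apply hQmem
  · rw [hSE]; exact ⟨x, hx, rfl⟩
  · rw [hSE]; exact ⟨y, hy, rfl⟩

/-- `O_2(G) ≰ Z(G)` and `O_3(G) ≰ Z(G)` are incompatible. -/
theorem false_of_two_three {G : Type*} [Group G] [Finite G] {D : Set G}
    (hD : IsThreeTranspositionClass D) (hD2 : ∃ a ∈ D, ∃ b ∈ D, a ≠ b)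
    (h2 : ¬ pCore 2 G ≤ center G) (h3 : ¬ pCore 3 G ≤ center G) : False := by
  have hT : TT D := TT.of_class hD
  have hD2' := hD2
  obtain ⟨d, hd, -⟩ := hD2
  obtain ⟨v, hv, hvd, hsim, -⟩ := exists_V hD hD2' hd h2
  obtain ⟨w, hw, hwd, -, hDm⟩ := exists_W hD hd h3
  have hDg : IsThreeTranspositionGroup D := ⟨hD.1, hT.conj, hD.2.2⟩
  rcases Cfsg.Agent.S5348.result hDg hd with hV | hW
  · have hmem : v ∈ {v : G | v ∈ D ∧ ∀ e ∈ D, Commute v e ↔ Commute d e} := ⟨hv, hsim⟩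
    rw [hV] at hmem
    exact hvd hmem
  · have hmem : w ∈ {w : G | w ∈ D ∧ {y : G | y ∈ D ∧ y ≠ d ∧ Commute d y} =
        {y : G | y ∈ D ∧ y ≠ w ∧ Commute w y}} := ⟨hw, hDm⟩
    rw [hW] at hmem
    exact hwd hmem

/-- The trichotomy (statement of S5351), given the Z*-theorem. -/
theorem trichotomy (h : Cfsg.Agent.Helper20.ZStarHyp.{u}) {G : Type u} [Group G]
    [Finite G] {D : Set G} (hD : IsThreeTranspositionClass D) (hD2 : ∃ a ∈ D, ∃ b ∈ D, a ≠ b) :
    (∀ p : ℕ, p.Prime → 3 < p → Cfsg.pCore p G ≤ Subgroup.center G) ∧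
    ((¬ Cfsg.pCore 2 G ≤ Subgroup.center G ∧ Cfsg.pCore 3 G ≤ Subgroup.center G ∧
        Cfsg.layer G = ⊥) ∨
      (Cfsg.pCore 2 G ≤ Subgroup.center G ∧ ¬ Cfsg.pCore 3 G ≤ Subgroup.center G ∧
        Cfsg.layer G = ⊥) ∨
      (Cfsg.pCore 2 G ≤ Subgroup.center G ∧ Cfsg.pCore 3 G ≤ Subgroup.center G ∧
        Cfsg.layer G ≠ ⊥)) := by
  refine ⟨fun p hp h3 => pCore_le_center_of_gt hD hD2 p hp h3, ?_⟩
  by_cases h2 : Cfsg.pCore 2 G ≤ Subgroup.center G
  · by_cases h3 : Cfsg.pCore 3 G ≤ Subgroup.center G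
    · right; right
      exact ⟨h2, h3, fun hL => false_of_all hD hD2 h2 h3 hL⟩
    · right; left
      refine ⟨h2, h3, ?_⟩
      by_contra hL
      exact false_of_three_layer h hD hD2 h3 hL
  · left
    refine ⟨h2, ?_, ?_⟩
    · by_contra h3
      exact false_of_two_three hD hD2 h2 h3
    · by_contra hL
      exact false_of_two_layer hD hD2 h2 hL

end Cfsg.Agent.Helper49.TTTri
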