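import Mathlib

/-!
# Groups generated by three-cycles (helper49)

* `alternatingGroup_le_closure_of_isPretransitive`: a transitive group generated by 3-cycles
  contains the alternating group (via Jordan's theorem in Mathlib).
-/

set_option autoImplicit false

namespace Cfsg.Agent.Helper49

open Equiv Equiv.Perm Subgroup MulAction
open scoped Pointwise

section Jordan

variable {β : Type*} [Fintype β] [DecidableEq β]

/-- A transitive permutation group generated by 3-cycles is primitive. -/
theorem isPreprimitive_closure_threeCycles (T' : Set (Perm β))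
    (hT : ∀ c ∈ T', c.IsThreeCycle)
    [htr : IsPretransitive (closure T') β] : IsPreprimitive (closure T') β := by
  refine { htr with isTrivialBlock_of_isBlock := ?_ }
  intro B hB
  by_contra hcon
  unfold IsTrivialBlock at hcon
  push Not at hcon
  obtain ⟨hns, hnu⟩ := hcon
  obtain ⟨x, hx, y, hy, hxy⟩ := hns
  obtain ⟨z, hz⟩ := (Set.ne_univ_iff_exists_notMem B).1 hnu
  -- some generator moves the block
  have h1 : ∃ c ∈ T', (c : Perm β) • B ≠ B := by
    by_contra hall
    push Not at hall
    have hstab : ∀ g ∈ closure T', (g : Perm β) • B = B := by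
      intro g hg
      induction hg using Subgroup.closure_induction with
      | mem c hc => exact hall c hc
      | one => simp
      | mul a b _ _ ha hb => rw [mul_smul, hb, ha]
      | inv a _ ha => rw [inv_smul_eq_iff, ha]
    obtain ⟨g, hg⟩ := exists_smul_eq (closure T') x z
    have : z ∈ ((g : Perm β) • B) := ⟨x, hx, hg⟩
    rw [hstab g g.2] at this
    exact hz this
  obtain ⟨c, hc, hcB⟩ := h1
  have hdis : Disjoint ((c : Perm β) • B) B := by
    have := hB.smul_eq_or_disjoint (⟨c, subset_closure hc⟩ : closure T')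
    rcases this with h | h
    · exact absurd h hcB
    · exact h
  have hmem : ∀ b ∈ B, c b ∉ B := by
    intro b hb hcb
    exact (Set.disjoint_left.1 hdis) ⟨b, hb, rfl⟩ hcb
  have h3 := (hT c hc).card_support
  have hsub : ({x, y, c x, c y} : Finset β) ⊆ c.support := by
    intro w hw
    simp only [Finset.mem_insert, Finset.mem_singleton] at hw
    rcases hw with rfl | rfl | rfl | rfl
    · rw [mem_support]; intro h; exact hmem _ hx (by rw [h]; exact hx)
    · rw [mem_support]; intro h; exact hmem _ hy (by rw [h]; exact hy)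
    · rw [apply_mem_support, mem_support]; intro h; exact hmem _ hx (by rw [h]; exact hx)
    · rw [apply_mem_support, mem_support]; intro h; exact hmem _ hy (by rw [h]; exact hy)
  have hcard : ({x, y, c x, c y} : Finset β).card = 4 := by
    have e1 : c x ≠ c y := fun h => hxy (c.injective h)
    have e2 : x ≠ c x := fun h => hmem _ hx (h ▸ hx)
    have e3 : x ≠ c y := fun h => hmem _ hy (h ▸ hx)
    have e4 : y ≠ c x := fun h => hmem _ hx (h ▸ hy)
    have e5 : y ≠ c y := fun h => hmem _ hy (h ▸ hy)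
    rw [Finset.card_insert_of_notMem, Finset.card_insert_of_notMem, Finset.card_insert_of_notMem,
      Finset.card_singleton]
    · simpa using e1
    · simp [e4, e5]
    · simp [hxy, e2, e3]
  have := Finset.card_le_card hsub
  omega

/-- A transitive permutation group generated by a nonempty set of 3-cycles contains the
alternating group. -/
theorem alternatingGroup_le_closure_of_isPretransitive (T' : Set (Perm β))
    (hT : ∀ c ∈ T', c.IsThreeCycle) (hne : T'.Nonempty)
    [htr : IsPretransitive (closure T') β] : alternatingGroup β ≤ closure T' := by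
  obtain ⟨c, hc⟩ := hne
  have hprim := isPreprimitive_closure_threeCycles T' hT
  exact alternatingGroup_le_of_isPreprimitive_of_isThreeCycle_mem hprim (hT c hc)
    (subset_closure hc)

end Jordan

section AltOn

variable {α : Type*} [Fintype α] [DecidableEq α]

/-- The even permutations supported inside `Δ`. -/
def altOn (Δ : Finset α) : Subgroup (Perm α) where
  carrier := {σ | (∀ x, σ x ≠ x → x ∈ Δ) ∧ sign σ = 1}
  one_mem' := by simp
  mul_mem' := by
    rintro σ τ ⟨h1, h2⟩ ⟨h3, h4⟩
    refine ⟨fun x hx => ?_, by simp [h2, h4]⟩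
    by_cases hτ : τ x = x
    · apply h1; intro h; apply hx; rw [Perm.mul_apply, hτ, h]
    · exact h3 x hτ
  inv_mem' := by
    rintro σ ⟨h1, h2⟩
    refine ⟨fun x hx => h1 x ?_, by simp [h2]⟩
    intro h; apply hx; rw [Perm.inv_eq_iff_eq]; exact h.symm

theorem mem_altOn {Δ : Finset α} {σ : Perm α} :
    σ ∈ altOn Δ ↔ (∀ x, σ x ≠ x → x ∈ Δ) ∧ sign σ = 1 := Iff.rfl

omit [Fintype α] in
/-- A permutation supported in `Δ` preserves `Δ`. -/
theorem mem_iff_of_support {Δ : Finset α} {σ : Perm α} (h : ∀ x, σ x ≠ x → x ∈ Δ) (x : α) :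
    σ x ∈ Δ ↔ x ∈ Δ := by
  by_cases hx : σ x = x
  · rw [hx]
  · have h2 : σ (σ x) ≠ σ x := fun h' => hx (σ.injective h')
    exact ⟨fun _ => h x hx, fun _ => h _ h2⟩

/-- `altOn Δ` is isomorphic to the alternating group on `Δ`. -/
noncomputable def altOnEquiv (Δ : Finset α) : alternatingGroup {x // x ∈ Δ} ≃* altOn Δ := by
  let f : alternatingGroup {x // x ∈ Δ} →* Perm α :=
    (ofSubtype : Perm {x // x ∈ Δ} →* Perm α).comp (alternatingGroup {x // x ∈ Δ}).subtype
  have hf : Function.Injective f :=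
    (ofSubtype_injective).comp (Subgroup.subtype_injective _)
  have hr : f.range = altOn Δ := by
    ext σ
    constructor
    · rintro ⟨τ, rfl⟩
      refine ⟨fun x hx => ?_, ?_⟩
      · by_contra hxΔ
        apply hx
        exact ofSubtype_apply_of_not_mem (τ : Perm {x // x ∈ Δ}) hxΔ
      · show sign (ofSubtype (τ : Perm {x // x ∈ Δ})) = 1
        rw [sign_ofSubtype]; exact τ.2
    · rintro ⟨h1, h2⟩
      have hiff := mem_iff_of_support h1
      refine ⟨⟨subtypePerm σ (fun x => hiff x), ?_⟩, ?_⟩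
      · rw [mem_alternatingGroup, ← sign_ofSubtype, ofSubtype_subtypePerm _ h1]; exact h2
      · exact ofSubtype_subtypePerm hiff h1
  exact (MonoidHom.ofInjective hf).trans (MulEquiv.subgroupCongr hr)

/-- A 3-cycle that preserves `Δ` and moves a point of `Δ` is supported in `Δ`. -/
theorem support_subset_of_threeCycle {Δ : Finset α} {c : Perm α} (hc : c.IsThreeCycle)
    (hinv : ∀ x ∈ Δ, c x ∈ Δ) {a : α} (ha : a ∈ Δ) (hca : c a ≠ a) :
    ∀ x, c x ≠ x → x ∈ Δ := by
  intro x hx
  obtain ⟨i, hi⟩ := hc.isCycle.exists_pow_eq hca hx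
  rw [← hi]
  clear hi
  induction i with
  | zero => simpa using ha
  | succ k ih => rw [pow_succ', Perm.mul_apply]; exact hinv _ ih

/-- A 3-cycle preserving `Δ` forwards also preserves it backwards. -/
theorem mem_iff_of_threeCycle {Δ : Finset α} {c : Perm α} (hc : c.IsThreeCycle)
    (hinv : ∀ x ∈ Δ, c x ∈ Δ) (x : α) : c x ∈ Δ ↔ x ∈ Δ := by
  refine ⟨fun h => ?_, hinv x⟩
  have h3 : c ^ 3 = 1 := by rw [← hc.orderOf]; exact pow_orderOf_eq_one c
  have : c (c (c x)) = x := by
    have := congrArg (fun f : Perm α => f x) h3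
    simpa [pow_succ, Perm.mul_apply] using this
  rw [← this]
  exact hinv _ (hinv _ h)

/-- **Jordan on an orbit.**  Let `T` be a set of 3-cycles, `Δ` a `T`-invariant set on which
`closure T` is transitive and which is moved by some element of `T`.  Then every even permutation
supported on `Δ` lies in the subgroup generated by the members of `T` supported on `Δ`. -/
theorem altOn_le_closure (T : Set (Perm α)) (hT : ∀ c ∈ T, c.IsThreeCycle) (Δ : Finset α)
    (hinv : ∀ c ∈ T, ∀ x ∈ Δ, c x ∈ Δ)
    (htrans : ∀ x ∈ Δ, ∀ y ∈ Δ, ∃ σ ∈ closure T, σ x = y)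
    (hne : ∃ c ∈ T, ∃ x ∈ Δ, c x ≠ x) :
    altOn Δ ≤ closure {c | c ∈ T ∧ ∀ x, c x ≠ x → x ∈ Δ} := by
  classical
  -- generators living on `Δ`
  set T' : Set (Perm {x // x ∈ Δ}) := {g | ofSubtype g ∈ T} with hT'
  have hT'3 : ∀ g ∈ T', g.IsThreeCycle := by
    intro g hg
    have := hT _ hg
    rwa [IsThreeCycle, cycleType_ofSubtype] at this
  -- projection of `closure T` to `closure T'`
  have hproj : ∀ σ ∈ closure T, ∃ g ∈ closure T', ∀ x : {x // x ∈ Δ}, ((g x : {x // x ∈ Δ}) : α) = σ x := by
    intro σ hσ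
    induction hσ using Subgroup.closure_induction with
    | mem c hc =>
      by_cases hmv : ∃ a ∈ Δ, c a ≠ a
      · obtain ⟨a, ha, hca⟩ := hmv
        have hsup := support_subset_of_threeCycle (hT c hc) (hinv c hc) ha hca
        have hiff := mem_iff_of_threeCycle (hT c hc) (hinv c hc)
        refine ⟨subtypePerm c hiff, subset_closure ?_, fun x => rfl⟩
        show ofSubtype (subtypePerm c hiff) ∈ T
        rw [ofSubtype_subtypePerm hiff hsup]; exact hc
      · push Not at hmv
        exact ⟨1, one_mem _, fun x => (hmv x x.2).symm⟩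
    | one => exact ⟨1, one_mem _, fun x => rfl⟩
    | mul a b _ _ ha hb =>
      obtain ⟨ga, hga, ha'⟩ := ha
      obtain ⟨gb, hgb, hb'⟩ := hb
      refine ⟨ga * gb, mul_mem hga hgb, fun x => ?_⟩
      rw [Perm.mul_apply, Perm.mul_apply, ha', hb']
    | inv a _ ha =>
      obtain ⟨ga, hga, ha'⟩ := ha
      refine ⟨ga⁻¹, inv_mem hga, fun x => ?_⟩
      rw [Perm.eq_inv_iff_eq, ← ha']; simp
  -- transitivity
  have htr : IsPretransitive (closure T') {x // x ∈ Δ} := by
    refine ⟨fun x y => ?_⟩
    obtain ⟨σ, hσ, hσxy⟩ := htrans x x.2 y y.2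
    obtain ⟨g, hg, hg'⟩ := hproj σ hσ
    refine ⟨⟨g, hg⟩, Subtype.ext ?_⟩
    show ((g x : {x // x ∈ Δ}) : α) = y
    rw [hg', hσxy]
  have hne' : T'.Nonempty := by
    obtain ⟨c, hc, a, ha, hca⟩ := hne
    have hsup := support_subset_of_threeCycle (hT c hc) (hinv c hc) ha hca
    have hiff := mem_iff_of_threeCycle (hT c hc) (hinv c hc)
    refine ⟨subtypePerm c hiff, ?_⟩
    show ofSubtype (subtypePerm c hiff) ∈ T
    rw [ofSubtype_subtypePerm hiff hsup]; exact hc
  have hJ := alternatingGroup_le_closure_of_isPretransitive T' hT'3 hne'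
  -- push forward
  rintro τ ⟨h1, h2⟩
  have hiff := mem_iff_of_support h1
  have hτ' : subtypePerm τ hiff ∈ closure T' := by
    apply hJ
    rw [mem_alternatingGroup, ← sign_ofSubtype, ofSubtype_subtypePerm hiff h1]; exact h2
  have hmap : ofSubtype (subtypePerm τ hiff) ∈ (closure T').map (ofSubtype : Perm {x // x ∈ Δ} →* Perm α) :=
    Subgroup.mem_map_of_mem _ hτ'
  rw [ofSubtype_subtypePerm hiff h1, MonoidHom.map_closure] at hmap
  refine (Subgroup.closure_mono ?_) hmap
  rintro _ ⟨g, hg, rfl⟩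
  refine ⟨hg, fun x hx => ?_⟩
  by_contra hxΔ
  exact hx (ofSubtype_apply_of_not_mem g hxΔ)

/-- The subgroup generated by 3-cycles supported on `Δ` lies in `altOn Δ`. -/
theorem closure_le_altOn (T : Set (Perm α)) (hT : ∀ c ∈ T, c.IsThreeCycle) (Δ : Finset α) :
    closure {c | c ∈ T ∧ ∀ x, c x ≠ x → x ∈ Δ} ≤ altOn Δ := by
  rw [Subgroup.closure_le]
  rintro c ⟨hc, hsup⟩
  exact ⟨hsup, (hT c hc).sign⟩

end AltOn

section SylowThree

variable {α : Type*} [Fintype α] [DecidableEq α]

/-- The 3-cycle on the `i`-th triple of an embedding `Fin k × Fin 3 ↪ α`. -/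
def cyc {k : ℕ} (ι : Fin k × Fin 3 ↪ α) (i : Fin k) : Perm α :=
  swap (ι (i, 0)) (ι (i, 1)) * swap (ι (i, 0)) (ι (i, 2))

omit [Fintype α] in
theorem cyc_apply_of_ne {k : ℕ} (ι : Fin k × Fin 3 ↪ α) (i : Fin k) (x : α)
    (hx : ∀ j : Fin 3, x ≠ ι (i, j)) : cyc ι i x = x := by
  unfold cyc
  rw [Perm.mul_apply, swap_apply_of_ne_of_ne (hx 0) (hx 2), swap_apply_of_ne_of_ne (hx 0) (hx 1)]

theorem cyc_isThreeCycle {k : ℕ} (ι : Fin k × Fin 3 ↪ α) (i : Fin k) : (cyc ι i).IsThreeCycle := by
  apply isThreeCycle_swap_mul_swap_same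
  · intro h; have := ι.injective h; simp at this
  · intro h; have := ι.injective h; simp at this
  · intro h; have := ι.injective h; simp at this

omit [Fintype α] in
theorem cyc_apply_zero {k : ℕ} (ι : Fin k × Fin 3 ↪ α) (i : Fin k) :
    cyc ι i (ι (i, 0)) ≠ ι (i, 0) := by
  unfold cyc
  have h02 : ι (i, 0) ≠ ι (i, 2) := by intro h; have := ι.injective h; simp at this
  have h12 : ι (i, 1) ≠ ι (i, 2) := by intro h; have := ι.injective h; simp at this
  have h01 : ι (i, 0) ≠ ι (i, 1) := by intro h; have := ι.injective h; simp at this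
  rw [Perm.mul_apply, swap_apply_left, swap_apply_of_ne_of_ne h02.symm h12.symm]
  exact h02.symm

omit [Fintype α] in
/-- Conjugating `cyc ι i` by `g` gives `cyc (g ∘ ι) i`. -/
theorem conj_cyc {k : ℕ} (ι : Fin k × Fin 3 ↪ α) (g : Perm α) (i : Fin k) :
    g * cyc ι i * g⁻¹ = cyc (ι.trans g.toEmbedding) i := by
  unfold cyc
  simp only [Function.Embedding.trans_apply, Equiv.coe_toEmbedding, swap_apply_apply]
  group

omit [Fintype α] in
theorem cyc_commute {k : ℕ} (ι : Fin k × Fin 3 ↪ α) (i j : Fin k) :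
    cyc ι i * cyc ι j = cyc ι j * cyc ι i := by
  by_cases hij : i = j
  · rw [hij]
  · have hdis : Perm.Disjoint (cyc ι i) (cyc ι j) := by
      intro x
      by_cases hx : ∀ l : Fin 3, x ≠ ι (i, l)
      · exact Or.inl (cyc_apply_of_ne ι i x hx)
      · push Not at hx
        obtain ⟨l, rfl⟩ := hx
        refine Or.inr (cyc_apply_of_ne ι j _ (fun m h => ?_))
        have := ι.injective h
        simp only [Prod.mk.injEq] at this
        exact hij this.1
    exact hdis.commute.eq

/-- Every Sylow 3-subgroup of `Perm (Fin n)` contains `n / 3` pairwise disjoint 3-cycles. -/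
theorem exists_cyc_mem_sylow (n : ℕ) (P : Sylow 3 (Perm (Fin n))) :
    ∃ ι : Fin (n / 3) × Fin 3 ↪ Fin n, ∀ i, cyc ι i ∈ (P : Subgroup (Perm (Fin n))) := by
  have hcard : Fintype.card (Fin (n / 3) × Fin 3) ≤ Fintype.card (Fin n) := by
    simp only [Fintype.card_prod, Fintype.card_fin]
    exact Nat.div_mul_le_self n 3
  obtain ⟨ι₀⟩ := Function.Embedding.nonempty_of_card_le hcard
  set S : Set (Perm (Fin n)) := Set.range (cyc ι₀) with hS
  have hcomm : ∀ a ∈ closure S, ∀ b ∈ closure S, a * b = b * a := by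
    have h1 : S ⊆ Subgroup.centralizer S := by
      rintro _ ⟨i, rfl⟩
      show cyc ι₀ i ∈ Subgroup.centralizer S
      rw [Subgroup.mem_centralizer_iff]
      rintro _ ⟨j, rfl⟩
      exact cyc_commute ι₀ j i
    have h2 : closure S ≤ Subgroup.centralizer S := (Subgroup.closure_le _).2 h1
    have h3 : closure S ≤ Subgroup.centralizer (Subgroup.centralizer S : Set (Perm (Fin n))) :=
      Subgroup.closure_le_centralizer_centralizer S
    intro a ha b hb
    have := (Subgroup.mem_centralizer_iff.1 (h3 ha)) b (h2 hb)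
    exact this.symm
  have hpow : ∀ a ∈ closure S, a ^ 3 = 1 := by
    intro a ha
    induction ha using Subgroup.closure_induction with
    | mem c hc =>
      obtain ⟨i, rfl⟩ := hc
      have h := pow_orderOf_eq_one (cyc ι₀ i)
      rwa [(cyc_isThreeCycle ι₀ i).orderOf] at h
    | one => simp
    | mul a b ha hb iha ihb =>
      rw [(show Commute a b from hcomm a ha b hb).mul_pow, iha, ihb, one_mul]
    | inv a _ iha => rw [inv_pow, iha, inv_one]
  have hp : IsPGroup 3 (closure S) := by
    intro a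
    refine ⟨1, ?_⟩
    apply Subtype.ext
    simpa using hpow a a.2
  obtain ⟨Q, hQ⟩ := hp.exists_le_sylow
  obtain ⟨g, hg⟩ := MulAction.exists_smul_eq (Perm (Fin n)) Q P
  refine ⟨ι₀.trans g.toEmbedding, fun i => ?_⟩
  rw [← conj_cyc, ← hg]
  have hmem : cyc ι₀ i ∈ (Q : Subgroup (Perm (Fin n))) := hQ (subset_closure ⟨i, rfl⟩)
  rw [Sylow.coe_subgroup_smul]
  have := Subgroup.smul_mem_pointwise_smul (cyc ι₀ i) (MulAut.conj g) (Q : Subgroup (Perm (Fin n))) hmem
  simpa [MulAut.smul_def] using this

end SylowThree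

end Cfsg.Agent.Helper49
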