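import Mathlib

set_option autoImplicit false

namespace Cfsg.Agent.Helper49.TwoSL2

variable {G : Type*} [Group G]

/-- subgroup generated by the involutions of `D` -/
def canonW (D : Subgroup G) : Subgroup G := Subgroup.closure {d | d ∈ D ∧ d * d = 1}
/-- subgroup generated by the non-involutions of `canonW D` -/
def canonA (D : Subgroup G) : Subgroup G :=
  Subgroup.closure {w | w ∈ canonW D ∧ w * w ≠ 1}
/-- the `exp/2`-th powers -/
def phi (A : Subgroup G) : Set G := {g | ∃ a ∈ A, g = a ^ (Monoid.exponent ↥A / 2)}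

section prod

variable {H K : Subgroup G} (hc : ∀ x ∈ H, ∀ y ∈ K, x * y = y * x)

include hc in
lemma mulmul {a a' b b' : G} (ha' : a' ∈ H) (hb : b ∈ K) :
    (a * b) * (a' * b') = (a * a') * (b * b') := by
  rw [mul_assoc a b, ← mul_assoc b a', ← hc a' ha' b hb, mul_assoc a' b, ← mul_assoc a a']

include hc in
lemma mulinv {a b : G} (ha : a ∈ H) (hb : b ∈ K) : (a * b)⁻¹ = a⁻¹ * b⁻¹ := by
  rw [mul_inv_rev]
  exact (hc a⁻¹ (H.inv_mem ha) b⁻¹ (K.inv_mem hb)).symm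

include hc in
lemma mulpow {a b : G} (ha : a ∈ H) (hb : b ∈ K) (n : ℕ) : (a * b) ^ n = a ^ n * b ^ n :=
  (show Commute a b from hc a ha b hb).mul_pow n

/-- product of two elementwise commuting subgroups -/
def prodSub (H K : Subgroup G) (hc : ∀ x ∈ H, ∀ y ∈ K, x * y = y * x) : Subgroup G where
  carrier := {g | ∃ h ∈ H, ∃ k ∈ K, g = h * k}
  one_mem' := ⟨1, H.one_mem, 1, K.one_mem, by simp⟩
  mul_mem' := by
    rintro _ _ ⟨h, hh, k, hk, rfl⟩ ⟨h', hh', k', hk', rfl⟩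
    exact ⟨h * h', H.mul_mem hh hh', k * k', K.mul_mem hk hk', mulmul hc hh' hk⟩
  inv_mem' := by
    rintro _ ⟨h, hh, k, hk, rfl⟩
    exact ⟨h⁻¹, H.inv_mem hh, k⁻¹, K.inv_mem hk, mulinv hc hh hk⟩

lemma mem_prodSub {g : G} : g ∈ prodSub H K hc ↔ ∃ h ∈ H, ∃ k ∈ K, g = h * k := Iff.rfl

lemma prodSub_eq_sup : prodSub H K hc = H ⊔ K := by
  apply le_antisymm
  · rintro _ ⟨h, hh, k, hk, rfl⟩
    exact Subgroup.mul_mem_sup hh hk
  · apply sup_le
    · intro h hh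
      exact ⟨h, hh, 1, K.one_mem, by simp⟩
    · intro k hk
      exact ⟨1, H.one_mem, k, hk, by simp⟩

end prod

/-- the configuration: two commuting subgroups with the `SL₂`-like properties -/
structure Cfg (L₁ L₂ : Subgroup G) (j : G) : Prop where
  comm : ∀ x ∈ L₁, ∀ y ∈ L₂, x * y = y * x
  jj : j * j = 1
  j1 : j ≠ 1
  jL1 : j ∈ L₁
  jL2 : j ∈ L₂
  inter : ∀ z, z ∈ L₁ → z ∈ L₂ → z = 1 ∨ z = j
  U1 : ∀ z ∈ L₁, z * z = 1 → z = 1 ∨ z = j
  U2 : ∀ z ∈ L₂, z * z = 1 → z = 1 ∨ z = j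
  I1 : ∀ x ∈ L₁, x * x = j →
    ∃ y ∈ L₁, y * y = j ∧ ∀ t ∈ L₁, t * x = x * t → y * t * y⁻¹ = t⁻¹
  I2 : ∀ x ∈ L₂, x * x = j →
    ∃ y ∈ L₂, y * y = j ∧ ∀ t ∈ L₂, t * x = x * t → y * t * y⁻¹ = t⁻¹
  invX : ∀ d : G, d * j = j * d → d * d = 1 → ∃ l₁ ∈ L₁, ∃ l₂ ∈ L₂, d = l₁ * l₂

namespace Cfg

variable {L₁ L₂ : Subgroup G} {j : G} (cfg : Cfg L₁ L₂ j)

include cfg in
lemma jinv : j⁻¹ = j := inv_eq_of_mul_eq_one_right cfg.jj

include cfg in
/-- uniqueness of the decomposition up to `j`. -/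
lemma prod_eq {a a' b b' : G} (ha : a ∈ L₁) (ha' : a' ∈ L₁) (hb : b ∈ L₂) (hb' : b' ∈ L₂)
    (h : a * b = a' * b') : (a = a' ∧ b = b') ∨ (a = a' * j ∧ b = b' * j) := by
  have hz : a'⁻¹ * a = b' * b⁻¹ := by
    rw [inv_mul_eq_iff_eq_mul, ← mul_assoc, ← h, mul_assoc, mul_inv_cancel, mul_one]
  have hz1 : a'⁻¹ * a ∈ L₁ := L₁.mul_mem (L₁.inv_mem ha') ha
  have hz2 : a'⁻¹ * a ∈ L₂ := by rw [hz]; exact L₂.mul_mem hb' (L₂.inv_mem hb)
  rcases cfg.inter _ hz1 hz2 with h1 | h1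
  · left
    have haa : a = a' := by
      rw [inv_mul_eq_iff_eq_mul, mul_one] at h1
      exact h1
    refine ⟨haa, ?_⟩
    rw [haa] at h
    exact mul_left_cancel h
  · right
    have haa : a = a' * j := by
      rw [inv_mul_eq_iff_eq_mul] at h1
      exact h1
    refine ⟨haa, ?_⟩
    rw [hz, mul_inv_eq_iff_eq_mul] at h1
    -- h1 : b' = j * b
    have : b = j * b' := by
      rw [h1, ← mul_assoc, cfg.jj, one_mul]
    rw [this]
    exact cfg.comm j cfg.jL1 b' hb'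

end Cfg

theorem phi_eq [Finite G] {L₁ L₂ : Subgroup G} {j : G} (cfg : Cfg L₁ L₂ j) (u : G)
    (huj : u * j = j * u) (huu : u * u = 1) (hu1 : u ≠ 1) (hune : u ≠ j) :
    phi (canonA (Subgroup.centralizer ({j} : Set G) ⊓ Subgroup.centralizer ({u} : Set G))) =
      {1, j} := by
  have hjinv := cfg.jinv
  obtain ⟨x1, hx1, x2, hx2, hux⟩ := cfg.invX u huj huu
  have hsq : (x1 * x1) * (x2 * x2) = 1 := by
    rw [← mulmul cfg.comm hx1 hx2, ← hux]
    exact huu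
  have hx1sq' : x1 * x1 = 1 ∨ x1 * x1 = j := by
    apply cfg.inter _ (L₁.mul_mem hx1 hx1)
    have : x1 * x1 = (x2 * x2)⁻¹ := eq_inv_of_mul_eq_one_left hsq
    rw [this]
    exact L₂.inv_mem (L₂.mul_mem hx2 hx2)
  have hx1sq : x1 * x1 = j := by
    rcases hx1sq' with h | h
    · exfalso
      have h2 : x2 * x2 = 1 := by
        rw [h, one_mul] at hsq
        exact hsq
      rcases cfg.U1 x1 hx1 h with h1 | h1 <;> rcases cfg.U2 x2 hx2 h2 with h3 | h3
      · apply hu1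
        rw [hux, h1, h3, one_mul]
      · apply hune
        rw [hux, h1, h3, one_mul]
      · apply hune
        rw [hux, h1, h3, mul_one]
      · apply hu1
        rw [hux, h1, h3, cfg.jj]
    · exact h
  have hx2sq : x2 * x2 = j := by
    rw [hx1sq] at hsq
    have : x2 * x2 = j⁻¹ := eq_inv_of_mul_eq_one_right hsq
    rw [this, hjinv]
  obtain ⟨y1, hy1, hy1sq, hy1inv⟩ := cfg.I1 x1 hx1 hx1sq
  obtain ⟨y2, hy2, hy2sq, hy2inv⟩ := cfg.I2 x2 hx2 hx2sq
  obtain ⟨T1, hT1⟩ : ∃ T : Subgroup G, T = L₁ ⊓ Subgroup.centralizer ({x1} : Set G) := ⟨_, rfl⟩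
  obtain ⟨T2, hT2⟩ : ∃ T : Subgroup G, T = L₂ ⊓ Subgroup.centralizer ({x2} : Set G) := ⟨_, rfl⟩
  have memT1 : ∀ t, t ∈ T1 ↔ t ∈ L₁ ∧ t * x1 = x1 * t := by
    intro t
    rw [hT1, Subgroup.mem_inf, Subgroup.mem_centralizer_singleton_iff]
  have memT2 : ∀ t, t ∈ T2 ↔ t ∈ L₂ ∧ t * x2 = x2 * t := by
    intro t
    rw [hT2, Subgroup.mem_inf, Subgroup.mem_centralizer_singleton_iff]
  have hcT : ∀ a ∈ T1, ∀ b ∈ T2, a * b = b * a := fun a ha b hb =>
    cfg.comm a ((memT1 a).1 ha).1 b ((memT2 b).1 hb).1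
  obtain ⟨A0, hA0⟩ : ∃ A : Subgroup G, A = prodSub T1 T2 hcT := ⟨_, rfl⟩
  have memA0 : ∀ g, g ∈ A0 ↔ ∃ t1 ∈ T1, ∃ t2 ∈ T2, g = t1 * t2 := by
    intro g
    rw [hA0]
    exact Iff.rfl
  obtain ⟨D, hD⟩ : ∃ D : Subgroup G, D = Subgroup.centralizer ({j} : Set G) ⊓
      Subgroup.centralizer ({u} : Set G) := ⟨_, rfl⟩
  rw [← hD]
  have memD : ∀ d, d ∈ D ↔ d * j = j * d ∧ d * u = u * d := by
    intro d
    rw [hD, Subgroup.mem_inf, Subgroup.mem_centralizer_singleton_iff,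
      Subgroup.mem_centralizer_singleton_iff]
  have cj1 : ∀ a ∈ L₁, a * j = j * a := fun a ha => cfg.comm a ha j cfg.jL2
  have cj2 : ∀ b ∈ L₂, b * j = j * b := fun b hb => (cfg.comm j cfg.jL1 b hb).symm
  -- `A0 ≤ D`
  have hA0D : ∀ a ∈ A0, a ∈ D := by
    intro a ha
    obtain ⟨t1, ht1, t2, ht2, rfl⟩ := (memA0 a).1 ha
    obtain ⟨ht1L, ht1x⟩ := (memT1 t1).1 ht1
    obtain ⟨ht2L, ht2x⟩ := (memT2 t2).1 ht2
    rw [memD]
    constructor
    · rw [mul_assoc, cj2 t2 ht2L, ← mul_assoc, cj1 t1 ht1L, mul_assoc]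
    · rw [hux, mulmul cfg.comm hx1 ht2L, mulmul cfg.comm ht1L hx2, ht1x, ht2x]
  have hy1x : y1 * x1 * y1⁻¹ = x1⁻¹ := hy1inv x1 hx1 rfl
  have hy2x : y2 * x2 * y2⁻¹ = x2⁻¹ := hy2inv x2 hx2 rfl
  have hx1inv : x1⁻¹ = x1 * j := by
    apply inv_eq_of_mul_eq_one_right
    rw [← mul_assoc, hx1sq, cfg.jj]
  have hx2inv : x2⁻¹ = x2 * j := by
    apply inv_eq_of_mul_eq_one_right
    rw [← mul_assoc, hx2sq, cfg.jj]
  have k1 : y1 * x1 = x1 * y1 * j := by
    have : y1 * x1 = x1⁻¹ * y1 := by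
      rw [← hy1x]
      group
    rw [this, hx1inv, mul_assoc, ← cj1 y1 hy1, ← mul_assoc]
  have k2 : y2 * x2 = x2 * y2 * j := by
    have : y2 * x2 = x2⁻¹ * y2 := by
      rw [← hy2x]
      group
    rw [this, hx2inv, mul_assoc, ← cj2 y2 hy2, ← mul_assoc]
  have hyD : y1 * y2 ∈ D := by
    rw [memD]
    constructor
    · rw [mul_assoc, cj2 y2 hy2, ← mul_assoc, cj1 y1 hy1, mul_assoc]
    · rw [hux, mulmul cfg.comm hx1 hy2, mulmul cfg.comm hy1 hx2, k1, k2]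
      rw [mul_assoc (x1 * y1) j, ← mul_assoc j, ← cj2 (x2 * y2) (L₂.mul_mem hx2 hy2),
        mul_assoc (x2 * y2), cfg.jj, mul_one]
  -- elements of `A0 y` are involutions of `D`
  have hAy : ∀ a ∈ A0, (a * (y1 * y2)) * (a * (y1 * y2)) = 1 ∧ a * (y1 * y2) ∈ D := by
    intro a ha
    refine ⟨?_, D.mul_mem (hA0D a ha) hyD⟩
    obtain ⟨t1, ht1, t2, ht2, rfl⟩ := (memA0 a).1 ha
    obtain ⟨ht1L, ht1x⟩ := (memT1 t1).1 ht1
    obtain ⟨ht2L, ht2x⟩ := (memT2 t2).1 ht2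
    have e1 : (t1 * t2) * (y1 * y2) = (t1 * y1) * (t2 * y2) := mulmul cfg.comm hy1 ht2L
    have s1 : (t1 * y1) * (t1 * y1) = j := by
      have := hy1inv t1 ht1L ht1x
      calc (t1 * y1) * (t1 * y1) = t1 * (y1 * t1 * y1⁻¹) * (y1 * y1) := by group
        _ = j := by rw [this, mul_inv_cancel, one_mul, hy1sq]
    have s2 : (t2 * y2) * (t2 * y2) = j := by
      have := hy2inv t2 ht2L ht2x
      calc (t2 * y2) * (t2 * y2) = t2 * (y2 * t2 * y2⁻¹) * (y2 * y2) := by group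
        _ = j := by rw [this, mul_inv_cancel, one_mul, hy2sq]
    rw [e1, mulmul cfg.comm (L₁.mul_mem ht1L hy1) (L₂.mul_mem ht2L hy2), s1, s2, cfg.jj]
  -- twisted elements
  have m1 : ∀ d1 ∈ L₁, d1 * x1 = x1 * d1 * j → (d1 * y1) * x1 = x1 * (d1 * y1) := by
    intro d1 _ h
    calc (d1 * y1) * x1 = d1 * (y1 * x1) := mul_assoc _ _ _
      _ = d1 * (x1 * y1 * j) := by rw [k1]
      _ = (d1 * x1) * y1 * j := by simp only [mul_assoc]
      _ = (x1 * d1 * j) * y1 * j := by rw [h]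
      _ = x1 * d1 * (j * y1) * j := by simp only [mul_assoc]
      _ = x1 * d1 * (y1 * j) * j := by rw [← cj1 y1 hy1]
      _ = x1 * (d1 * y1) * (j * j) := by simp only [mul_assoc]
      _ = x1 * (d1 * y1) := by rw [cfg.jj, mul_one]
  have m2 : ∀ d2 ∈ L₂, d2 * x2 = x2 * d2 * j → (d2 * y2) * x2 = x2 * (d2 * y2) := by
    intro d2 _ h
    calc (d2 * y2) * x2 = d2 * (y2 * x2) := mul_assoc _ _ _
      _ = d2 * (x2 * y2 * j) := by rw [k2]
      _ = (d2 * x2) * y2 * j := by simp only [mul_assoc]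
      _ = (x2 * d2 * j) * y2 * j := by rw [h]
      _ = x2 * d2 * (j * y2) * j := by simp only [mul_assoc]
      _ = x2 * d2 * (y2 * j) * j := by rw [← cj2 y2 hy2]
      _ = x2 * (d2 * y2) * (j * j) := by simp only [mul_assoc]
      _ = x2 * (d2 * y2) := by rw [cfg.jj, mul_one]
  -- elements of `D ∩ X`
  have hDX : ∀ d ∈ D, ∀ d1 ∈ L₁, ∀ d2 ∈ L₂, d = d1 * d2 →
      d ∈ A0 ∨ ∃ a ∈ A0, d = a * (y1 * y2) := by
    intro d hd d1 hd1 d2 hd2 hdd
    have hdu := ((memD d).1 hd).2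
    rw [hdd, hux, mulmul cfg.comm hx1 hd2, mulmul cfg.comm hd1 hx2] at hdu
    rcases cfg.prod_eq (L₁.mul_mem hd1 hx1) (L₁.mul_mem hx1 hd1) (L₂.mul_mem hd2 hx2)
      (L₂.mul_mem hx2 hd2) hdu with ⟨h1, h2⟩ | ⟨h1, h2⟩
    · left
      rw [memA0]
      exact ⟨d1, (memT1 d1).2 ⟨hd1, h1⟩, d2, (memT2 d2).2 ⟨hd2, h2⟩, hdd⟩
    · right
      refine ⟨(d1 * y1) * (d2 * y2), ?_, ?_⟩
      · rw [memA0]
        exact ⟨d1 * y1, (memT1 _).2 ⟨L₁.mul_mem hd1 hy1, m1 d1 hd1 h1⟩, d2 * y2,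
          (memT2 _).2 ⟨L₂.mul_mem hd2 hy2, m2 d2 hd2 h2⟩, rfl⟩
      · rw [hdd, mulmul cfg.comm hy1 (L₂.mul_mem hd2 hy2), mul_assoc d1 y1 y1, hy1sq,
          mul_assoc d2 y2 y2, hy2sq]
        calc d1 * d2 = d1 * d2 * (j * j) := by rw [cfg.jj, mul_one]
          _ = d1 * (d2 * j) * j := by simp only [mul_assoc]
          _ = d1 * (j * d2) * j := by rw [cj2 d2 hd2]
          _ = (d1 * j) * (d2 * j) := by simp only [mul_assoc]
  have hWD : canonW D ≤ D := by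
    rw [canonW, Subgroup.closure_le]
    intro d hd
    exact hd.1
  have hWX : ∀ w ∈ canonW D, ∃ l1 ∈ L₁, ∃ l2 ∈ L₂, w = l1 * l2 := by
    have : canonW D ≤ prodSub L₁ L₂ cfg.comm := by
      rw [canonW, Subgroup.closure_le]
      intro d hd
      exact cfg.invX d ((memD d).1 hd.1).1 hd.2
    intro w hw
    exact this hw
  have hA0W : ∀ a ∈ A0, a ∈ canonW D := by
    intro a ha
    have h1 : a * (y1 * y2) ∈ canonW D :=
      Subgroup.subset_closure ⟨(hAy a ha).2, (hAy a ha).1⟩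
    have h2 : (y1 * y2) ∈ canonW D := by
      have := hAy 1 A0.one_mem
      rw [one_mul] at this
      exact Subgroup.subset_closure ⟨this.2, this.1⟩
    have : a = a * (y1 * y2) * (y1 * y2)⁻¹ := by group
    rw [this]
    exact (canonW D).mul_mem h1 ((canonW D).inv_mem h2)
  have hx1A0 : x1 ∈ A0 :=
    (memA0 x1).2 ⟨x1, (memT1 x1).2 ⟨hx1, rfl⟩, 1, T2.one_mem, (mul_one x1).symm⟩
  have hcan : canonA D = A0 := by
    apply le_antisymm
    · rw [canonA, Subgroup.closure_le]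
      intro w hw
      obtain ⟨hwW, hww⟩ := hw
      obtain ⟨l1, hl1, l2, hl2, hwl⟩ := hWX w hwW
      rcases hDX w (hWD hwW) l1 hl1 l2 hl2 hwl with h | ⟨a, ha, rfl⟩
      · exact h
      · exact absurd (hAy a ha).1 hww
    · intro a ha
      by_cases haa : a * a = 1
      · have hcomm : a * x1 = x1 * a := by
          obtain ⟨t1, ht1, t2, ht2, rfl⟩ := (memA0 a).1 ha
          obtain ⟨ht1L, ht1x⟩ := (memT1 t1).1 ht1
          obtain ⟨ht2L, _⟩ := (memT2 t2).1 ht2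
          rw [mul_assoc, ← cfg.comm x1 hx1 t2 ht2L, ← mul_assoc, ht1x, mul_assoc]
        have hsq' : (a * x1) * (a * x1) = j := by
          calc (a * x1) * (a * x1) = a * (x1 * a) * x1 := by simp only [mul_assoc]
            _ = a * (a * x1) * x1 := by rw [hcomm]
            _ = (a * a) * (x1 * x1) := by simp only [mul_assoc]
            _ = j := by rw [haa, hx1sq, one_mul]
        have h1 : a * x1 ∈ canonA D :=
          Subgroup.subset_closure ⟨hA0W _ (A0.mul_mem ha hx1A0), by rw [hsq']; exact cfg.j1⟩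
        have h2 : x1 ∈ canonA D :=
          Subgroup.subset_closure ⟨hA0W _ hx1A0, by rw [hx1sq]; exact cfg.j1⟩
        have : a = a * x1 * x1⁻¹ := by group
        rw [this]
        exact (canonA D).mul_mem h1 ((canonA D).inv_mem h2)
      · exact Subgroup.subset_closure ⟨hA0W a ha, haa⟩
  rw [hcan]
  have hjA0 : j ∈ A0 :=
    (memA0 j).2 ⟨j, (memT1 j).2 ⟨cfg.jL1, (cj1 x1 hx1).symm⟩, 1, T2.one_mem, (mul_one j).symm⟩
  obtain ⟨N, hN⟩ : ∃ N, N = Monoid.exponent ↥A0 := ⟨_, rfl⟩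
  have hpowN : ∀ a ∈ A0, a ^ N = 1 := by
    intro a ha
    have := Monoid.pow_exponent_eq_one (⟨a, ha⟩ : ↥A0)
    rw [← hN] at this
    have h := congrArg Subtype.val this
    simpa using h
  have hN0 : N ≠ 0 := by
    rw [hN]
    exact Monoid.exponent_ne_zero_of_finite
  have hNeven : 2 ∣ N := by
    by_contra h
    have hodd : N % 2 = 1 := by omega
    have hj := hpowN j hjA0
    have : j ^ N = j := by
      rw [← Nat.div_add_mod N 2, hodd, pow_add, pow_mul, pow_two, cfg.jj, one_pow, one_mul,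
        pow_one]
    rw [this] at hj
    exact cfg.j1 hj
  obtain ⟨e, he⟩ := hNeven
  have hdiv : N / 2 = e := by omega
  have hhalf : ∀ t ∈ A0, (t ^ e) * (t ^ e) = 1 := by
    intro t ht
    rw [← pow_add, ← two_mul, ← he]
    exact hpowN t ht
  have hT1A0 : ∀ t ∈ T1, t ∈ A0 := fun t ht =>
    (memA0 t).2 ⟨t, ht, 1, T2.one_mem, (mul_one t).symm⟩
  have hT2A0 : ∀ t ∈ T2, t ∈ A0 := fun t ht =>
    (memA0 t).2 ⟨1, T1.one_mem, t, ht, (one_mul t).symm⟩
  have hpow_mem : ∀ a ∈ A0, a ^ e = 1 ∨ a ^ e = j := by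
    intro a ha
    obtain ⟨t1, ht1, t2, ht2, rfl⟩ := (memA0 a).1 ha
    have ht1L := ((memT1 t1).1 ht1).1
    have ht2L := ((memT2 t2).1 ht2).1
    rw [mulpow cfg.comm ht1L ht2L]
    have h1 := cfg.U1 (t1 ^ e) (L₁.pow_mem ht1L e) (hhalf t1 (hT1A0 t1 ht1))
    have h2 := cfg.U2 (t2 ^ e) (L₂.pow_mem ht2L e) (hhalf t2 (hT2A0 t2 ht2))
    rcases h1 with h1 | h1 <;> rcases h2 with h2 | h2 <;> rw [h1, h2]
    · left
      rw [one_mul]
    · right
      rw [one_mul]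
    · right
      rw [mul_one]
    · left
      exact cfg.jj
  have hex : ∃ a ∈ A0, a ^ e = j := by
    by_contra hno
    push Not at hno
    have hall : ∀ a : ↥A0, a ^ e = 1 := by
      intro a
      rcases hpow_mem a.1 a.2 with h | h
      · exact Subtype.ext (by simpa using h)
      · exact absurd h (hno a.1 a.2)
    have hdvd := Monoid.exponent_dvd_of_forall_pow_eq_one hall
    rw [← hN] at hdvd
    have he0 : e ≠ 0 := by
      rintro rfl
      omega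
    have := Nat.le_of_dvd (Nat.pos_of_ne_zero he0) hdvd
    omega
  ext g
  simp only [phi, Set.mem_ofPred_eq, Set.mem_insert_iff, Set.mem_singleton_iff]
  rw [← hN, hdiv]
  constructor
  · rintro ⟨a, ha, rfl⟩
    exact hpow_mem a ha
  · rintro (rfl | rfl)
    · exact ⟨1, A0.one_mem, (one_pow e).symm⟩
    · obtain ⟨a, ha, hae⟩ := hex
      exact ⟨a, ha, hae.symm⟩

/-- transport of a configuration along a bijective endomorphism -/
theorem Cfg.map {L₁ L₂ : Subgroup G} {j : G} (cfg : Cfg L₁ L₂ j) (f : G →* G)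
    (hf : Function.Bijective f) : Cfg (L₁.map f) (L₂.map f) (f j) where
  comm := by
    rintro _ ⟨a, ha, rfl⟩ _ ⟨b, hb, rfl⟩
    rw [← map_mul, ← map_mul, cfg.comm a ha b hb]
  jj := by rw [← map_mul, cfg.jj, map_one]
  j1 := by
    intro h
    apply cfg.j1
    apply hf.1
    rw [h, map_one]
  jL1 := Subgroup.mem_map_of_mem f cfg.jL1
  jL2 := Subgroup.mem_map_of_mem f cfg.jL2
  inter := by
    rintro _ ⟨a, ha, rfl⟩ ⟨b, hb, hab⟩
    have : b = a := hf.1 hab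
    subst this
    rcases cfg.inter b ha hb with h | h
    · left
      rw [h, map_one]
    · right
      rw [h]
  U1 := by
    rintro _ ⟨a, ha, rfl⟩ hzz
    have : a * a = 1 := by
      apply hf.1
      rw [map_mul, hzz, map_one]
    rcases cfg.U1 a ha this with h | h
    · left
      rw [h, map_one]
    · right
      rw [h]
  U2 := by
    rintro _ ⟨a, ha, rfl⟩ hzz
    have : a * a = 1 := by
      apply hf.1
      rw [map_mul, hzz, map_one]
    rcases cfg.U2 a ha this with h | h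
    · left
      rw [h, map_one]
    · right
      rw [h]
  I1 := by
    rintro _ ⟨a, ha, rfl⟩ hxx
    have haa : a * a = j := by
      apply hf.1
      rw [map_mul, hxx]
    obtain ⟨y, hy, hyy, hyinv⟩ := cfg.I1 a ha haa
    refine ⟨f y, Subgroup.mem_map_of_mem f hy, by rw [← map_mul, hyy], ?_⟩
    rintro _ ⟨b, hb, rfl⟩ hbx
    have hba : b * a = a * b := by
      apply hf.1
      rw [map_mul, map_mul, hbx]
    rw [← map_inv, ← map_mul, ← map_mul, hyinv b hb hba, map_inv]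
  I2 := by
    rintro _ ⟨a, ha, rfl⟩ hxx
    have haa : a * a = j := by
      apply hf.1
      rw [map_mul, hxx]
    obtain ⟨y, hy, hyy, hyinv⟩ := cfg.I2 a ha haa
    refine ⟨f y, Subgroup.mem_map_of_mem f hy, by rw [← map_mul, hyy], ?_⟩
    rintro _ ⟨b, hb, rfl⟩ hbx
    have hba : b * a = a * b := by
      apply hf.1
      rw [map_mul, map_mul, hbx]
    rw [← map_inv, ← map_mul, ← map_mul, hyinv b hb hba, map_inv]
  invX := by
    intro d hdj hdd
    obtain ⟨d0, rfl⟩ := hf.2 d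
    have h1 : d0 * j = j * d0 := by
      apply hf.1
      rw [map_mul, map_mul, hdj]
    have h2 : d0 * d0 = 1 := by
      apply hf.1
      rw [map_mul, hdd, map_one]
    obtain ⟨l1, hl1, l2, hl2, h⟩ := cfg.invX d0 h1 h2
    exact ⟨f l1, Subgroup.mem_map_of_mem f hl1, f l2, Subgroup.mem_map_of_mem f hl2,
      by rw [h, map_mul]⟩

/-- the central involution of a configuration is isolated. -/
theorem isolated [Finite G] {L₁ L₂ : Subgroup G} {j : G} (cfg : Cfg L₁ L₂ j) (g : G)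
    (hcomm : Commute j (g * j * g⁻¹)) : g * j * g⁻¹ = j := by
  by_contra hne
  have cfg' := cfg.map (MulAut.conj g).toMonoidHom (MulAut.conj g).bijective
  have hfj : (MulAut.conj g).toMonoidHom j = g * j * g⁻¹ := rfl
  rw [hfj] at cfg'
  obtain ⟨u, hu⟩ : ∃ u, u = g * j * g⁻¹ := ⟨_, rfl⟩
  rw [← hu] at cfg' hcomm hne
  have h1 := phi_eq cfg u hcomm.eq.symm cfg'.jj cfg'.j1 hne
  have h2 := phi_eq cfg' j hcomm.eq cfg.jj cfg.j1 (fun h => hne h.symm)
  rw [inf_comm, h1] at h2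
  have : u ∈ ({1, j} : Set G) := by
    rw [h2]
    simp
  rcases this with h | h
  · exact cfg'.j1 h
  · exact hne h

end Cfsg.Agent.Helper49.TwoSL2
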