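import Mathlib
import Cfsg.Agent.Lib.Helper49.SL2Torus
import Cfsg.Agent.Lib.Helper49.TwoSL2

set_option autoImplicit false

namespace Cfsg.Agent.Helper49.TwoSL2

open Matrix

variable {G : Type*} [Group G]

section pull

variable {F : Type*} [Field F] (h2 : (2 : F) ≠ 0) {L : Subgroup G}
  (e : ↥L ≃* SpecialLinearGroup (Fin 2) F) {j : G} (hjL : j ∈ L) (jj : j * j = 1) (j1 : j ≠ 1)

include h2 e hjL jj j1 in
lemma sl2_neg_one : (e ⟨j, hjL⟩).1 = -1 := by
  have h : e ⟨j, hjL⟩ * e ⟨j, hjL⟩ = 1 := by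
    rw [← map_mul]
    have : (⟨j, hjL⟩ : ↥L) * ⟨j, hjL⟩ = 1 := Subtype.ext jj
    rw [this, map_one]
  rcases SL2Torus.eq_one_or_neg_one h2 _ h with h1 | h1
  · exfalso
    apply j1
    have := e.injective (h1.trans (map_one e).symm)
    exact congrArg Subtype.val this
  · exact h1

include h2 e hjL jj j1 in
lemma sl2_U : ∀ z ∈ L, z * z = 1 → z = 1 ∨ z = j := by
  intro z hz hzz
  have h : e ⟨z, hz⟩ * e ⟨z, hz⟩ = 1 := by
    rw [← map_mul]
    have : (⟨z, hz⟩ : ↥L) * ⟨z, hz⟩ = 1 := Subtype.ext hzz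
    rw [this, map_one]
  rcases SL2Torus.eq_one_or_neg_one h2 _ h with h1 | h1
  · left
    have := e.injective (h1.trans (map_one e).symm)
    exact congrArg Subtype.val this
  · right
    have : e ⟨z, hz⟩ = e ⟨j, hjL⟩ := Subtype.ext (h1.trans (sl2_neg_one h2 e hjL jj j1).symm)
    exact congrArg Subtype.val (e.injective this)

include h2 e hjL jj j1 in
lemma sl2_I [Fintype F] (hF : Fintype.card F % 2 = 1) : ∀ x ∈ L, x * x = j →
    ∃ y ∈ L, y * y = j ∧ ∀ t ∈ L, t * x = x * t → y * t * y⁻¹ = t⁻¹ := by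
  intro x hx hxx
  have hneg := sl2_neg_one h2 e hjL jj j1
  have hex : (e ⟨x, hx⟩).1 * (e ⟨x, hx⟩).1 = -1 := by
    have : e ⟨x, hx⟩ * e ⟨x, hx⟩ = e ⟨j, hjL⟩ := by
      rw [← map_mul]
      congr 1
      exact Subtype.ext hxx
    have h := congrArg Subtype.val this
    rw [hneg] at h
    exact h
  obtain ⟨y', hy'sq, hy'inv⟩ := SL2Torus.exists_inverting hF h2 _ hex
  refine ⟨(e.symm y').1, (e.symm y').2, ?_, ?_⟩
  · have : e.symm y' * e.symm y' = ⟨j, hjL⟩ := by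
      apply e.injective
      rw [map_mul, e.apply_symm_apply]
      exact Subtype.ext (hy'sq.trans hneg.symm)
    exact congrArg Subtype.val this
  · intro t ht htx
    have hcomm : e ⟨t, ht⟩ * e ⟨x, hx⟩ = e ⟨x, hx⟩ * e ⟨t, ht⟩ := by
      rw [← map_mul, ← map_mul]
      congr 1
      exact Subtype.ext htx
    have h3 : e.symm y' * ⟨t, ht⟩ * (e.symm y')⁻¹ = (⟨t, ht⟩ : ↥L)⁻¹ := by
      apply e.injective
      rw [map_mul, map_mul, map_inv, map_inv, e.apply_symm_apply]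
      exact hy'inv _ hcomm
    exact congrArg Subtype.val h3

include h2 e hjL jj j1 in
/-- `L ≅ SL₂(F)` contains an element which is neither `1` nor `j`. -/
lemma sl2_exists_other : ∃ v ∈ L, v ≠ 1 ∧ v ≠ j := by
  obtain ⟨v', hv'⟩ : ∃ v' : SpecialLinearGroup (Fin 2) F, v'.1 = !![1, 1; 0, 1] :=
    ⟨⟨!![1, 1; 0, 1], by simp [Matrix.det_fin_two_of]⟩, rfl⟩
  refine ⟨(e.symm v').1, (e.symm v').2, ?_, ?_⟩
  · intro h
    have h1 : e.symm v' = 1 := Subtype.ext h
    have h3 : v' = 1 := by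
      have := congrArg e h1
      rwa [e.apply_symm_apply, map_one] at this
    have h4 := congrFun (congrFun (congrArg Subtype.val h3) 0) 1
    rw [hv'] at h4
    simp at h4
  · intro h
    have h1 : e.symm v' = ⟨j, hjL⟩ := Subtype.ext h
    have h3 : v' = e ⟨j, hjL⟩ := by
      have := congrArg e h1
      rwa [e.apply_symm_apply] at this
    have h4 := congrFun (congrFun (congrArg Subtype.val h3) 0) 1
    rw [hv', sl2_neg_one h2 e hjL jj j1] at h4
    simp at h4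

end pull

section invX

variable {L₁ L₂ : Subgroup G} {j n : G}
  (hc : ∀ x ∈ L₁, ∀ y ∈ L₂, x * y = y * x) (jj : j * j = 1) (j1 : j ≠ 1)
  (jL1 : j ∈ L₁) (jL2 : j ∈ L₂)
  (inter : ∀ z, z ∈ L₁ → z ∈ L₂ → z = 1 ∨ z = j)
  (hi : (L₁ ⊔ L₂).relIndex (Subgroup.centralizer ({j} : Set G)) = 2)
  (hn : n ∈ Subgroup.centralizer ({j} : Set G)) (hnn : n * n = j)
  (hswap : L₁.map (MulAut.conj n).toMonoidHom = L₂)
  (hother : ∃ v ∈ L₂, v ≠ 1 ∧ v ≠ j)

include hc jj j1 jL1 jL2 inter hi hn hnn hswap hother in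
/-- every involution of `C(j)` lies in `L₁L₂`. -/
lemma invX_of_swap : ∀ d : G, d * j = j * d → d * d = 1 →
    ∃ l₁ ∈ L₁, ∃ l₂ ∈ L₂, d = l₁ * l₂ := by
  intro d hdj hdd
  have cj1 : ∀ a ∈ L₁, a * j = j * a := fun a ha => hc a ha j jL2
  have cj2 : ∀ b ∈ L₂, b * j = j * b := fun b hb => (hc j jL1 b hb).symm
  have hX : prodSub L₁ L₂ hc = L₁ ⊔ L₂ := prodSub_eq_sup hc
  have hν1 : ∀ a ∈ L₁, n * a * n⁻¹ ∈ L₂ := by
    intro a ha
    rw [← hswap]
    exact ⟨a, ha, rfl⟩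
  have hnj : n * j = j * n := Subgroup.mem_centralizer_singleton_iff.mp hn
  have hν2 : ∀ b ∈ L₂, n * b * n⁻¹ ∈ L₁ := by
    intro b hb
    rw [← hswap] at hb
    obtain ⟨a, ha, rfl⟩ := hb
    have : n * ((MulAut.conj n).toMonoidHom a) * n⁻¹ = a := by
      show n * (n * a * n⁻¹) * n⁻¹ = a
      calc n * (n * a * n⁻¹) * n⁻¹ = (n * n) * a * (n * n)⁻¹ := by group
        _ = a := by
          rw [hnn, ← cj1 a ha]
          group
    rw [this]
    exact ha
  have hnX : n ∉ L₁ ⊔ L₂ := by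
    intro hmem
    rw [← hX] at hmem
    obtain ⟨l1, hl1, l2, hl2, hnl⟩ := hmem
    have hL21 : ∀ b ∈ L₂, b ∈ L₁ := by
      intro b hb
      rw [← hswap] at hb
      obtain ⟨a, ha, rfl⟩ := hb
      show n * a * n⁻¹ ∈ L₁
      have : n * a * n⁻¹ = l1 * a * l1⁻¹ := by
        rw [hnl, mulinv hc hl1 hl2]
        calc l1 * l2 * a * (l1⁻¹ * l2⁻¹) = l1 * (l2 * a) * l1⁻¹ * l2⁻¹ := by group
          _ = l1 * (a * l2) * l1⁻¹ * l2⁻¹ := by rw [hc a ha l2 hl2]
          _ = (l1 * a) * (l2 * l1⁻¹) * l2⁻¹ := by group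
          _ = (l1 * a) * (l1⁻¹ * l2) * l2⁻¹ := by rw [hc l1⁻¹ (L₁.inv_mem hl1) l2 hl2]
          _ = l1 * a * l1⁻¹ := by group
      rw [this]
      exact L₁.mul_mem (L₁.mul_mem hl1 ha) (L₁.inv_mem hl1)
    obtain ⟨v, hv, hv1, hvj⟩ := hother
    rcases inter v (hL21 v hv) hv with h | h
    · exact hv1 h
    · exact hvj h
  by_cases hdX : d ∈ L₁ ⊔ L₂
  · rw [← hX] at hdX
    exact hdX
  · exfalso
    have hdC : d ∈ Subgroup.centralizer ({j} : Set G) :=
      Subgroup.mem_centralizer_singleton_iff.mpr hdj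
    have hidx : ((L₁ ⊔ L₂).subgroupOf (Subgroup.centralizer ({j} : Set G))).index = 2 := hi
    have hmem : (⟨d, hdC⟩ : ↥(Subgroup.centralizer ({j} : Set G))) * ⟨n, hn⟩⁻¹ ∈
        (L₁ ⊔ L₂).subgroupOf (Subgroup.centralizer ({j} : Set G)) := by
      rw [Subgroup.mul_mem_iff_of_index_two hidx]
      constructor
      · intro h
        exact absurd (Subgroup.mem_subgroupOf.mp h) hdX
      · intro h
        rw [Subgroup.inv_mem_iff] at h
        exact absurd (Subgroup.mem_subgroupOf.mp h) hnX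
    have hxX : d * n⁻¹ ∈ L₁ ⊔ L₂ := Subgroup.mem_subgroupOf.mp hmem
    rw [← hX] at hxX
    obtain ⟨x1, hx1, x2, hx2, hx⟩ := hxX
    have hd : d = x1 * x2 * n := by
      rw [← hx]
      group
    obtain ⟨a, ha⟩ : ∃ a, a = x1 * (n * x2 * n⁻¹) := ⟨_, rfl⟩
    obtain ⟨b, hb⟩ : ∃ b, b = x2 * (n * x1 * n⁻¹) := ⟨_, rfl⟩
    have haL : a ∈ L₁ := by
      rw [ha]
      exact L₁.mul_mem hx1 (hν2 x2 hx2)
    have hbL : b ∈ L₂ := by
      rw [hb]
      exact L₂.mul_mem hx2 (hν1 x1 hx1)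
    have hdd' : a * b * j = 1 := by
      rw [← hdd, hd, ha, hb]
      have e1 : x1 * (n * x2 * n⁻¹) * (x2 * (n * x1 * n⁻¹)) =
          x1 * (x2 * (n * x1 * n⁻¹)) * (n * x2 * n⁻¹) := by
        rw [mul_assoc x1, mul_assoc x1, hc (n * x2 * n⁻¹) (hν2 x2 hx2) (x2 * (n * x1 * n⁻¹))
          (by rw [← hb]; exact hbL)]
      rw [e1, ← hnn]
      group
    have haL2 : a ∈ L₂ := by
      have : a = (b * j)⁻¹ := eq_inv_of_mul_eq_one_left (by rw [← mul_assoc]; exact hdd')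
      rw [this]
      exact L₂.inv_mem (L₂.mul_mem hbL jL2)
    have hνa : n * a * n⁻¹ = x2⁻¹ * b * x2 := by
      rw [ha, hb]
      have e2 : n * n * x2 * n⁻¹ * n⁻¹ = x2 := by
        calc n * n * x2 * n⁻¹ * n⁻¹ = (n * n) * x2 * (n * n)⁻¹ := by group
          _ = x2 := by
            rw [hnn, ← cj2 x2 hx2]
            group
      calc n * (x1 * (n * x2 * n⁻¹)) * n⁻¹
          = (n * x1 * n⁻¹) * (n * n * x2 * n⁻¹ * n⁻¹) := by group
        _ = (n * x1 * n⁻¹) * x2 := by rw [e2]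
        _ = x2⁻¹ * (x2 * (n * x1 * n⁻¹)) * x2 := by group
    have hνa' : n * a * n⁻¹ = a := by
      rcases inter a haL haL2 with h | h
      · rw [h]
        group
      · rw [h, hnj]
        group
    have hacomm : a * x2 = x2 * a := by
      rcases inter a haL haL2 with h | h
      · rw [h, one_mul, mul_one]
      · rw [h]
        exact (cj2 x2 hx2).symm
    have hba : b = a := by
      have : x2⁻¹ * b * x2 = a := by rw [← hνa, hνa']
      calc b = x2 * (x2⁻¹ * b * x2) * x2⁻¹ := by group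
        _ = x2 * a * x2⁻¹ := by rw [this]
        _ = a := by
          rw [← hacomm]
          group
    have haa : a * a = 1 := by
      rcases inter a haL haL2 with h | h
      · rw [h, one_mul]
      · rw [h]
        exact jj
    apply j1
    rw [hba, haa, one_mul] at hdd'
    exact hdd'

end invX

/-- From the conclusion of the `Z*`-theorem to `G = C(j) O(G)`. -/
theorem sup_eq_top_of_zstar [Finite G] (K : Subgroup G) [K.Normal] (hodd : Odd (Nat.card K))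
    (j : G) (jj : j * j = 1) (h : ∀ g : G, j * g * j⁻¹ * g⁻¹ ∈ K) :
    Subgroup.centralizer ({j} : Set G) ⊔ K = ⊤ := by
  rw [eq_top_iff]
  intro g _
  have hjinv : j⁻¹ = j := inv_eq_of_mul_eq_one_right jj
  obtain ⟨t, ht⟩ : ∃ t, t = g * j * g⁻¹ := ⟨_, rfl⟩
  have htt : t * t = 1 := by
    rw [ht]
    calc g * j * g⁻¹ * (g * j * g⁻¹) = g * (j * j) * g⁻¹ := by group
      _ = 1 := by
        rw [jj]
        group
  have htinv : t⁻¹ = t := inv_eq_of_mul_eq_one_right htt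
  obtain ⟨r, hr⟩ : ∃ r, r = j * t := ⟨_, rfl⟩
  have hrK : r ∈ K := by
    have := h g
    rw [hjinv] at this
    rw [hr, ht]
    convert this using 1
    group
  have hrconj : j * r * j⁻¹ = r⁻¹ := by
    rw [hr, _root_.mul_inv_rev, htinv, hjinv]
    calc j * (j * t) * j = (j * j) * t * j := by group
      _ = t * j := by rw [jj, one_mul]
  have hmo : Odd (orderOf r) := hodd.of_dvd_nat (Subgroup.orderOf_dvd_natCard K hrK)
  obtain ⟨s, hs⟩ := hmo
  obtain ⟨k, hk⟩ : ∃ k, k = r ^ s := ⟨_, rfl⟩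
  have hkK : k ∈ K := by
    rw [hk]
    exact K.pow_mem hrK s
  have hjk : j * k * j⁻¹ = k⁻¹ := by rw [hk, ← conj_pow, hrconj, inv_pow]
  have hkk : k * k * r = 1 := by
    rw [hk, ← pow_add, ← pow_succ, ← two_mul, ← hs]
    exact pow_orderOf_eq_one r
  have hkt : k * j * k⁻¹ = t := by
    have h1 : j * k⁻¹ * j⁻¹ = k := by
      have : j * k⁻¹ * j⁻¹ = (j * k * j⁻¹)⁻¹ := by group
      rw [this, hjk, inv_inv]
    have h2 : k * k = r⁻¹ := eq_inv_of_mul_eq_one_left hkk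
    calc k * j * k⁻¹ = k * (j * k⁻¹ * j⁻¹) * j := by group
      _ = k * k * j := by rw [h1]
      _ = r⁻¹ * j := by rw [h2]
      _ = t := by rw [hr, _root_.mul_inv_rev, htinv, hjinv, mul_assoc, jj, mul_one]
  have hcen : k⁻¹ * g ∈ Subgroup.centralizer ({j} : Set G) := by
    rw [Subgroup.mem_centralizer_singleton_iff]
    have : k * j * k⁻¹ = g * j * g⁻¹ := by rw [hkt, ht]
    calc k⁻¹ * g * j = k⁻¹ * (g * j * g⁻¹) * g := by group
      _ = k⁻¹ * (k * j * k⁻¹) * g := by rw [this]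
      _ = j * (k⁻¹ * g) := by group
  have : g = k * (k⁻¹ * g) := by group
  rw [this]
  exact Subgroup.mul_mem _ (Subgroup.mem_sup_right hkK) (Subgroup.mem_sup_left hcen)

end Cfsg.Agent.Helper49.TwoSL2
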