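import Mathlib
import Cfsg.Prelude.Def_IsolatedElements
import Cfsg.Agent.Lib.Helper49.Isolated
import Cfsg.Agent.Lib.Helper20.ZStarCor
import Cfsg.Agent.Lib.Helper94.ZStarRed
import Cfsg.Agent.Lib.Helper55.Cores
import Cfsg.Agent.S2970

/-!
# The Z*-theorem for isolated 2-elements (conditional on the involution form)

`inZStar_of_isolated`: given the Z*-theorem for involutions (`Helper20.ZStarHyp`), every isolated
element of 2-power order of a finite group is central modulo the odd core.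
-/

set_option autoImplicit false

universe u

namespace Cfsg.Agent.Helper49.ZSTwo

open Cfsg Subgroup Cfsg.Agent.Helper49

/-- Two `p`-elements of a subgroup `C` can be brought into a common `p`-subgroup by
conjugating the second one inside `C`. -/
theorem exists_conj_common_pgroup {G : Type*} [Group G] [Finite G] {p : ℕ} [Fact p.Prime]
    (C : Subgroup G) (x w : G) (hxC : x ∈ C) (hwC : w ∈ C)
    (hxp : ∃ k : ℕ, orderOf x = p ^ k) (hwp : ∃ k : ℕ, orderOf w = p ^ k) :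
    ∃ c ∈ C, ∃ R : Subgroup G, IsPGroup p R ∧ x ∈ R ∧ c * w * c⁻¹ ∈ R := by
  let a : C := ⟨x, hxC⟩
  let b : C := ⟨w, hwC⟩
  have ha : IsPGroup p (Subgroup.zpowers a) := by
    apply isPGroup_zpowers_of_orderOf
    obtain ⟨k, hk⟩ := hxp
    exact ⟨k, by rw [← hk]; exact (Subgroup.orderOf_mk x hxC)⟩
  have hb : IsPGroup p (Subgroup.zpowers b) := by
    apply isPGroup_zpowers_of_orderOf
    obtain ⟨k, hk⟩ := hwp
    exact ⟨k, by rw [← hk]; exact (Subgroup.orderOf_mk w hwC)⟩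
  obtain ⟨Pa, hPa⟩ := ha.exists_le_sylow
  obtain ⟨Pb, hPb⟩ := hb.exists_le_sylow
  obtain ⟨c, hc⟩ := MulAction.exists_smul_eq C Pb Pa
  refine ⟨c, c.2, (Pa : Subgroup C).map C.subtype, Pa.2.map C.subtype, ?_, ?_⟩
  · exact ⟨a, hPa (Subgroup.mem_zpowers a), rfl⟩
  · have hbPb : b ∈ (Pb : Subgroup C) := hPb (Subgroup.mem_zpowers b)
    have hcb : c * b * c⁻¹ ∈ (Pa : Subgroup C) := by
      rw [← hc, Sylow.coe_subgroup_smul]
      have := Subgroup.smul_mem_pointwise_smul b (MulAut.conj c) (Pb : Subgroup C) hbPb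
      simpa [MulAut.smul_def, MulAut.conj_apply] using this
    refine ⟨c * b * c⁻¹, hcb, ?_⟩
    simp [b]

theorem orderOf_conj_pow' {G : Type*} [Group G] {p : ℕ} (x g : G) (m : ℕ)
    (hxp : ∃ k : ℕ, orderOf x = p ^ k) (hp : p.Prime) :
    ∃ k : ℕ, orderOf (g * x ^ m * g⁻¹) = p ^ k := by
  obtain ⟨k, hk⟩ := hxp
  have h1 : g * x ^ m * g⁻¹ = MulAut.conj g (x ^ m) := by simp [MulAut.conj_apply]
  have h2 : orderOf (g * x ^ m * g⁻¹) ∣ p ^ k := by
    rw [h1, MulEquiv.orderOf_eq, ← hk]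
    exact orderOf_pow_dvd m
  obtain ⟨j, -, hj⟩ := (Nat.dvd_prime_pow hp).mp h2
  exact ⟨j, hj⟩

/-- Powers of an isolated `p`-element are isolated. -/
theorem isolated_pow {G : Type*} [Group G] [Finite G] {p : ℕ} [Fact p.Prime] {x : G}
    (hiso : Cfsg.IsIsolated x) (hxp : ∃ k : ℕ, orderOf x = p ^ k) (m : ℕ) :
    Cfsg.IsIsolated (x ^ m) := by
  have hp : p.Prime := Fact.out
  intro g hcomm
  obtain ⟨y, hy⟩ : ∃ y : G, y = x ^ m := ⟨_, rfl⟩
  rw [← hy] at hcomm ⊢
  -- work in the centralizer of `y`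
  have hxC : x ∈ Subgroup.centralizer ({y} : Set G) := by
    rw [Subgroup.mem_centralizer_iff]
    intro h hh
    rw [Set.mem_singleton_iff] at hh
    subst hh
    rw [hy]
    exact (Commute.pow_self x m)
  have hy'C : g * y * g⁻¹ ∈ Subgroup.centralizer ({y} : Set G) := by
    rw [Subgroup.mem_centralizer_iff]
    intro h hh
    rw [Set.mem_singleton_iff] at hh
    subst hh
    exact hcomm
  have hy'p : ∃ k : ℕ, orderOf (g * y * g⁻¹) = p ^ k := by
    rw [hy]; exact orderOf_conj_pow' x g m hxp hp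
  obtain ⟨c, hcC, R, hR, hxR, hcR⟩ :=
    exists_conj_common_pgroup (Subgroup.centralizer ({y} : Set G)) x (g * y * g⁻¹) hxC hy'C hxp hy'p
  -- `y'' = c y' c⁻¹` commutes with `x`
  have hcomm2 : Commute x (c * (g * y * g⁻¹) * c⁻¹) :=
    isolated_commute_of_mem_pgroup hiso R hR hxR _ hcR
  have hy'' : c * (g * y * g⁻¹) * c⁻¹ = ((c * g) * x * (c * g)⁻¹) ^ m := by
    rw [conj_pow, ← hy]; group
  -- work in the centralizer of `y''`
  have hxC2 : x ∈ Subgroup.centralizer ({c * (g * y * g⁻¹) * c⁻¹} : Set G) := by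
    rw [Subgroup.mem_centralizer_iff]
    intro h hh
    rw [Set.mem_singleton_iff] at hh
    subst hh
    exact hcomm2.symm
  have hx''C2 : (c * g) * x * (c * g)⁻¹ ∈
      Subgroup.centralizer ({c * (g * y * g⁻¹) * c⁻¹} : Set G) := by
    rw [Subgroup.mem_centralizer_iff]
    intro h hh
    rw [Set.mem_singleton_iff] at hh
    subst hh
    rw [hy'']
    exact (Commute.pow_self _ m)
  obtain ⟨d, hdC2, hd⟩ := isolated_fusion hiso hxp _ hxC2 (c * g) hx''C2
  -- take `m`-th powers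
  have h1 : (d * (c * g)) * y * (d * (c * g))⁻¹ = y := by
    rw [hy, ← conj_pow, hd]
  have h2 : (d * (c * g)) * y * (d * (c * g))⁻¹ = c * (g * y * g⁻¹) * c⁻¹ := by
    rw [Subgroup.mem_centralizer_iff] at hdC2
    have h3 := hdC2 _ (Set.mem_singleton _)
    -- h3 : y'' * d = d * y''
    calc (d * (c * g)) * y * (d * (c * g))⁻¹ = d * (c * (g * y * g⁻¹) * c⁻¹) * d⁻¹ := by group
      _ = (c * (g * y * g⁻¹) * c⁻¹) * d * d⁻¹ := by rw [h3]
      _ = c * (g * y * g⁻¹) * c⁻¹ := by group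
  have h4 : c * (g * y * g⁻¹) * c⁻¹ = y := h2.symm.trans h1
  rw [Subgroup.mem_centralizer_iff] at hcC
  have h5 := hcC y (Set.mem_singleton _)
  -- h5 : y * c = c * y
  calc g * y * g⁻¹ = c⁻¹ * (c * (g * y * g⁻¹) * c⁻¹) * c := by group
    _ = c⁻¹ * y * c := by rw [h4]
    _ = c⁻¹ * (y * c) := by group
    _ = c⁻¹ * (c * y) := by rw [h5]
    _ = y := by group

/-- The quotient of a group with trivial odd core by a central subgroup of order `2` has trivial
odd core. -/
theorem oddCore_quotient_eq_bot {G : Type u} [Group G] [Finite G] (hO : Cfsg.oddCore G = ⊥)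
    (N : Subgroup G) [hNn : N.Normal] (hNcard : Nat.card N = 2) :
    Cfsg.oddCore (G ⧸ N) = ⊥ := by
  haveI : Fact (Nat.Prime 2) := ⟨Nat.prime_two⟩
  obtain ⟨M, hMdef⟩ : ∃ M : Subgroup G, M = (Cfsg.oddCore (G ⧸ N)).comap (QuotientGroup.mk' N) :=
    ⟨_, rfl⟩
  haveI hMn : M.Normal := by rw [hMdef]; infer_instance
  have hNM : N ≤ M := by
    intro n hn
    rw [hMdef, Subgroup.mem_comap]
    have : (QuotientGroup.mk' N) n = 1 := (QuotientGroup.eq_one_iff n).mpr hn
    rw [this]; exact one_mem _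
  have hrel : N.relIndex M = Nat.card (Cfsg.oddCore (G ⧸ N)) := by
    have h1 : N = (⊥ : Subgroup (G ⧸ N)).comap (QuotientGroup.mk' N) := by
      rw [MonoidHom.comap_bot, QuotientGroup.ker_mk']
    have h2 : M.map (QuotientGroup.mk' N) = Cfsg.oddCore (G ⧸ N) := by
      rw [hMdef]
      exact Subgroup.map_comap_eq_self_of_surjective (QuotientGroup.mk'_surjective N) _
    conv_lhs => rw [h1]
    rw [Subgroup.relIndex_comap, h2, Subgroup.relIndex_bot_left]
  have hOodd : Odd (Nat.card (Cfsg.oddCore (G ⧸ N))) := Cfsg.Agent.Helper94.ZStar.odd_card_oddCore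
  have hMO : Cfsg.oddCore M = ⊥ := Cfsg.Agent.S2972.pPrimeCore_eq_bot_of_normal hO M
  have hcyc : IsCyclic (N.subgroupOf M) := by
    have e : N.subgroupOf M ≃* N := Subgroup.subgroupOfEquivOfLe hNM
    haveI : Fact (Nat.Prime (Nat.card N)) := ⟨by rw [hNcard]; exact Nat.prime_two⟩
    haveI : IsCyclic N := isCyclic_of_prime_card rfl
    exact isCyclic_of_surjective e.symm.toMonoidHom e.symm.surjective
  have hp2 : IsPGroup 2 (N.subgroupOf M) := by
    have e : N.subgroupOf M ≃* N := Subgroup.subgroupOfEquivOfLe hNM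
    have : IsPGroup 2 N := IsPGroup.of_card (n := 1) (by rw [hNcard]; norm_num)
    exact IsPGroup.of_equiv this e.symm
  have hodd : ¬ 2 ∣ (N.subgroupOf M).index := by
    change ¬ 2 ∣ N.relIndex M
    rw [hrel]
    exact fun h => (Nat.not_even_iff_odd.mpr hOodd) (even_iff_two_dvd.mpr h)
  have hcomp : Cfsg.HasNormalPComplement 2 M :=
    Cfsg.Agent.Helper53.hasNormalPComplement_of_cyclic _ hcyc hp2 hodd
  have hMp : IsPGroup 2 M := Cfsg.Agent.Helper94.ZStar.isPGroup_of_hasNormalPComplement hMO hcomp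
  have h2 : M.map (QuotientGroup.mk' N) = Cfsg.oddCore (G ⧸ N) := by
    rw [hMdef]
    exact Subgroup.map_comap_eq_self_of_surjective (QuotientGroup.mk'_surjective N) _
  have h3 : IsPGroup 2 (M.map (QuotientGroup.mk' N)) := hMp.map _
  rw [h2] at h3
  rcases h3.card_eq_or_dvd with h4 | h4
  · exact Subgroup.card_eq_one.mp h4
  · exact absurd (even_iff_two_dvd.mpr h4) (Nat.not_even_iff_odd.mpr hOodd)

/-- With trivial odd core, an isolated element of 2-power order is central (given the Z*-theorem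
for involutions). -/
theorem central_of_isolated (h : Cfsg.Agent.Helper20.ZStarHyp.{u}) :
    ∀ (k : ℕ) (G : Type u) [Group G] [Finite G], Cfsg.oddCore G = ⊥ →
      ∀ x : G, x ^ (2 ^ k) = 1 → Cfsg.IsIsolated x → x ∈ Subgroup.center G := by
  intro k
  induction k with
  | zero =>
    intro G _ _ hO x hx _
    rw [pow_zero, pow_one] at hx
    rw [hx]; exact one_mem _
  | succ k ih =>
    intro G _ _ hO x hx hiso
    haveI : Fact (Nat.Prime 2) := ⟨Nat.prime_two⟩
    have hxp : ∃ j : ℕ, orderOf x = 2 ^ j := by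
      have h1 : orderOf x ∣ 2 ^ (k + 1) := orderOf_dvd_of_pow_eq_one hx
      obtain ⟨j, -, hj⟩ := (Nat.dvd_prime_pow Nat.prime_two).mp h1
      exact ⟨j, hj⟩
    obtain ⟨z, hz⟩ : ∃ z : G, z = x ^ (2 ^ k) := ⟨_, rfl⟩
    by_cases hz1 : z = 1
    · exact ih G hO x (hz ▸ hz1) hiso
    have hz2 : z ^ 2 = 1 := by rw [hz, ← pow_mul, ← pow_succ]; exact hx
    have hzord : orderOf z = 2 := orderOf_eq_prime hz2 hz1
    have hziso : Cfsg.IsIsolatedInvolution z := ⟨hzord, by rw [hz]; exact isolated_pow hiso hxp _⟩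
    have hzc : z ∈ Subgroup.center G := by
      rw [Subgroup.mem_center_iff]
      intro g
      have h1 := Cfsg.Agent.Helper20.zstar_of_isolated h z hziso g
      rw [show Cfsg.oddCore G = ⊥ from hO, Subgroup.mem_bot] at h1
      have h2 := congrArg (fun y => y * g * z) h1
      simp only [one_mul, inv_mul_cancel_right] at h2
      exact h2.symm
    obtain ⟨N, hNdef⟩ : ∃ N : Subgroup G, N = Subgroup.zpowers z := ⟨_, rfl⟩
    have hNc : N ≤ Subgroup.center G := by rw [hNdef]; exact Subgroup.zpowers_le.mpr hzc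
    haveI hNn : N.Normal := ⟨fun n hn g => by
      have := (Subgroup.mem_center_iff.mp (hNc hn)) g
      rw [this, mul_inv_cancel_right]; exact hn⟩
    have hNcard : Nat.card N = 2 := by rw [hNdef, Nat.card_zpowers, hzord]
    have hOq : Cfsg.oddCore (G ⧸ N) = ⊥ := oddCore_quotient_eq_bot hO N hNcard
    have hisoq : Cfsg.IsIsolated (QuotientGroup.mk x : G ⧸ N) :=
      (Cfsg.Agent.S2970.result x hxp hiso).1 N
    have hpowq : (QuotientGroup.mk x : G ⧸ N) ^ (2 ^ k) = 1 := by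
      rw [← QuotientGroup.mk_pow, QuotientGroup.eq_one_iff, ← hz, hNdef]
      exact Subgroup.mem_zpowers z
    have hcq := ih (G ⧸ N) hOq _ hpowq hisoq
    rw [Subgroup.mem_center_iff]
    intro g
    have h1 := (Subgroup.mem_center_iff.mp hcq) (QuotientGroup.mk g)
    -- `g x g⁻¹ x⁻¹ ∈ N`
    have h2 : g * x * g⁻¹ * x⁻¹ ∈ N := by
      rw [← QuotientGroup.eq_one_iff]
      have : ((g * x * g⁻¹ * x⁻¹ : G) : G ⧸ N) =
          ((g : G ⧸ N) * (x : G ⧸ N)) * (g : G ⧸ N)⁻¹ * (x : G ⧸ N)⁻¹ := by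
        simp
      rw [this, h1]; group
    obtain ⟨c, hcdef⟩ : ∃ c : G, c = g * x * g⁻¹ * x⁻¹ := ⟨_, rfl⟩
    rw [← hcdef] at h2
    have hcc : ∀ y : G, y * c = c * y := Subgroup.mem_center_iff.mp (hNc h2)
    have h3 : g * x * g⁻¹ = c * x := by rw [hcdef]; group
    have h4 : Commute x (g * x * g⁻¹) := by
      rw [h3]
      show x * (c * x) = c * x * x
      rw [← mul_assoc, hcc x]
    have h5 := hiso g h4
    calc g * x = (g * x * g⁻¹) * g := by group
      _ = x * g := by rw [h5]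

/-- **Z*-theorem for 2-elements**: an isolated element of 2-power order of a finite group is
central modulo the odd core (given the Z*-theorem for involutions). -/
theorem inZStar_of_isolated (h : Cfsg.Agent.Helper20.ZStarHyp.{u}) {G : Type u} [Group G]
    [Finite G] (x : G) (hxp : ∃ k : ℕ, orderOf x = 2 ^ k) (hiso : Cfsg.IsIsolated x) :
    Cfsg.InZStar 2 x := by
  haveI : Fact (Nat.Prime 2) := ⟨Nat.prime_two⟩
  obtain ⟨k, hk⟩ := hxp
  have hOq : Cfsg.oddCore (G ⧸ Cfsg.pPrimeCore 2 G) = ⊥ :=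
    Cfsg.Agent.Helper55.pPrimeCore_quotient_eq_bot 2
  have hisoq : Cfsg.IsIsolated (QuotientGroup.mk x : G ⧸ Cfsg.pPrimeCore 2 G) :=
    (Cfsg.Agent.S2970.result x ⟨k, hk⟩ hiso).1 (Cfsg.pPrimeCore 2 G)
  have hpowq : (QuotientGroup.mk x : G ⧸ Cfsg.pPrimeCore 2 G) ^ (2 ^ k) = 1 := by
    rw [← QuotientGroup.mk_pow, ← hk, pow_orderOf_eq_one]; rfl
  have hcq := central_of_isolated h k (G ⧸ Cfsg.pPrimeCore 2 G) hOq _ hpowq hisoq
  intro g
  have h1 := (Subgroup.mem_center_iff.mp hcq) (QuotientGroup.mk g)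
  rw [← QuotientGroup.eq_one_iff]
  have : ((g * x * g⁻¹ * x⁻¹ : G) : G ⧸ Cfsg.pPrimeCore 2 G) =
      ((g : G ⧸ Cfsg.pPrimeCore 2 G) * (x : G ⧸ Cfsg.pPrimeCore 2 G)) *
        (g : G ⧸ Cfsg.pPrimeCore 2 G)⁻¹ * (x : G ⧸ Cfsg.pPrimeCore 2 G)⁻¹ := by
    simp
  rw [this, h1]; group

end Cfsg.Agent.Helper49.ZSTwo
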