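import Mathlib
import Cfsg.Prelude.Def_FusionSystem
import Cfsg.Agent.Lib.Helper49.ZSTwo

/-!
# The centre of the 2-fusion system of a finite group (conditional on the Z*-theorem)

`center_eq`: given the Z*-theorem for involutions (`Helper20.ZStarHyp`), the centre of the fusion
system of `G` on a Sylow 2-subgroup `S` is `S ∩ Z*(G)`.
-/

set_option autoImplicit false
set_option linter.style.haveILetI false

universe u

namespace Cfsg.Agent.Helper49.ZSFusion

open Cfsg Subgroup Cfsg.Agent.Helper49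

/-- Sylow's theorem inside a subgroup `M` containing the Sylow subgroup `S`. -/
theorem exists_conj_mem_sylow {G : Type*} [Group G] [Finite G] {p : ℕ} [Fact p.Prime]
    (S : Sylow p G) (M : Subgroup G) (hSM : (S : Subgroup G) ≤ M) (R : Subgroup G) (hRM : R ≤ M)
    (hR : IsPGroup p R) : ∃ m ∈ M, ∀ r ∈ R, m * r * m⁻¹ ∈ (S : Subgroup G) := by
  have hR' : IsPGroup p (R.subgroupOf M) := hR.comap_subtype
  obtain ⟨P', hP'⟩ := hR'.exists_le_sylow
  obtain ⟨m, hm⟩ := MulAction.exists_smul_eq M P' (S.subtype hSM)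
  refine ⟨m, m.2, fun r hr => ?_⟩
  have h1 : (⟨r, hRM hr⟩ : M) ∈ (P' : Subgroup M) :=
    hP' (by rw [Subgroup.mem_subgroupOf]; exact hr)
  have h2 : m * ⟨r, hRM hr⟩ * m⁻¹ ∈ ((S.subtype hSM : Sylow p M) : Subgroup M) := by
    rw [← hm, Sylow.coe_subgroup_smul]
    have := Subgroup.smul_mem_pointwise_smul _ (MulAut.conj m) (P' : Subgroup M) h1
    simpa [MulAut.smul_def, MulAut.conj_apply] using this
  rw [Sylow.coe_subtype, Subgroup.mem_subgroupOf] at h2
  simpa using h2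

/-- The quotient map modulo the odd core is injective on a Sylow 2-subgroup. -/
theorem eq_of_mk_eq {G : Type*} [Group G] [Finite G] (S : Sylow 2 G) {a b : G}
    (ha : a ∈ (S : Subgroup G)) (hb : b ∈ (S : Subgroup G))
    (h : (QuotientGroup.mk a : G ⧸ Cfsg.oddCore G) = QuotientGroup.mk b) : a = b := by
  haveI : Fact (Nat.Prime 2) := ⟨Nat.prime_two⟩
  have h1 : a⁻¹ * b ∈ Cfsg.oddCore G := QuotientGroup.eq.mp h
  have h2 : a⁻¹ * b ∈ (S : Subgroup G) := mul_mem (inv_mem ha) hb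
  have hcop : Nat.Coprime (Nat.card (S : Subgroup G)) (Nat.card (Cfsg.oddCore G)) := by
    obtain ⟨n, hn⟩ := IsPGroup.iff_card.mp S.isPGroup'
    rw [hn]
    exact Nat.Coprime.pow_left n (Cfsg.Agent.Helper55.pPrimeCore_coprime 2).symm
  have h3 : (S : Subgroup G) ⊓ Cfsg.oddCore G = ⊥ := disjoint_iff.mp (Subgroup.disjoint_of_coprime_natCard hcop)
  have h4 : a⁻¹ * b ∈ (S : Subgroup G) ⊓ Cfsg.oddCore G := ⟨h2, h1⟩
  rw [h3, Subgroup.mem_bot] at h4
  exact (inv_mul_eq_one.mp h4)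

theorem orderOf_of_mem_sylow {G : Type*} [Group G] {p : ℕ} [Fact p.Prime] (S : Sylow p G) {z : G}
    (hz : z ∈ (S : Subgroup G)) : ∃ k : ℕ, orderOf z = p ^ k := by
  obtain ⟨k, hk⟩ := (IsPGroup.iff_orderOf.mp S.isPGroup') ⟨z, hz⟩
  exact ⟨k, by rw [← hk, Subgroup.orderOf_mk]⟩

/-- An element of a Sylow `p`-subgroup `S` which is the only one of its conjugates in `S` is
isolated. -/
theorem isolated_of_sylow_unique {G : Type*} [Group G] [Finite G] {p : ℕ} [Fact p.Prime]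
    (S : Sylow p G) (z : G) (hzS : z ∈ (S : Subgroup G))
    (huniq : ∀ g : G, g * z * g⁻¹ ∈ (S : Subgroup G) → g * z * g⁻¹ = z) :
    Cfsg.IsIsolated z := by
  intro g hcomm
  have hzp := orderOf_of_mem_sylow S hzS
  have hz'p : ∃ k : ℕ, orderOf (g * z * g⁻¹) = p ^ k := by
    obtain ⟨k, hk⟩ := hzp
    refine ⟨k, ?_⟩
    rw [← hk]
    have : g * z * g⁻¹ = MulAut.conj g z := by simp [MulAut.conj_apply]
    rw [this, MulEquiv.orderOf_eq]
  have hzC : z ∈ Subgroup.centralizer ({z} : Set G) := by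
    rw [Subgroup.mem_centralizer_iff]
    intro h hh
    rw [Set.mem_singleton_iff] at hh
    rw [hh]
  have hz'C : g * z * g⁻¹ ∈ Subgroup.centralizer ({z} : Set G) := by
    rw [Subgroup.mem_centralizer_iff]
    intro h hh
    rw [Set.mem_singleton_iff] at hh
    subst hh
    exact hcomm
  obtain ⟨c, hcC, R, hR, hzR, hcR⟩ :=
    ZSTwo.exists_conj_common_pgroup (Subgroup.centralizer ({z} : Set G)) z (g * z * g⁻¹)
      hzC hz'C hzp hz'p
  obtain ⟨m, -, hm⟩ := exists_conj_mem_sylow S ⊤ le_top R le_top hR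
  have h1 : m * z * m⁻¹ = z := huniq m (hm z hzR)
  have e : (m * c * g) * z * (m * c * g)⁻¹ = m * (c * (g * z * g⁻¹) * c⁻¹) * m⁻¹ := by group
  have h2 : (m * c * g) * z * (m * c * g)⁻¹ = z := by
    apply huniq
    have h := hm _ hcR
    rw [e]; exact h
  have h3 : c * (g * z * g⁻¹) * c⁻¹ = z := by
    have h : m * (c * (g * z * g⁻¹) * c⁻¹) * m⁻¹ = m * z * m⁻¹ := by
      rw [h1, ← e, h2]
    exact mul_left_cancel (mul_right_cancel h)
  rw [Subgroup.mem_centralizer_iff] at hcC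
  have h5 := hcC z (Set.mem_singleton _)
  calc g * z * g⁻¹ = c⁻¹ * (c * (g * z * g⁻¹) * c⁻¹) * c := by group
    _ = c⁻¹ * z * c := by rw [h3]
    _ = c⁻¹ * (z * c) := by group
    _ = c⁻¹ * (c * z) := by rw [h5]
    _ = z := by group

theorem mk_conj_of_central {G : Type*} [Group G] (K : Subgroup G) [K.Normal] {q : G}
    (hq : (QuotientGroup.mk q : G ⧸ K) ∈ Subgroup.center (G ⧸ K)) (g : G) :
    (QuotientGroup.mk (g * q * g⁻¹) : G ⧸ K) = QuotientGroup.mk q := by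
  have h := (Subgroup.mem_center_iff.mp hq) (QuotientGroup.mk g)
  rw [QuotientGroup.mk_mul, QuotientGroup.mk_mul, QuotientGroup.mk_inv, h]
  group

theorem mk_conj_of_mem {G : Type*} [Group G] (K : Subgroup G) [K.Normal] {k : G}
    (hk : k ∈ K) (a : G) :
    (QuotientGroup.mk (k * a * k⁻¹) : G ⧸ K) = QuotientGroup.mk a := by
  have h : (QuotientGroup.mk k : G ⧸ K) = 1 := (QuotientGroup.eq_one_iff k).mpr hk
  rw [QuotientGroup.mk_mul, QuotientGroup.mk_mul, QuotientGroup.mk_inv, h]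
  group

/-- `S ∩ Z*(G)` (and every subgroup of it) is central in the fusion system: unconditional. -/
theorem isCentral_of_le {G : Type*} [Group G] [Finite G] (S : Sylow 2 G) (Q₀ : Subgroup G)
    (hQS : Q₀ ≤ (S : Subgroup G))
    (hQZ : ∀ q ∈ Q₀, (QuotientGroup.mk q : G ⧸ Cfsg.oddCore G) ∈
      Subgroup.center (G ⧸ Cfsg.oddCore G)) :
    (Cfsg.groupFusionSystem (S : Subgroup G)).IsCentral Q₀ := by
  haveI : Fact (Nat.Prime 2) := ⟨Nat.prime_two⟩
  refine ⟨hQS, ?_⟩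
  rintro P φ ⟨hPS, hφS, g, hg⟩
  have hTS : P ⊔ Q₀ ≤ (S : Subgroup G) := sup_le hPS hQS
  have hRp : IsPGroup 2 ((P ⊔ Q₀).map (MulAut.conj g).toMonoidHom) :=
    (S.isPGroup'.to_le hTS).map _
  have hRM : (P ⊔ Q₀).map (MulAut.conj g).toMonoidHom ≤ (S : Subgroup G) ⊔ Cfsg.oddCore G := by
    rw [Subgroup.map_le_iff_le_comap]
    apply sup_le
    · intro x hx
      rw [Subgroup.mem_comap]
      show g * x * g⁻¹ ∈ _
      have h := hφS ⟨x, hx⟩
      rw [hg ⟨x, hx⟩] at h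
      exact (le_sup_left : (S : Subgroup G) ≤ _) h
    · intro q hq
      rw [Subgroup.mem_comap]
      show g * q * g⁻¹ ∈ _
      have h1 : (g * q * g⁻¹) * q⁻¹ ∈ Cfsg.oddCore G := by
        rw [← QuotientGroup.eq_one_iff, QuotientGroup.mk_mul, QuotientGroup.mk_inv,
          mk_conj_of_central _ (hQZ q hq) g]
        group
      have h2 : g * q * g⁻¹ = ((g * q * g⁻¹) * q⁻¹) * q := by group
      rw [h2]
      exact mul_mem ((le_sup_right : Cfsg.oddCore G ≤ _) h1)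
        ((le_sup_left : (S : Subgroup G) ≤ _) (hQS hq))
  obtain ⟨m, hmM, hm⟩ := exists_conj_mem_sylow S _ le_sup_left _ hRM hRp
  obtain ⟨s, hs, k, hk, rfl⟩ := (Subgroup.mem_sup_of_normal_right).mp hmM
  -- conjugation by `k * g` maps `P ⊔ Q₀` into `S`
  have hT : ∀ t ∈ P ⊔ Q₀, (k * g) * t * (k * g)⁻¹ ∈ (S : Subgroup G) := by
    intro t ht
    have h1 : g * t * g⁻¹ ∈ (P ⊔ Q₀).map (MulAut.conj g).toMonoidHom := ⟨t, ht, rfl⟩
    have h2 := hm _ h1
    have h3 : (k * g) * t * (k * g)⁻¹ = s⁻¹ * ((s * k) * (g * t * g⁻¹) * (s * k)⁻¹) * s := by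
      group
    rw [h3]
    exact mul_mem (mul_mem (inv_mem hs) h2) hs
  have hP : ∀ x : P, (k * g) * (x : G) * (k * g)⁻¹ = φ x := by
    intro x
    have h1 : φ x ∈ (S : Subgroup G) := hφS x
    have h2 := hT x (le_sup_left (a := P) (b := Q₀) x.2)
    apply eq_of_mk_eq S h2 h1
    rw [hg x]
    have h3 : (k * g) * (x : G) * (k * g)⁻¹ = k * (g * x * g⁻¹) * k⁻¹ := by group
    rw [h3]
    exact mk_conj_of_mem _ hk _
  have hQ : ∀ q : Q₀, (k * g) * (q : G) * (k * g)⁻¹ = q := by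
    intro q
    have h2 := hT q (le_sup_right (a := P) (b := Q₀) q.2)
    apply eq_of_mk_eq S h2 (hQS q.2)
    exact mk_conj_of_central _ (hQZ q q.2) _
  refine ⟨Cfsg.conjHom (P ⊔ Q₀) (k * g), ⟨hTS, fun t => hT t t.2, k * g, fun _ => rfl⟩,
    fun x => ?_, fun q => ?_⟩
  · exact hP x
  · exact hQ q

/-- Every central subgroup of the fusion system lies in `S ∩ Z*(G)`: uses the Z*-theorem. -/
theorem central_le {G : Type u} [Group G] [Finite G] (h : Cfsg.Agent.Helper20.ZStarHyp.{u})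
    (S : Sylow 2 G) (Q : Subgroup G)
    (hQ : (Cfsg.groupFusionSystem (S : Subgroup G)).IsCentral Q) :
    Q ≤ (S : Subgroup G) ⊓ (Subgroup.center (G ⧸ Cfsg.oddCore G)).comap
      (QuotientGroup.mk' (Cfsg.oddCore G)) := by
  haveI : Fact (Nat.Prime 2) := ⟨Nat.prime_two⟩
  intro z hzQ
  have hzS : z ∈ (S : Subgroup G) := hQ.1 hzQ
  refine ⟨hzS, ?_⟩
  have huniq : ∀ g : G, g * z * g⁻¹ ∈ (S : Subgroup G) → g * z * g⁻¹ = z := by
    intro g hg
    have hPS : Subgroup.zpowers z ≤ (S : Subgroup G) := Subgroup.zpowers_le.mpr hzS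
    have hφ : Cfsg.conjHom (Subgroup.zpowers z) g ∈
        (Cfsg.groupFusionSystem (S : Subgroup G)).Hom (Subgroup.zpowers z) := by
      refine ⟨hPS, fun x => ?_, g, fun x => rfl⟩
      obtain ⟨x, hx⟩ := x
      obtain ⟨i, rfl⟩ := Subgroup.mem_zpowers_iff.mp hx
      show g * z ^ i * g⁻¹ ∈ (S : Subgroup G)
      have h1 : g * z ^ i * g⁻¹ = (g * z * g⁻¹) ^ i := by rw [conj_zpow]
      rw [h1]; exact zpow_mem hg i
    obtain ⟨ψ, -, hψ1, hψ2⟩ := hQ.2 _ _ hφ
    have e1 := hψ1 ⟨z, Subgroup.mem_zpowers z⟩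
    have e2 := hψ2 ⟨z, hzQ⟩
    have e3 : Subgroup.inclusion (le_sup_left : Subgroup.zpowers z ≤ Subgroup.zpowers z ⊔ Q)
        (⟨z, Subgroup.mem_zpowers z⟩ : Subgroup.zpowers z) =
        Subgroup.inclusion (le_sup_right : Q ≤ Subgroup.zpowers z ⊔ Q) ⟨z, hzQ⟩ := rfl
    rw [e3, e2] at e1
    exact e1.symm
  have hiso := isolated_of_sylow_unique S z hzS huniq
  have hZ := ZSTwo.inZStar_of_isolated h z (orderOf_of_mem_sylow S hzS) hiso
  show (QuotientGroup.mk z : G ⧸ Cfsg.oddCore G) ∈ Subgroup.center (G ⧸ Cfsg.oddCore G)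
  rw [Subgroup.mem_center_iff]
  intro gbar
  obtain ⟨g, rfl⟩ := QuotientGroup.mk_surjective gbar
  have h1 := hZ g
  have h2 : ((g * z * g⁻¹ * z⁻¹ : G) : G ⧸ Cfsg.oddCore G) = 1 :=
    (QuotientGroup.eq_one_iff _).mpr h1
  show (g : G ⧸ Cfsg.oddCore G) * (z : G ⧸ Cfsg.oddCore G) =
    (z : G ⧸ Cfsg.oddCore G) * (g : G ⧸ Cfsg.oddCore G)
  have h3 : (g : G ⧸ Cfsg.oddCore G) * (z : G ⧸ Cfsg.oddCore G) *
      (g : G ⧸ Cfsg.oddCore G)⁻¹ * (z : G ⧸ Cfsg.oddCore G)⁻¹ = 1 := by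
    simpa using h2
  exact mul_inv_eq_iff_eq_mul.mp (mul_inv_eq_one.mp h3)

/-- **Glauberman's Z*-theorem in fusion language** (conditional on the involution form). -/
theorem center_eq {G : Type u} [Group G] [Finite G] (h : Cfsg.Agent.Helper20.ZStarHyp.{u})
    (S : Sylow 2 G) :
    (Cfsg.groupFusionSystem (S : Subgroup G)).center =
      (S : Subgroup G) ⊓ (Subgroup.center (G ⧸ Cfsg.oddCore G)).comap
        (QuotientGroup.mk' (Cfsg.oddCore G)) := by
  apply le_antisymm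
  · exact sSup_le (fun Q hQ => central_le h S Q hQ)
  · apply le_sSup
    exact isCentral_of_le S _ inf_le_left (fun q hq => hq.2)

end Cfsg.Agent.Helper49.ZSFusion
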