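import Mathlib
import Cfsg.Agent.Lib.Helper20.ZStarCor
import Cfsg.Agent.Lib.Helper4.ElemAb

set_option autoImplicit false

/-!
# 2-rank one groups from the `Z*`-hypothesis (helper49)

Conditional on `Helper20.ZStarHyp` (the statement of S0215): a group of even order without a Klein
four-subgroup has an involution that is central modulo a normal subgroup of odd order.
-/

namespace Cfsg.Agent.Helper49

universe u

theorem exists_central_involution_of_sylow {G : Type*} [Group G] [Finite G]
    (heven : Even (Nat.card G)) (P : Sylow 2 G) :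
    ∃ z : G, orderOf z = 2 ∧ z ∈ (P : Subgroup G) ∧ ∀ s ∈ (P : Subgroup G), s * z = z * s := by
  have : Fact (Nat.Prime 2) := ⟨Nat.prime_two⟩
  have h2 : 2 ∣ Nat.card G := even_iff_two_dvd.mp heven
  have hPnt : Nontrivial (P : Subgroup G) := by
    have hcard : Nat.card (P : Subgroup G) ≠ 1 := by
      intro h1
      have hdvd : 2 ∣ Nat.card (P : Subgroup G) := P.dvd_card_of_dvd_card h2
      rw [h1] at hdvd
      exact absurd hdvd (by norm_num)
    rcases (Finite.one_lt_card_iff_nontrivial).mp
      (lt_of_le_of_ne Nat.card_pos hcard.symm) with h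
    exact h
  have hcn : Nontrivial (Subgroup.center (P : Subgroup G)) := P.isPGroup'.center_nontrivial
  have hpc : IsPGroup 2 (Subgroup.center (P : Subgroup G)) := P.isPGroup'.to_subgroup _
  obtain ⟨k, hk⟩ := IsPGroup.iff_card.mp hpc
  have hk0 : k ≠ 0 := by
    intro h0
    rw [h0, pow_zero] at hk
    have : Subsingleton (Subgroup.center (P : Subgroup G)) :=
      (Nat.card_eq_one_iff_unique.mp hk).1
    exact not_subsingleton _ this
  have hdvd : 2 ∣ Nat.card (Subgroup.center (P : Subgroup G)) := by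
    rw [hk]; exact dvd_pow_self 2 hk0
  obtain ⟨c, hc⟩ := exists_prime_orderOf_dvd_card' 2 hdvd
  refine ⟨((c : (P : Subgroup G)) : G), ?_, (c : (P : Subgroup G)).2, ?_⟩
  · rw [Subgroup.orderOf_coe, Subgroup.orderOf_coe]; exact hc
  · intro s hs
    have hmem := c.2
    rw [Subgroup.mem_center_iff] at hmem
    have := hmem ⟨s, hs⟩
    exact congrArg Subtype.val this

theorem rank_one_of_zstar (h : Cfsg.Agent.Helper20.ZStarHyp.{u}) {G : Type u} [Group G] [Finite G]
    (heven : Even (Nat.card G)) (hrank : ∀ E : Subgroup G, ¬ IsKleinFour E) :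
    ∃ z : G, orderOf z = 2 ∧ ∃ N : Subgroup G, N.Normal ∧ Odd (Nat.card N) ∧
      ∀ g : G, z * g * z⁻¹ * g⁻¹ ∈ N := by
  have : Fact (Nat.Prime 2) := ⟨Nat.prime_two⟩
  obtain ⟨P⟩ : Nonempty (Sylow 2 G) := inferInstance
  obtain ⟨z, hz, hzP, hzc⟩ := exists_central_involution_of_sylow heven P
  refine ⟨z, hz, ?_⟩
  have hzz : z * z = 1 := by
    have := pow_orderOf_eq_one z
    rw [hz, pow_two] at this; exact this
  have hz1 : z ≠ 1 := by
    intro h1; rw [h1, orderOf_one] at hz; norm_num at hz
  apply h G P z hz hzP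
  intro g hg
  by_contra hne
  set y := g * z * g⁻¹ with hy
  have hyy : y * y = 1 := by
    rw [hy]
    have : g * z * g⁻¹ * (g * z * g⁻¹) = g * (z * z) * g⁻¹ := by group
    rw [this, hzz]; group
  have hy1 : y ≠ 1 := by
    intro h1
    apply hz1
    have : g * z * g⁻¹ = 1 := h1
    have h2 : z = g⁻¹ * 1 * g := by rw [← this]; group
    rw [h2]; group
  have hcomm : z * y = y * z := (hzc y hg).symm
  exact hrank _ (Cfsg.Agent.Helper4.isKleinFour_fourSub hzz hyy hcomm hz1 hy1 (fun h => hne h.symm))

end Cfsg.Agent.Helper49
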